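import Cfsg.Agent.H14.PD.Split

/-!
# S4246, rows of the orthogonal groups: centralisers in `P Q` (helper14)

* `v_P`, `exists_lift_pgroup` : `p`-subgroups of `P Q` and of `E Q`;
* `v_Fx_inner` : the `p`-part of the centraliser of an element of odd prime order;
* `eq_one_of_comm` : no `p`-element commutes with `y` if `dim K y ≤ 2` and `R y` is irreducible or `Split`;
* `noOdd_of_comm` : `NoOdd` from `pcent`.
-/

set_option autoImplicit false
set_option linter.unusedSectionVars false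

namespace Cfsg.Agent.H14.PD

open QuadraticMap Module Cfsg.Agent.LieClassical.OrthCore Cfsg.Agent.LieClassical.OrthTrans
open Cfsg.Agent.ClassicalGeometry.OrthSemi Cfsg.Agent.ClassicalGeometry.OrthAut1
open Cfsg.Agent.H200.LinFix Cfsg.Agent.H200.RowOrth Cfsg.Agent.H568
open Cfsg.Agent.H160.PD (v v_mono v_eq_zero v_pos Fx mem_Fx NoOdd noOdd_of)

variable {F V : Type*} [Field F] [AddCommGroup V] [Module F V] {Q : QuadraticForm F V}

theorem center_bot_of_two (hG : Good Q) (h2 : (2 : F) = 0) : Subgroup.center ↥(E Q) = ⊥ := by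
  rw [eq_bot_iff]
  intro z hz
  obtain ⟨c, hc⟩ := center_scalar hG hz
  obtain ⟨x, y, h⟩ := hG.exists_hyp
  have h1 : Q (x + y) = 1 := by rw [Q_add, h.left, h.right, h.pair, add_zero, zero_add]
  have h3 : Q ((z : V ≃ₗ[F] V) (x + y)) = Q (x + y) := E_le_O z.2 _
  rw [hc, QuadraticMap.map_smul, h1, smul_eq_mul, mul_one] at h3
  have h4 : (c - 1) * (c - 1) = 0 := by linear_combination h3 + (1 - c) * h2
  have h5 : c = 1 := sub_eq_zero.1 (mul_self_eq_zero.1 h4)
  rw [Subgroup.mem_bot]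
  apply Subtype.ext
  ext w
  rw [hc, h5, one_smul]
  rfl

section fin

variable [Finite V]

/-- `p ≠ 2` or characteristic two -/
theorem not_dvd_center' (hG : Good Q) {p : ℕ} [hp : Fact p.Prime] (h : p ≠ 2 ∨ (2 : F) = 0) :
    ¬ p ∣ Nat.card (Subgroup.center ↥(E Q)) := by
  rcases h with h | h
  · exact not_dvd_center hG h
  · rw [center_bot_of_two hG h, Subgroup.card_bot]
    exact hp.out.one_lt.ne' ∘ Nat.dvd_one.1

theorem two_or_of_char {p : ℕ} (hpF : (p : F) = 0) : p ≠ 2 ∨ (2 : F) = 0 := by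
  by_cases h : p = 2
  · right
    subst h
    exact_mod_cast hpF
  · exact Or.inl h

theorem v_P (hG : Good Q) {p : ℕ} [hp : Fact p.Prime] (h : p ≠ 2 ∨ (2 : F) = 0) : v p (P Q) = v p ↥(E Q) := by
  have hfin : Finite ↥(E Q) := finite_E
  have h3 : Nat.card ↥(E Q) = Nat.card (P Q) * Nat.card (Subgroup.center ↥(E Q)) :=
    Subgroup.card_eq_card_quotient_mul_card_subgroup _
  rw [v, v, h3, Nat.factorization_mul Nat.card_pos.ne' Nat.card_pos.ne', Finsupp.add_apply,
    Nat.factorization_eq_zero_of_not_dvd (not_dvd_center' hG h), add_zero]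

/-- lifting a Sylow `p`-subgroup of a subgroup of `P Q` -/
theorem exists_lift_pgroup (hG : Good Q) {p : ℕ} [hp : Fact p.Prime] (h : p ≠ 2 ∨ (2 : F) = 0) (H : Subgroup (P Q)) :
    ∃ X : Subgroup ↥(E Q), IsPGroup p X ∧ v p X = v p H ∧ ∀ g ∈ X, (QuotientGroup.mk g : P Q) ∈ H := by
  have hfin : Finite ↥(E Q) := finite_E
  obtain ⟨S⟩ : Nonempty (Sylow p ↥H) := inferInstance
  have hR : IsPGroup p ↥((S : Subgroup ↥H).map H.subtype) := S.isPGroup'.map _
  obtain ⟨X, hX, hmap, -⟩ := Cfsg.Agent.SigZeroU5.exists_lift (Subgroup.center ↥(E Q)) le_rfl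
    (not_dvd_center' hG h) hR
  have hinj : Function.Injective ((QuotientGroup.mk' (Subgroup.center ↥(E Q))).comp X.subtype) := by
    rw [injective_iff_map_eq_one]
    rintro ⟨g, hg⟩ h1
    have h2 : g ∈ Subgroup.center ↥(E Q) := (QuotientGroup.eq_one_iff g).1 h1
    by_contra hne
    have h3 : g ≠ 1 := fun h0 => hne (Subtype.ext h0)
    obtain ⟨k, hk⟩ := (IsPGroup.iff_orderOf.1 hX) ⟨g, hg⟩
    rw [Subgroup.orderOf_mk] at hk
    have hk0 : k ≠ 0 := by
      rintro rfl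
      rw [pow_zero, orderOf_eq_one_iff] at hk
      exact h3 hk
    apply not_dvd_center' hG h
    have h4 : orderOf g ∣ Nat.card (Subgroup.center ↥(E Q)) := by
      have h5 := orderOf_dvd_natCard (⟨g, h2⟩ : Subgroup.center ↥(E Q))
      rwa [Subgroup.orderOf_mk] at h5
    exact (dvd_pow_self p hk0).trans (hk ▸ h4)
  refine ⟨X, hX, ?_, fun g hg => ?_⟩
  · have h1 : Nat.card X = Nat.card ↥((S : Subgroup ↥H).map H.subtype) := by
      rw [← hmap]
      have h2 : Nat.card X = Nat.card ((QuotientGroup.mk' (Subgroup.center ↥(E Q))).comp X.subtype).range :=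
        Nat.card_congr (MonoidHom.ofInjective hinj).toEquiv
      rw [h2, MonoidHom.range_comp, Subgroup.range_subtype]
    rw [v, h1, Cfsg.Agent.H160.PD.card_map_subtype, S.card_eq_multiplicity, hp.out.factorization_pow,
      Finsupp.single_eq_same]
  · have h1 : (QuotientGroup.mk g : P Q) ∈ (S : Subgroup ↥H).map H.subtype := by
      rw [← hmap]
      exact ⟨g, hg, rfl⟩
    obtain ⟨w, -, hw⟩ := h1
    rw [← hw]
    exact w.2

theorem lift_char (hG : Good Q) {p : ℕ} [hp : Fact p.Prime] (h : p ≠ 2 ∨ (2 : F) = 0) {x : P Q} (hx : x ^ p = 1) :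
    ∃ s : ↥(E Q), s ^ p = 1 ∧ (QuotientGroup.mk s : P Q) = x := by
  rcases h with h | h
  · exact lift_pow hG x (hp.out.odd_of_ne_two h) hx
  · obtain ⟨s, rfl⟩ := QuotientGroup.mk_surjective x
    refine ⟨s, ?_, rfl⟩
    have h1 : s ^ p ∈ Subgroup.center ↥(E Q) := by
      rw [← QuotientGroup.eq_one_iff]
      exact hx
    rw [center_bot_of_two hG h] at h1
    exact h1

/-- fixed points of an inner automorphism -/
theorem mem_Fx_conj {s : ↥(E Q)} {x : P Q} :
    x ∈ Fx (MulAut.conj (QuotientGroup.mk s : P Q)) ↔ (QuotientGroup.mk s : P Q) * x = x * QuotientGroup.mk s := by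
  rw [mem_Fx, MulAut.conj_apply, mul_inv_eq_iff_eq_mul]

/-- **The `p`-part of the fixed points of an inner automorphism of odd prime order.** -/
theorem v_Fx_inner [Finite F] (hG : Good Q) {p f : ℕ} [hp : Fact p.Prime] (hF : Nat.card F = p ^ f) (hpF : (p : F) = 0)
    (hsing : p ∣ Nat.card {w : V // Q w = 0}) (hN : 6 ≤ finrank F V) {t : ℕ} [ht : Fact t.Prime] (ht2 : t ≠ 2)
    (htF : (t : F) ≠ 0) {s : ↥(E Q)} (hs : s ^ t = 1) (hs1 : s ≠ 1) :
    v p (Fx (MulAut.conj (QuotientGroup.mk s : P Q))) + 2 * f ≤ v p (P Q) := by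
  have h2 := two_or_of_char (F := F) hpF
  obtain ⟨X, hX, hXv, hXm⟩ := exists_lift_pgroup hG h2 (Fx (MulAut.conj (QuotientGroup.mk s : P Q)))
  rw [← hXv, v_P hG h2]
  refine pbound hG hF hpF hsing hN ht2 htF hs hs1 hX fun g hg => ?_
  exact (comm_of_mk hG (ht.out.odd_of_ne_two ht2) hs (mem_Fx_conj.1 (hXm g hg))).symm

/-- a `p`-element trivial on `R y`, `dim K y ≤ 2` -/
theorem eq_one_of_triv [Finite F] (hpar : ∀ g : ↥(E Q), Even (finrank F (R (en Q g)))) {l : ℕ}
    (hlF : (l : F) ≠ 0) {y : ↥(E Q)} (hy : y ^ l = 1) (hK : finrank F (K (en Q y)) ≤ 2) {p k : ℕ} [hp : Fact p.Prime]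
    (hpF : (p : F) = 0) {s : ↥(E Q)} (hs : s ^ p ^ k = 1) (hsy : s * y = y * s)
    (htriv : ∀ w ∈ R (en Q y), en Q s w = w) : s = 1 := by
  classical
  have hfd : FiniteDimensional F V := inferInstance
  have hy' : en Q y ^ l = 1 := by rw [← map_pow, hy, map_one]
  have h1 := R_le_K hlF hy hsy htriv
  by_cases hK0 : K (en Q y) = ⊥
  · rw [hK0, le_bot_iff, R_eq_bot] at h1
    exact en_injective (h1.trans (map_one _).symm)
  -- a fixed vector in `K y`
  have hsK : ∀ w ∈ K (en Q y), en Q s w ∈ K (en Q y) := fun w hw => K_inv (by rw [← map_mul, hsy, map_mul]) hw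
  obtain ⟨w, hw, hw0, hsw⟩ : ∃ w ∈ K (en Q y), w ≠ 0 ∧ en Q s w = w := by
    let f : Function.End (K (en Q y)) := fun w => ⟨en Q s w, hsK w w.2⟩
    have hfk : ∀ (k : ℕ) (w : K (en Q y)), (((f ^ k) w : K (en Q y)) : V) = (en Q s ^ k) w := by
      intro k
      induction k with
      | zero => intro w; rfl
      | succ k ih =>
        intro w
        rw [pow_succ', pow_succ', Module.End.mul_apply, ← ih]
        rfl
    have hf : f ^ p ^ k = 1 := by
      funext w
      apply Subtype.ext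
      rw [hfk, ← map_pow, hs, map_one]
      rfl
    have hft : Fintype (K (en Q y)) := Fintype.ofFinite _
    have h2 := Equiv.Perm.card_fixedPoints_modEq (p := p) (n := k) hf
    have h3 : p ∣ Fintype.card (K (en Q y)) := by
      rw [← Nat.card_eq_fintype_card, Module.natCard_eq_pow_finrank (K := F)]
      refine dvd_pow (dvd_card_F hpF) fun h0 => hK0 (Submodule.finrank_eq_zero.1 h0)
    have h4 : p ∣ Fintype.card (Function.fixedPoints f) :=
      Nat.modEq_zero_iff_dvd.1 (h2.symm.trans (Nat.modEq_zero_iff_dvd.2 h3))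
    have h0 : (0 : K (en Q y)) ∈ Function.fixedPoints f := Subtype.ext (map_zero (en Q s))
    have h5 : 1 < Fintype.card (Function.fixedPoints f) :=
      lt_of_lt_of_le hp.out.one_lt (Nat.le_of_dvd (Fintype.card_pos_iff.2 ⟨⟨_, h0⟩⟩) h4)
    obtain ⟨⟨⟨w, hw⟩, hfw⟩, hne⟩ := Fintype.exists_ne_of_one_lt_card h5 (⟨0, h0⟩ : Function.fixedPoints f)
    exact ⟨w, hw, fun h => hne (Subtype.ext (Subtype.ext h)), congrArg Subtype.val hfw⟩
  -- `dim R s ≤ 1`
  have h2 : R (en Q y) ⊔ Submodule.span F {w} ≤ K (en Q s) := by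
    refine sup_le (fun u hu => mem_K.2 (htriv u hu)) ?_
    rw [Submodule.span_singleton_le_iff_mem]
    exact mem_K.2 hsw
  have h3 : R (en Q y) ⊓ Submodule.span F {w} = ⊥ := by
    rw [eq_bot_iff]
    rintro x ⟨hx, hx'⟩
    obtain ⟨c, rfl⟩ := Submodule.mem_span_singleton.1 hx'
    exact eq_zero_of_mem hy' hlF (mem_K.1 (Submodule.smul_mem _ c hw)) hx
  have h4 := Submodule.finrank_sup_add_finrank_inf_eq (R (en Q y)) (Submodule.span F {w})
  rw [h3, finrank_bot, finrank_span_singleton hw0] at h4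
  have h5 := Submodule.finrank_mono h2
  have h6 := finrank_add (en Q s)
  have h7 := finrank_add (en Q y)
  have h8 := hpar s
  have h9 : finrank F (R (en Q s)) = 0 := by
    rw [Nat.even_iff] at h8
    omega
  rw [Submodule.finrank_eq_zero, R_eq_bot] at h9
  exact en_injective (h9.trans (map_one _).symm)

/-- `R y` irreducible -/
theorem triv_irr [Finite F] {y : ↥(E Q)} (hirr : Irr (en Q y) (R (en Q y))) {p k : ℕ} [hp : Fact p.Prime]
    (hpF : (p : F) = 0) {s : ↥(E Q)} (hs : s ^ p ^ k = 1) (hsy : s * y = y * s) :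
    ∀ w ∈ R (en Q y), en Q s w = w := by
  refine triv_of_irr (y := en Q y) (k := k) (fun w hw => R_inv rfl hw) hirr
    (fun w hw => R_inv (by rw [← map_mul, hsy, map_mul]) hw) (fun w _ => ?_) hpF (fun w _ => ?_)
  · rw [← Module.End.mul_apply, ← Module.End.mul_apply, ← map_mul, ← map_mul, hsy]
  · rw [← map_pow, hs, map_one]
    rfl

/-- `R y = U ⊕ U'` -/
theorem triv_split [Finite F] (hG : Good Q) {l d : ℕ} [hl : Fact l.Prime] (hl2 : l ≠ 2) (hlF : (l : F) ≠ 0)
    {y : ↥(E Q)} (hy : y ^ l = 1) (hd : Ordd l (Nat.card F) d) (hdo : Odd d) {U U' : Submodule F V}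
    (h : Split Q y d U U') {p k : ℕ} [hp : Fact p.Prime]
    (hpF : (p : F) = 0) {s : ↥(E Q)} (hs : s ^ p ^ k = 1) (hsy : s * y = y * s) :
    ∀ w ∈ R (en Q y), en Q s w = w := by
  have hd0 := hdo.pos
  have hy' : en Q y ^ l = 1 := by rw [← map_pow, hy, map_one]
  have key : ∀ U U' : Submodule F V, Split Q y d U U' → ∀ w ∈ U, en Q s w = w := by
    intro U U' h
    refine triv_of_irr (y := en Q y) (k := k) h.inv (irr_of_lt hd hlF hy' h.le h.inv (by rw [h.dim]; omega))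
      (h.comm_inv hG hl2 hlF hy hd hdo hsy) (fun w _ => ?_) hpF (fun w _ => ?_)
    · rw [← Module.End.mul_apply, ← Module.End.mul_apply, ← map_mul, ← map_mul, hsy]
    · rw [← map_pow, hs, map_one]
      rfl
  intro w hw
  rw [← h.sup] at hw
  obtain ⟨a, ha, c, hc, rfl⟩ := Submodule.mem_sup.1 hw
  rw [map_add, key U U' h a ha, key U' U h.symm c hc]

/-- no `p`-element in the centraliser -/
theorem v_centralizer_zero (hG : Good Q) {l : ℕ} [hl : Fact l.Prime] (hl2 : l ≠ 2) {y : ↥(E Q)} (hy : y ^ l = 1)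
    {p : ℕ} [hp : Fact p.Prime] (hpF : (p : F) = 0) (h : ∀ s : ↥(E Q), s ^ p = 1 → s * y = y * s → s = 1) :
    v p (Subgroup.centralizer ({(QuotientGroup.mk y : P Q)} : Set (P Q))) = 0 := by
  have hfin : Finite ↥(E Q) := finite_E
  apply v_eq_zero
  intro hd
  obtain ⟨⟨x, hxc⟩, hx⟩ := exists_prime_orderOf_dvd_card' p hd
  rw [Subgroup.orderOf_mk] at hx
  obtain ⟨s, hs, rfl⟩ := lift_char hG (two_or_of_char hpF) (by rw [← hx, pow_orderOf_eq_one] : x ^ p = 1)
  have h1 := (comm_of_mk hG (hl.out.odd_of_ne_two hl2) hy ((Subgroup.mem_centralizer_singleton_iff).1 hxc).symm).symm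
  rw [h s hs h1, QuotientGroup.mk_one, orderOf_one] at hx
  exact hp.out.one_lt.ne hx

/-- **`NoOdd` from `pcent`.** -/
theorem noOdd_of_comm (hG : Good Q) {r s : ℕ} [hr : Fact r.Prime] [hs : Fact s.Prime] (hr2 : r ≠ 2) (hs2 : s ≠ 2)
    (hrs : r ≠ s) (hrF : (r : F) ≠ 0) (hsF : (s : F) ≠ 0) (hVr : finrank F V < 2 * r) (hVs : finrank F V < 2 * s)
    (h : ∀ y z : ↥(E Q), y ^ r = 1 → y ≠ 1 → z ^ s = 1 → z ≠ 1 → z * y ≠ y * z) : NoOdd (P Q) r s := by
  have hfin : Finite ↥(E Q) := finite_E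
  have key : ∀ {r s : ℕ} [hr : Fact r.Prime] [hs : Fact s.Prime], r ≠ 2 → s ≠ 2 → r ≠ s → (r : F) ≠ 0 →
      finrank F V < 2 * s → (∀ y z : ↥(E Q), y ^ r = 1 → y ≠ 1 → z ^ s = 1 → z ≠ 1 → z * y ≠ y * z) →
      ∀ X : Subgroup (P Q), IsPGroup r X → X ≠ ⊥ → ¬ s ∣ Nat.card (Subgroup.normalizer (X : Set (P Q))) := by
    intro r s hr hs hr2 hs2 hrs hrF hVs h X hX hX1 hd
    obtain ⟨⟨x, hxn⟩, hx⟩ := exists_prime_orderOf_dvd_card' s hd
    rw [Subgroup.orderOf_mk] at hx
    obtain ⟨z, hz, rfl⟩ := lift_pow hG x (hs.out.odd_of_ne_two hs2) (by rw [← hx, pow_orderOf_eq_one])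
    have hz1 : z ≠ 1 := by
      rintro rfl
      rw [QuotientGroup.mk_one, orderOf_one] at hx
      exact hs.out.one_lt.ne hx
    have hpc : PCent r (QuotientGroup.mk z : P Q) := pcent hG hr2 hs2 hrs.symm hrF hz hVs
    -- an element of order `r` in `X`
    have : Nontrivial X := (Subgroup.nontrivial_iff_ne_bot X).2 hX1
    obtain ⟨k, hk⟩ := IsPGroup.iff_card.1 hX
    have hrd : r ∣ Nat.card X := by
      have h1 : 1 < Nat.card X := Finite.one_lt_card_iff_nontrivial.2 this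
      rw [hk] at h1 ⊢
      apply dvd_pow_self
      rintro rfl
      simp at h1
    obtain ⟨⟨x', hx'X⟩, hx'⟩ := exists_prime_orderOf_dvd_card' r hrd
    rw [Subgroup.orderOf_mk] at hx'
    obtain ⟨y, hy, rfl⟩ := lift_pow hG x' (hr.out.odd_of_ne_two hr2) (by rw [← hx', pow_orderOf_eq_one])
    have hy1 : y ≠ 1 := by
      rintro rfl
      rw [QuotientGroup.mk_one, orderOf_one] at hx'
      exact hr.out.one_lt.ne hx'
    refine h y z hy hy1 hz hz1 ?_
    exact comm_of_mk hG (hs.out.odd_of_ne_two hs2) hz (hpc X hX hxn _ hx'X)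
  refine noOdd_of hr.out hs.out hrs (key hr2 hs2 hrs hrF hVs h) (key hs2 hr2 hrs.symm hsF hVr
    fun y z hy hy1 hz hz1 hc => h z y hz hz1 hy hy1 hc.symm)

end fin

end Cfsg.Agent.H14.PD
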