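import Cfsg.Agent.H14.PD.Plus

/-!
# S4246, row of `POmega^+_{2n}(q)`: the `t`-parts of the centralisers of the elements of order `r₀`, `r₁` (helper14)
-/

set_option autoImplicit false
set_option linter.unusedSectionVars false

namespace Cfsg.Agent.H14.PD

open QuadraticMap Module Cfsg.Agent.LieClassical.OrthCore Cfsg.Agent.LieClassical.OrthTrans
open Cfsg.Agent.ClassicalGeometry.OrthSemi Cfsg.Agent.ClassicalGeometry.OrthAut1
open Cfsg.Agent.H200.LinFix Cfsg.Agent.H200.RowOrth Cfsg.Agent.H568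
open Cfsg.Agent.H160.PD (v v_mono v_eq_zero v_pos Fx mem_Fx NoOdd noOdd_of)
open Cfsg.Agent.Classification.InvCentU.FiveLib (card_dvd_of_free)

variable {F V : Type*} [Field F] [AddCommGroup V] [Module F V] {Q : QuadraticForm F V}

variable {n p f d : ℕ} [Finite V] [Finite F]

/-- an element trivial on `R y` and on a nonzero vector of the plane `K y` -/
theorem eq_one_of_fix (hpar : ∀ g : ↥(E Q), Even (finrank F (R (en Q g)))) {l : ℕ}
    (hlF : (l : F) ≠ 0) {y : ↥(E Q)} (hy : y ^ l = 1) (hK : finrank F (K (en Q y)) ≤ 2)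
    {s : ↥(E Q)} (htriv : ∀ w ∈ R (en Q y), en Q s w = w) {w : V} (hw : w ∈ K (en Q y)) (hw0 : w ≠ 0)
    (hsw : en Q s w = w) : s = 1 := by
  have hfd : FiniteDimensional F V := inferInstance
  have hy' : en Q y ^ l = 1 := by rw [← map_pow, hy, map_one]
  have h2 : R (en Q y) ⊔ Submodule.span F {w} ≤ K (en Q s) := by
    refine sup_le (fun u hu => mem_K.2 (htriv u hu)) ?_
    rw [Submodule.span_singleton_le_iff_mem]
    exact mem_K.2 hsw
  have h3 : R (en Q y) ⊓ Submodule.span F {w} = ⊥ := by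
    rw [eq_bot_iff]
    rintro x ⟨hx, hx'⟩
    obtain ⟨c, rfl⟩ := Submodule.mem_span_singleton.1 hx'
    exact eq_zero_of_mem hy' hlF (mem_K.1 (Submodule.smul_mem _ c hw)) hx
  have h4 := Submodule.finrank_sup_add_finrank_inf_eq (R (en Q y)) (Submodule.span F {w})
  rw [h3, finrank_bot, finrank_span_singleton hw0] at h4
  have h5 := Submodule.finrank_mono h2
  have h6 := finrank_add (en Q s)
  have h7 := finrank_add (en Q y)
  have h8 := hpar s
  have h9 : finrank F (R (en Q s)) = 0 := by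
    rw [Nat.even_iff] at h8
    omega
  rw [Submodule.finrank_eq_zero, R_eq_bot] at h9
  exact en_injective (h9.trans (map_one _).symm)

theorem comm_K {y s : ↥(E Q)} (h : s ∈ Subgroup.centralizer ({y} : Set ↥(E Q))) : ∀ w ∈ K (en Q y), en Q s w ∈ K (en Q y) :=
  fun w hw => K_inv (by rw [← map_mul, ← map_mul, Subgroup.mem_centralizer_singleton_iff.1 h]) hw

/-- the number of nonzero vectors -/
theorem card_ne_zero (W : Submodule F V) : Nat.card {v : V // v ∈ W ∧ v ≠ 0} = Nat.card F ^ finrank F W - 1 := by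
  classical
  have h1 : Nat.card W = Nat.card (Option {v : V // v ∈ W ∧ v ≠ 0}) := by
    refine Nat.card_congr ⟨fun v => if h : (v : V) = 0 then none else some ⟨v, v.2, h⟩,
      fun v => v.elim 0 (fun v => ⟨v, v.2.1⟩), ?_, ?_⟩
    · intro v
      by_cases h : (v : V) = 0
      · simp only [h, dif_pos]
        exact Subtype.ext h.symm
      · simp only [h, dif_neg, not_false_eq_true]
        rfl
    · rintro (_ | v)
      · simp
      · have := v.2.2
        simp [this]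
  rw [Finite.card_option, Module.natCard_eq_pow_finrank (K := F)] at h1
  omega

/-- `g v = c v` for an element `g` of odd prime power order and a nonsingular vector `v` -/
theorem smul_eq_one {g : ↥(E Q)} {w : V} (hw0 : w ≠ 0) (hQw : Q w ≠ 0) {c : F} (h3 : (g : V ≃ₗ[F] V) w = c • w) {t k : ℕ}
    (ht : t.Prime) (ht2 : t ≠ 2) (hg : g ^ t ^ k = 1) : c = 1 := by
  have h4 : Q ((g : V ≃ₗ[F] V) w) = Q w := E_le_O g.2 w
  rw [h3, QuadraticMap.map_smul, smul_eq_mul] at h4
  have h5 : c * c = 1 := by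
    have h6 : (c * c - 1) * Q w = 0 := by rw [sub_mul, h4, one_mul, sub_self]
    exact sub_eq_zero.1 ((mul_eq_zero.1 h6).resolve_right hQw)
  have h9 : ∀ i : ℕ, ((g ^ i : ↥(E Q)) : V ≃ₗ[F] V) w = c ^ i • w := by
    intro i
    induction i with
    | zero => rw [pow_zero, pow_zero, one_smul]; rfl
    | succ i ih =>
      rw [pow_succ, pow_succ]
      change ((g ^ i : ↥(E Q)) : V ≃ₗ[F] V) ((g : V ≃ₗ[F] V) w) = _
      rw [h3, map_smul, ih, smul_smul, mul_comm]
  have h10 := h9 (t ^ k)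
  rw [hg] at h10
  have h11 : (c ^ t ^ k - 1) • w = 0 := by
    rw [sub_smul, ← h10, one_smul]
    exact sub_self w
  have h12 : c ^ t ^ k = 1 := sub_eq_zero.1 ((smul_eq_zero.1 h11).resolve_right hw0)
  obtain ⟨j, hj⟩ : ∃ j, t ^ k = 2 * j + 1 := (ht.odd_of_ne_two ht2).pow
  rw [hj, pow_succ, pow_mul, pow_two, h5, one_pow, one_mul] at h12
  exact h12

/-- a `t`-group trivial on `R y`, anisotropic plane -/
theorem card_dvd_aniso (hpar : ∀ g : ↥(E Q), Even (finrank F (R (en Q g)))) {l : ℕ}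
    (hlF : (l : F) ≠ 0) {y : ↥(E Q)} (hy : y ^ l = 1) (hK : finrank F (K (en Q y)) = 2)
    (hns : ∀ w ∈ K (en Q y), Q w = 0 → w = 0) {t : ℕ} (ht : t.Prime) (ht2 : t ≠ 2)
    {T : Subgroup ↥(E Q)} (hT : IsPGroup t T) (hTy : ∀ g ∈ T, g ∈ Subgroup.centralizer ({y} : Set ↥(E Q)))
    (hTR : ∀ c ∈ T, ∀ w ∈ R (en Q y), (c : V ≃ₗ[F] V) w = w) : Nat.card T ∣ Nat.card F + 1 := by
  classical
  have hfinE : Finite ↥(E Q) := finite_E
  let act : MulAction (↥T × Fˣ) {v : V // v ∈ K (en Q y) ∧ v ≠ 0} :=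
    { smul := fun g v => ⟨(g.2 : F) • (g.1.1 : V ≃ₗ[F] V) v,
        Submodule.smul_mem _ _ (comm_K (hTy _ g.1.2) v v.2.1),
        fun h => v.2.2 ((LinearEquiv.map_eq_zero_iff _).1 ((smul_eq_zero.1 h).resolve_left g.2.ne_zero))⟩
      one_smul := fun v => Subtype.ext (by
        change ((1 : Fˣ) : F) • (v : V) = v
        rw [Units.val_one, one_smul])
      mul_smul := fun g h v => Subtype.ext (by
        change ((g.2 * h.2 : Fˣ) : F) • (g.1.1 : V ≃ₗ[F] V) ((h.1.1 : V ≃ₗ[F] V) v) =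
          (g.2 : F) • (g.1.1 : V ≃ₗ[F] V) ((h.2 : F) • (h.1.1 : V ≃ₗ[F] V) v)
        rw [map_smul, smul_smul, Units.val_mul]) }
  have h1 := card_dvd_of_free (A := ↥T × Fˣ) (X := {v : V // v ∈ K (en Q y) ∧ v ≠ 0}) (by
    rintro ⟨g, c⟩ ⟨w, hw, hw0⟩ hgw
    have h2 : (c : F) • (g.1 : V ≃ₗ[F] V) w = w := congrArg Subtype.val hgw
    have h3 : (g.1 : V ≃ₗ[F] V) w = ((c⁻¹ : Fˣ) : F) • w := by
      conv_rhs => rw [← h2]
      rw [smul_smul, Units.inv_mul, one_smul]
    obtain ⟨k, hk⟩ := hT g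
    have h8 : ((c⁻¹ : Fˣ) : F) = 1 := smul_eq_one (g := g.1) hw0 (fun h => hw0 (hns w hw h)) h3 ht ht2
      (congrArg Subtype.val hk)
    have h9 : c = 1 := inv_eq_one.1 (Units.ext h8)
    have h10 : g.1 = 1 := by
      refine eq_one_of_fix hpar hlF hy hK.le (fun u hu => hTR _ g.2 u hu) hw hw0 ?_
      change (g.1 : V ≃ₗ[F] V) w = w
      rw [h3, h8, one_smul]
    exact Prod.ext (Subtype.ext h10) h9)
  rw [Nat.card_prod, card_ne_zero, hK, Nat.card_units] at h1
  have hq : 1 < Nat.card F := Finite.one_lt_card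
  have h2 : Nat.card F ^ 2 - 1 = (Nat.card F + 1) * (Nat.card F - 1) := Nat.sq_sub_sq (Nat.card F) 1
  rw [h2] at h1
  exact Nat.dvd_of_mul_dvd_mul_right (by omega) h1

/-- the kernel on `R y`, anisotropic plane -/
theorem v_ker_aniso (hpar : ∀ g : ↥(E Q), Even (finrank F (R (en Q g)))) {l : ℕ}
    (hlF : (l : F) ≠ 0) {y : ↥(E Q)} (hy : y ^ l = 1) (hK : finrank F (K (en Q y)) = 2)
    (hns : ∀ w ∈ K (en Q y), Q w = 0 → w = 0)
    {L : Subgroup ↥(Subgroup.centralizer ({y} : Set ↥(E Q)))} (hL : ∀ c ∈ L, ∀ w ∈ R (en Q y), (c.1 : V ≃ₗ[F] V) w = w)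
    {t : ℕ} (ht : t.Prime) (ht2 : t ≠ 2) : v t L ≤ (Nat.card F + 1).factorization t := by
  classical
  have htF := Fact.mk ht
  have hfinE : Finite ↥(E Q) := finite_E
  obtain ⟨T⟩ : Nonempty (Sylow t ↥L) := inferInstance
  have h1 := card_dvd_aniso hpar hlF hy hK hns ht ht2
    (T := (((T : Subgroup ↥L).map L.subtype).map (Subgroup.centralizer ({y} : Set ↥(E Q))).subtype))
    ((T.isPGroup'.map _).map _) (by
      rintro _ ⟨g, -, rfl⟩
      exact g.2) (by
      rintro _ ⟨_, ⟨g, -, rfl⟩, rfl⟩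
      exact hL g.1 g.2)
  rw [Cfsg.Agent.H160.PD.card_map_subtype, Cfsg.Agent.H160.PD.card_map_subtype, T.card_eq_multiplicity] at h1
  exact (ht.pow_dvd_iff_le_factorization (by omega)).1 h1

/-- the kernel on `R y`, hyperbolic plane -/
theorem v_ker_hyp (hG : Good Q) (hpar : ∀ g : ↥(E Q), Even (finrank F (R (en Q g)))) {l : ℕ}
    (hlF : (l : F) ≠ 0) {y : ↥(E Q)} (hy : y ^ l = 1) (hK : finrank F (K (en Q y)) = 2) {e : V} (he : e ∈ K (en Q y))
    (he0 : e ≠ 0) (hQe : Q e = 0)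
    {L : Subgroup ↥(Subgroup.centralizer ({y} : Set ↥(E Q)))} (hL : ∀ c ∈ L, ∀ w ∈ R (en Q y), (c.1 : V ≃ₗ[F] V) w = w)
    {t : ℕ} (ht : t.Prime) (ht2 : t ≠ 2) : v t L ≤ (Nat.card F - 1).factorization t := by
  classical
  have hfinE : Finite ↥(E Q) := finite_E
  have hy' : en Q y ^ l = 1 := by rw [← map_pow, hy, map_one]
  have hnd : ∀ v ∈ K (en Q y), (∀ u ∈ K (en Q y), polarBilin Q u v = 0) → v = 0 := fun w hw h =>
    nondeg_K (isom_en y) (polar_nondeg hG) hy' hlF hw h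
  have h1 := card_sing_plane hK hnd he he0 hQe
  have hq : 1 < Nat.card F := Finite.one_lt_card
  have h2 : Nat.card {v : V // v ∈ K (en Q y) ∧ Q v = 0 ∧ v ≠ 0} = 2 * (Nat.card F - 1) := by
    have h3 : Nat.card {v : V // v ∈ K (en Q y) ∧ Q v = 0} =
        Nat.card (Option {v : V // v ∈ K (en Q y) ∧ Q v = 0 ∧ v ≠ 0}) := by
      refine Nat.card_congr ⟨fun v => if h : (v : V) = 0 then none else some ⟨v, v.2.1, v.2.2, h⟩,
        fun v => v.elim ⟨0, Submodule.zero_mem _, QuadraticMap.map_zero _⟩ (fun v => ⟨v, v.2.1, v.2.2.1⟩), ?_, ?_⟩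
      · intro v
        by_cases h : (v : V) = 0
        · simp only [h, dif_pos]
          exact Subtype.ext h.symm
        · simp only [h, dif_neg, not_false_eq_true]
          rfl
      · rintro (_ | v)
        · simp
        · have := v.2.2.2
          simp [this]
    rw [Finite.card_option] at h3
    omega
  let act : MulAction ↥L {v : V // v ∈ K (en Q y) ∧ Q v = 0 ∧ v ≠ 0} :=
    { smul := fun g v => ⟨(g.1.1 : V ≃ₗ[F] V) v, comm_K g.1.2 v v.2.1, by rw [E_le_O g.1.1.2]; exact v.2.2.1,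
        fun h => v.2.2.2 (LinearEquiv.map_eq_zero_iff _ |>.1 h)⟩
      one_smul := fun v => rfl
      mul_smul := fun g h v => rfl }
  have h3 := card_dvd_of_free (A := ↥L) (X := {v : V // v ∈ K (en Q y) ∧ Q v = 0 ∧ v ≠ 0}) (by
    rintro g ⟨w, hw, hQw, hw0⟩ hgw
    apply Subtype.ext
    apply Subtype.ext
    exact eq_one_of_fix hpar hlF hy hK.le (fun u hu => hL _ g.2 u hu) hw hw0 (congrArg Subtype.val hgw))
  rw [h2] at h3
  have h4 : Nat.card F - 1 ≠ 0 := by omega
  have h5 := (Nat.factorization_le_iff_dvd Nat.card_pos.ne' (mul_ne_zero two_ne_zero h4)).2 h3 t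
  rw [Nat.factorization_mul two_ne_zero h4, Finsupp.add_apply, Nat.factorization_eq_zero_of_not_dvd (n := 2)
    (fun h => ht2 ((Nat.prime_dvd_prime_iff_eq ht Nat.prime_two).1 h)), zero_add] at h5
  exact h5

theorem v_le_of_index {G : Type*} [Group G] [Finite G] {L : Subgroup G} {N : ℕ} (hN : N ≠ 0) (h : L.index ∣ N) (t : ℕ) :
    v t G ≤ v t L + N.factorization t := by
  have h1 := L.card_mul_index
  have h2 : L.index ≠ 0 := Subgroup.index_ne_zero_of_finite
  simp only [v]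
  rw [← h1, Nat.factorization_mul Nat.card_pos.ne' h2, Finsupp.add_apply]
  exact Nat.add_le_add_left ((Nat.factorization_le_iff_dvd h2 hN).2 h t) _

/-- the `t`-part of the centraliser of an element of order `r₀` -/
theorem Plus.v_cent_first (H : Plus Q n p f) {l : ℕ} [hl : Fact l.Prime] (hl2 : l ≠ 2) (hlF : (l : F) ≠ 0)
    (hd : Ordd l (Nat.card F) (2 * (n - 1))) (hld : l ∣ Nat.card F ^ (n - 1) + 1) {y : ↥(E Q)} (hy : y ^ l = 1)
    (hy1 : y ≠ 1) {t : ℕ} (ht : t.Prime) (ht2 : t ≠ 2) : v t (Subgroup.centralizer ({y} : Set ↥(E Q))) ≤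
      (Nat.card F ^ (n - 1) + 1).factorization t + (Nat.card F + 1).factorization t := by
  have hfinE : Finite ↥(E Q) := finite_E
  have hn := H.hn
  obtain ⟨h1, h2⟩ := H.dim_first hlF hd hy hy1
  obtain ⟨L, hL, hLi⟩ := Cfsg.Agent.H311.PD.exists_kernel H.good hl2 hlF hy hy1 (H.irr_first hlF hd hy) h1
  have h3 := v_ker_aniso H.hpar hlF hy h2 (fun w hw hQw => no_sing_K H.good (by omega) H.hV H.hsing hl2 hlF hd hld hy hy1
    hw hQw) (fun c hc => (hL c).1 hc) ht ht2
  have h4 := v_le_of_index (show Nat.card F ^ (n - 1) + 1 ≠ 0 from Nat.succ_ne_zero _) hLi t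
  omega

/-- the action of the centraliser of `y` on `U` -/
theorem exists_kernel_split (hG : Good Q) {l : ℕ} [hl : Fact l.Prime] (hl2 : l ≠ 2) (hlF : (l : F) ≠ 0)
    {y : ↥(E Q)} (hy : y ^ l = 1) (hd : Ordd l (Nat.card F) d) (hdo : Odd d) {U U' : Submodule F V}
    (h : Split Q y d U U') :
    ∃ L : Subgroup ↥(Subgroup.centralizer ({y} : Set ↥(E Q))),
      (∀ c ∈ L, ∀ w ∈ R (en Q y), (c.1 : V ≃ₗ[F] V) w = w) ∧ L.index ∣ Nat.card F ^ d - 1 := by
  classical
  have hfinE : Finite ↥(E Q) := finite_E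
  have hfd : FiniteDimensional F V := inferInstance
  have hd0 := hdo.pos
  have hy' : en Q y ^ l = 1 := by rw [← map_pow, hy, map_one]
  have hU0 : U ≠ ⊥ := by
    rintro rfl
    have := h.dim
    rw [finrank_bot] at this
    omega
  have hn : Nontrivial U := Submodule.nontrivial_iff_ne_bot.2 hU0
  have hirr : Irr (en Q y) U := irr_of_lt hd hlF hy' h.le h.inv (by rw [h.dim]; omega)
  have hcomm : ∀ c : ↥(Subgroup.centralizer ({y} : Set ↥(E Q))), c.1 * y = y * c.1 := fun c =>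
    Subgroup.mem_centralizer_singleton_iff.1 c.2
  have hcU : ∀ c : ↥(Subgroup.centralizer ({y} : Set ↥(E Q))), ∀ w ∈ U, en Q c.1 w ∈ U := fun c =>
    h.comm_inv hG hl2 hlF hy hd hdo (hcomm c)
  let ρ : ↥(Subgroup.centralizer ({y} : Set ↥(E Q))) →* Module.End F U :=
    { toFun := fun c => (en Q c.1).restrict (hcU c)
      map_one' := by
        refine LinearMap.ext fun w => Subtype.ext ?_
        change en Q 1 (w : V) = w
        rw [map_one]; rfl
      map_mul' := fun a b => by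
        refine LinearMap.ext fun w => Subtype.ext ?_
        change en Q (a.1 * b.1) (w : V) = en Q a.1 (en Q b.1 w)
        rw [map_mul]; rfl }
  have hρ : ∀ c, ρ c * (en Q y).restrict h.inv = (en Q y).restrict h.inv * ρ c := fun c => by
    refine LinearMap.ext fun w => Subtype.ext ?_
    change en Q c.1 (en Q y w) = en Q y (en Q c.1 w)
    rw [← Module.End.mul_apply, ← Module.End.mul_apply, ← map_mul, ← map_mul, hcomm]
  obtain ⟨L, hL, hLi⟩ := Cfsg.Agent.H311.PD.card_range_dvd (g := (en Q y).restrict h.inv) (hirr.restrict h.inv) ρ hρ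
    (n := Nat.card F ^ d - 1) (fun c => by
      have hP : Fact (Irreducible (minpoly F ((en Q y).restrict h.inv))) :=
        ⟨irreducible_minpoly (hirr.restrict h.inv)⟩
      obtain ⟨k, hk⟩ := exists_phi (hirr.restrict h.inv) (hρ c)
      obtain ⟨w, hw⟩ := exists_ne (0 : U)
      have hfin : Finite (KK ((en Q y).restrict h.inv)) := Finite.of_injective _ (phi_bijective (hirr.restrict h.inv) w hw).1
      have hft : Fintype (KK ((en Q y).restrict h.inv)) := Fintype.ofFinite _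
      have hc : Fintype.card (KK ((en Q y).restrict h.inv)) = Nat.card F ^ d := by
        rw [← Nat.card_eq_fintype_card, Module.natCard_eq_pow_finrank (K := F), finrank_KK (hirr.restrict h.inv), h.dim]
      have hk0 : k ≠ 0 := by
        rintro rfl
        rw [map_zero] at hk
        have h1 : ρ c * ρ c⁻¹ = 1 := by rw [← map_mul, mul_inv_cancel, map_one]
        rw [hk, zero_mul] at h1
        exact zero_ne_one h1
      rw [hk, ← map_pow, ← hc, FiniteField.pow_card_sub_one_eq_one k hk0, map_one])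
  refine ⟨L, fun c hc w hw => ?_, hLi⟩
  have h1 : ∀ u ∈ U, en Q c.1 u = u := fun u hu =>
    congrArg Subtype.val (LinearMap.congr_fun ((hL c).1 hc) ⟨u, hu⟩)
  have h2 : ∀ u ∈ U', en Q c.1 u = u := by
    intro u hu
    have hcU' : en Q c.1 u ∈ U' := h.symm.comm_inv hG hl2 hlF hy hd hdo (hcomm c) u hu
    have hmem : en Q c.1 u - u ∈ U' := Submodule.sub_mem _ hcU' hu
    rw [← sub_eq_zero]
    refine nondeg_R (isom_en y) (polar_nondeg hG) hy' hlF (h.le' hmem) fun a ha => ?_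
    rw [← h.sup] at ha
    obtain ⟨b, hb, b', hb', rfl⟩ := Submodule.mem_sup.1 ha
    rw [map_add, LinearMap.add_apply, h.ti' b' hb' _ hmem, add_zero, map_sub, sub_eq_zero]
    conv_lhs => rw [← h1 b hb]
    exact isom_en c.1 b u
  rw [← h.sup] at hw
  obtain ⟨b, hb, b', hb', rfl⟩ := Submodule.mem_sup.1 hw
  change en Q c.1 (b + b') = b + b'
  rw [map_add, h1 b hb, h2 b' hb']

/-- the `t`-part of the centraliser of an element of order `r₁`, `n` odd -/
theorem Plus.v_cent_second_odd (H : Plus Q n p f) (hdo : Odd n) {l : ℕ} [hl : Fact l.Prime] (hl2 : l ≠ 2)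
    (hlF : (l : F) ≠ 0) (hd : Ordd l (Nat.card F) n) (hld : l ∣ Nat.card F ^ n - 1) {y : ↥(E Q)} (hy : y ^ l = 1)
    (hy1 : y ≠ 1) (t : ℕ) : v t (Subgroup.centralizer ({y} : Set ↥(E Q))) ≤ (Nat.card F ^ n - 1).factorization t := by
  have hfinE : Finite ↥(E Q) := finite_E
  have hfd : FiniteDimensional F V := inferInstance
  have hn := H.hn
  obtain ⟨h1, h2⟩ := H.dim_second ⟨hdo, Or.inl rfl⟩ hl2 hlF hd hy hy1
  obtain ⟨U, U', hU⟩ := exists_split H.good hl2 hlF hy hd hld hdo h1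
  obtain ⟨L, hL, hLi⟩ := exists_kernel_split H.good hl2 hlF hy hd hdo hU
  have h3 : R (en Q y) = ⊤ := Submodule.eq_top_of_finrank_eq (by rw [h1, H.hV])
  have h4 : L = ⊥ := by
    rw [eq_bot_iff]
    intro c hc
    rw [Subgroup.mem_bot]
    apply Subtype.ext
    apply Subtype.ext
    ext w
    exact hL c hc w (h3 ▸ Submodule.mem_top)
  have hq : 1 < Nat.card F := Finite.one_lt_card
  have h5 : Nat.card F ^ n - 1 ≠ 0 := by
    have := Nat.one_lt_pow (n := n) (by omega) hq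
    omega
  have h6 := v_le_of_index h5 hLi t
  rw [h4] at h6
  have h7 : v t ↥(⊥ : Subgroup ↥(Subgroup.centralizer ({y} : Set ↥(E Q)))) = 0 := by
    rw [v, Subgroup.card_bot, Nat.factorization_one]; rfl
  rw [h7, zero_add] at h6
  exact h6

/-- the `t`-part of the centraliser of an element of order `r₁`, `n` even -/
theorem Plus.v_cent_second_even (H : Plus Q n p f) (hdo : Odd (n - 1)) {l : ℕ} [hl : Fact l.Prime] (hl2 : l ≠ 2)
    (hlF : (l : F) ≠ 0) (hd : Ordd l (Nat.card F) (n - 1)) (hld : l ∣ Nat.card F ^ (n - 1) - 1) {y : ↥(E Q)} (hy : y ^ l = 1)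
    (hy1 : y ≠ 1) {t : ℕ} (ht : t.Prime) (ht2 : t ≠ 2) : v t (Subgroup.centralizer ({y} : Set ↥(E Q))) ≤
      (Nat.card F ^ (n - 1) - 1).factorization t + (Nat.card F - 1).factorization t := by
  have hfinE : Finite ↥(E Q) := finite_E
  have hfd : FiniteDimensional F V := inferInstance
  have hn := H.hn
  obtain ⟨h1, h2⟩ := H.dim_second ⟨hdo, Or.inr rfl⟩ hl2 hlF hd hy hy1
  have h3 := finrank_add (en Q y)
  rw [h1, H.hV] at h3
  obtain ⟨U, U', hU⟩ := exists_split H.good hl2 hlF hy hd hld hdo h1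
  obtain ⟨L, hL, hLi⟩ := exists_kernel_split H.good hl2 hlF hy hd hdo hU
  obtain ⟨e, he, he0, hQe⟩ := sing_K (by omega) H.hsing hl2 hd hld hy
  have h4 := v_ker_hyp H.good H.hpar hlF hy (by omega) he he0 hQe hL ht ht2
  have hq : 1 < Nat.card F := Finite.one_lt_card
  have h5 : Nat.card F ^ (n - 1) - 1 ≠ 0 := by
    have := Nat.one_lt_pow (n := n - 1) (by omega) hq
    omega
  have h6 := v_le_of_index h5 hLi t
  omega

end Cfsg.Agent.H14.PD
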