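import Cfsg.Agent.H160.PD.Crit

/-!
# S4246: the criterion with two primes, with `Inc` replaced by a hypothesis on the configurations (helper14)
-/

set_option autoImplicit false
set_option linter.unusedSectionVars false

namespace Cfsg.Agent.H14.PD

open Subgroup Cfsg.Agent.H160.PD

variable {S : Type*} [Group S] [Finite S]

/-! ### two primes and the characteristic -/

/-- **The hypotheses of the criterion with two primes** `r₀, r₁` for a group in characteristic `p`. -/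
structure TwoE (S : Type*) [Group S] (p r₀ r₁ c₀ c₁ cE m₀ m₁ : ℕ) : Prop where
  prime : p.Prime
  good₀ : Good S r₀
  good₁ : Good S r₁
  /-- the `p`-parts of the centralisers of the elements of order `r_i` -/
  cent₀ : ∀ x : S, orderOf x = r₀ → v p (centralizer {x}) ≤ c₀
  cent₁ : ∀ x : S, orderOf x = r₁ → v p (centralizer {x}) ≤ c₁
  noOdd : NoOdd S r₀ r₁
  exc : ∀ (π : Set ℕ) (L K L' K' : Subgroup (MulAut S)), Cfg π L K L' K' → r₀ ∣ Nat.card (tr K) → r₁ ∣ Nat.card (tr K) → False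
  /-- the automorphisms fixing elements of order `r_i` -/
  syl₀ : ∀ b : MulAut S, (orderOf b).Prime → orderOf b ≠ 2 → orderOf b ≠ p → ∀ x : S, orderOf x = r₀ → b x = x →
    v p (Fx b) + max c₁ cE + (out S).factorization p < v p S
  syl₁ : ∀ b : MulAut S, (orderOf b).Prime → orderOf b ≠ 2 → orderOf b ≠ p → ∀ x : S, orderOf x = r₁ → b x = x →
    v p (Fx b) + max c₀ cE + (out S).factorization p < v p S
  cc : c₀ + c₁ + (out S).factorization p < v p S
  /-- the other primes -/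
  num : ∀ t, t.Prime → t ≠ 2 → t ≠ p → t ∣ Nat.card S → t ≠ r₀ → t ≠ r₁ →
    ((out S).factorization t < v t S ∧ ∀ y : S, orderOf y = t → v p (centralizer {y}) ≤ cE) ∨
    ∀ x y : S, orderOf x = r₀ → orderOf y = r₁ →
      v t (centralizer {x}) + v t (centralizer {y}) + (out S).factorization t < v t S
  /-- subgroups of odd order containing elements of order `r_i` -/
  odd₀ : p ≠ 2 → ∀ H : Subgroup S, Odd (Nat.card H) → r₀ ∣ Nat.card H → v p H ≤ m₀
  odd₁ : p ≠ 2 → ∀ H : Subgroup S, Odd (Nat.card H) → r₁ ∣ Nat.card H → v p H ≤ m₁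
  n₀ : p ≠ 2 → m₀ + c₁ + (out S).factorization p < v p S
  n₁ : p ≠ 2 → m₁ + c₀ + (out S).factorization p < v p S
  n₀₁ : p ≠ 2 → m₀ + m₁ + (out S).factorization p < v p S

theorem TwoE.symm {p r₀ r₁ c₀ c₁ cE m₀ m₁ : ℕ} (h : TwoE S p r₀ r₁ c₀ c₁ cE m₀ m₁) :
    TwoE S p r₁ r₀ c₁ c₀ cE m₁ m₀ where
  prime := h.prime
  good₀ := h.good₁
  good₁ := h.good₀
  cent₀ := h.cent₁
  cent₁ := h.cent₀
  noOdd := h.noOdd.symm
  exc := fun π L K L' K' hC h1 h2 => h.exc π L K L' K' hC h2 h1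
  syl₀ := h.syl₁
  syl₁ := h.syl₀
  cc := by have := h.cc; omega
  num := fun t h1 h2 h3 h4 h5 h6 => by
    rcases h.num t h1 h2 h3 h4 h6 h5 with h7 | h7
    · exact Or.inl h7
    · exact Or.inr fun x y hx hy => by have := h7 y x hy hx; omega
  odd₀ := h.odd₁
  odd₁ := h.odd₀
  n₀ := h.n₁
  n₁ := h.n₀
  n₀₁ := fun hp => by have := h.n₀₁ hp; omega

namespace TwoE

variable {p r₀ r₁ c₀ c₁ cE m₀ m₁ : ℕ} {π : Set ℕ} {L K L' K' : Subgroup (MulAut S)}

/-- `p ∉ π`, `r₀` in `L` -/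
theorem caseOne (hZ : center S = ⊥) (H : TwoE S p r₀ r₁ c₀ c₁ cE m₀ m₁) (h : Cfg π L K L' K') (hp : p ∉ π)
    (h0 : r₀ ∣ Nat.card (tr L)) : False := by
  obtain ⟨x, hx, hxo⟩ := Cfg.exists_mem H.good₀.prime h0
  have h1 := (v_mono (h.trK_le_centralizer hZ hx) p).trans (H.cent₀ x hxo)
  have h2 := v_le hZ K p
  have h3 := h.numK p H.prime hp
  rcases h.cover hZ H.good₁ with (h4 | h4) | (h4 | h4)
  · exact h.exclLL hZ H.noOdd h0 h4
  · exact h.exclLK hZ H.good₀.prime H.good₀.odd H.good₁.prime H.good₁.odd H.noOdd h0 h4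
  · obtain ⟨y, hy, hyo⟩ := Cfg.exists_mem H.good₁.prime h4
    have h5 := (v_mono (h.symm.trK_le_centralizer hZ hy) p).trans (H.cent₁ y hyo)
    have h6 := H.cc
    simp only [v] at *
    omega
  · obtain ⟨y, hy, hyo⟩ := Cfg.exists_mem H.good₁.prime h4
    obtain ⟨b, hb, t, ht, htπ, ht2, hbo⟩ := h.symm.exists_prime
    have h5 := v_mono (h.symm.trK_le hZ hb) p
    have h6 := H.syl₁ b (hbo ▸ ht) (by rw [hbo]; exact ht2) (by rw [hbo]; rintro rfl; exact hp htπ) y hyo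
      (h.symm.fix hZ hb hy)
    have h7 := le_max_left c₀ cE
    simp only [v] at *
    omega

/-- `p ∉ π`, `r₀` in `K`, `r₁` in `K'` -/
theorem caseThree (hZ : center S = ⊥) (H : TwoE S p r₀ r₁ c₀ c₁ cE m₀ m₁) (h : Cfg π L K L' K') (hp : p ∉ π)
    (h0 : r₀ ∣ Nat.card (tr K)) (h1 : r₁ ∣ Nat.card (tr K')) : False := by
  obtain ⟨x, hx, hxo⟩ := Cfg.exists_mem H.good₀.prime h0
  obtain ⟨y, hy, hyo⟩ := Cfg.exists_mem H.good₁.prime h1
  obtain ⟨t, ht, htπ, htS⟩ := h.dvd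
  have ht2 : t ≠ 2 := fun h0 => h.two (h0 ▸ htπ)
  have htp : t ≠ p := fun h0 => hp (h0 ▸ htπ)
  have htr : t ≠ r₀ := fun h2 => h.not_mem_pi_of_dvd hZ H.good₀.prime h0 (h2 ▸ htπ)
  have htr' : t ≠ r₁ := fun h2 => h.symm.not_mem_pi_of_dvd hZ H.good₁.prime h1 (h2 ▸ htπ)
  rcases H.num t ht ht2 htp htS htr htr' with ⟨h2, h3⟩ | h2
  · rcases h.mem_L_or hZ ht htπ h2 with ⟨z, hz, hzo⟩ | ⟨z, hz, hzo⟩
    · have h4 := (v_mono (h.trK_le_centralizer hZ hz) p).trans (h3 z hzo)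
      have h5 := v_le hZ K p
      have h6 := h.numK p H.prime hp
      obtain ⟨b, hb, u, hu, huπ, hu2, hbo⟩ := h.symm.exists_prime
      have h7 := v_mono (h.symm.trK_le hZ hb) p
      have h8 := H.syl₁ b (hbo ▸ hu) (by rw [hbo]; exact hu2) (by rw [hbo]; rintro rfl; exact hp huπ) y hyo
        (h.symm.fix hZ hb hy)
      have h9 := le_max_right c₀ cE
      simp only [v] at *
      omega
    · have h4 := (v_mono (h.symm.trK_le_centralizer hZ hz) p).trans (h3 z hzo)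
      have h5 := v_le hZ K' p
      have h6 := h.numK' p H.prime hp
      obtain ⟨b, hb, u, hu, huπ, hu2, hbo⟩ := h.exists_prime
      have h7 := v_mono (h.trK_le hZ hb) p
      have h8 := H.syl₀ b (hbo ▸ hu) (by rw [hbo]; exact hu2) (by rw [hbo]; rintro rfl; exact hp huπ) x hxo
        (h.fix hZ hb hx)
      have h9 := le_max_right c₁ cE
      simp only [v] at *
      omega
  · have h3 := h2 x y hxo hyo
    have h4 := v_mono (h.trL_le_centralizer hZ hx) t
    have h5 := v_mono (h.symm.trL_le_centralizer hZ hy) t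
    have h6 := v_le hZ L t
    have h7 := h.numL t ht htπ
    simp only [v] at *
    omega

/-- `p ∈ π`, `r₀` in `K` -/
theorem caseFour (hZ : center S = ⊥) (H : TwoE S p r₀ r₁ c₀ c₁ cE m₀ m₁) (h : Cfg π L K L' K') (hp : p ∈ π)
    (h0 : r₀ ∣ Nat.card (tr K)) : False := by
  have hp2 : p ≠ 2 := fun h1 => h.two (h1 ▸ hp)
  obtain ⟨x, hx, hxo⟩ := Cfg.exists_mem H.good₀.prime h0
  have h1 := (v_mono (h.trL_le_centralizer hZ hx) p).trans (H.cent₀ x hxo)
  have h2 := v_le hZ L p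
  have h3 := h.numL p H.prime hp
  rcases h.cover hZ H.good₁ with (h4 | h4) | (h4 | h4)
  · exact h.exclLK hZ H.good₁.prime H.good₁.odd H.good₀.prime H.good₀.odd H.noOdd.symm h4 h0
  · exact H.exc _ _ _ _ _ h h0 h4
  · have h5 := H.odd₁ hp2 (tr L') (h.symm.odd hZ) h4
    have h6 := H.n₁ hp2
    simp only [v] at *
    omega
  · obtain ⟨y, hy, hyo⟩ := Cfg.exists_mem H.good₁.prime h4
    have h5 := (v_mono (h.symm.trL_le_centralizer hZ hy) p).trans (H.cent₁ y hyo)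
    have h6 := H.cc
    simp only [v] at *
    omega

/-- `p ∈ π`, `r₀` in `L`, `r₁` in `L'` -/
theorem caseSix (hZ : center S = ⊥) (H : TwoE S p r₀ r₁ c₀ c₁ cE m₀ m₁) (h : Cfg π L K L' K') (hp : p ∈ π)
    (h0 : r₀ ∣ Nat.card (tr L)) (h1 : r₁ ∣ Nat.card (tr L')) : False := by
  have hp2 : p ≠ 2 := fun h1 => h.two (h1 ▸ hp)
  have h2 := v_le hZ L p
  have h3 := h.numL p H.prime hp
  have h4 := H.odd₀ hp2 (tr L) (h.odd hZ) h0
  have h5 := H.odd₁ hp2 (tr L') (h.symm.odd hZ) h1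
  have h6 := H.n₀₁ hp2
  simp only [v] at *
  omega

/-- **The criterion with two primes.** -/
theorem row (hZ : center S = ⊥) (H : TwoE S p r₀ r₁ c₀ c₁ cE m₀ m₁) : Row S := by
  have key : ∀ (π : Set ℕ) (L K L' K' : Subgroup (MulAut S)), Cfg π L K L' K' → In L K r₀ → False := by
    intro π L K L' K' h hI
    have hK1 : ¬ (r₀ ∣ Nat.card (tr K) ∧ r₁ ∣ Nat.card (tr K)) := fun h0 =>
      H.exc _ _ _ _ _ h h0.1 h0.2
    have hK2 : ¬ (r₁ ∣ Nat.card (tr L) ∧ r₀ ∣ Nat.card (tr K)) := fun h0 =>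
      h.exclLK hZ H.good₁.prime H.good₁.odd H.good₀.prime H.good₀.odd H.noOdd.symm h0.1 h0.2
    have hK3 : ¬ (r₀ ∣ Nat.card (tr L) ∧ r₁ ∣ Nat.card (tr K)) := fun h0 =>
      h.exclLK hZ H.good₀.prime H.good₀.odd H.good₁.prime H.good₁.odd H.noOdd h0.1 h0.2
    have hK4 : ¬ (r₀ ∣ Nat.card (tr L) ∧ r₁ ∣ Nat.card (tr L)) := fun h0 => h.exclLL hZ H.noOdd h0.1 h0.2
    have c1 := h.cover hZ H.good₁
    by_cases hp : p ∈ π
    · have e1 := H.caseFour hZ h hp
      have e2 := H.symm.caseFour hZ h.symm hp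
      have e3 := H.caseSix hZ h hp
      unfold In at *
      tauto
    · have e1 := H.caseOne hZ h hp
      have e2 := H.symm.caseOne hZ h.symm hp
      have e3 := H.caseThree hZ h hp
      unfold In at *
      tauto
  intro π L K L' K' h
  rcases h.cover hZ H.good₀ with h0 | h0
  · exact key _ _ _ _ _ h h0
  · exact key _ _ _ _ _ h.symm h0

end TwoE

end Cfsg.Agent.H14.PD
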