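import Cfsg.Agent.H14.PD.OddH
import Cfsg.Agent.H200.RowOrthH

/-!
# S4246, row of `POmega^+_{2n}(q)`: field automorphisms (helper14)
-/

set_option autoImplicit false
set_option linter.unusedSectionVars false

namespace Cfsg.Agent.H14.PD

open QuadraticMap Module Cfsg.Agent.LieClassical.OrthCore Cfsg.Agent.LieClassical.OrthTrans
open Cfsg.Agent.ClassicalGeometry.OrthSemi Cfsg.Agent.ClassicalGeometry.OrthAut1
open Cfsg.Agent.H200.LinFix Cfsg.Agent.H200.RowOrth Cfsg.Agent.H568
open Cfsg.Agent.H160.PD (v v_mono v_eq_zero v_pos Fx mem_Fx NoOdd noOdd_of Uniq odd_bound_of_uniq out)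

variable {F V : Type*} [Field F] [AddCommGroup V] [Module F V] {Q : QuadraticForm F V} [Finite V] [Finite F]

variable {n p f d : ℕ}

/-- irreducibility from a primitive prime for the prime field -/
theorem irrZ_on {g : Module.End F V} {r f e l : ℕ} [hl : Fact l.Prime] (hr : r.Prime) (hF : Nat.card F = r ^ f)
    (hd : ∀ m, l ∣ r ^ m - 1 → f * e ∣ m) (hlF : (l : F) ≠ 0) (hg : g ^ l = 1) {W : Submodule F V} (hWR : W ≤ R g)
    (hW : finrank F W ≤ e) : IrrZ g W := by
  classical
  intro U hU hgU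
  let g' : Module.End ℤ V := g.toAddMonoidHom.toIntLinearMap
  let U' : Submodule ℤ V := AddSubgroup.toIntSubmodule U
  have hpow : ∀ (n : ℕ) (v : V), (g' ^ n) v = (g ^ n) v := by
    intro n
    induction n with
    | zero => intro v; rfl
    | succ n ih => intro v; rw [pow_succ, pow_succ, Module.End.mul_apply, Module.End.mul_apply, ih]; rfl
  have h1 : Nat.card U' ≡ 1 [MOD l] := card_modEq (g := g') (W := U') (fun w hw => hgU w hw)
    (fun w _ => by rw [hpow, hg]; rfl) (fun w hw h => eq_zero_of_mem hg hlF h (hWR (hU w hw)))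
  have h2 : Nat.card U' ∣ Nat.card W := by
    have h3 : U ≤ W.toAddSubgroup := fun u hu => hU u hu
    exact AddSubgroup.card_dvd_of_le h3
  have h3 : Nat.card W = r ^ (f * finrank F W) := by
    rw [Module.natCard_eq_pow_finrank (K := F), hF, ← pow_mul]
  rw [h3] at h2
  obtain ⟨j, hj, hjU⟩ := (Nat.dvd_prime_pow hr).1 h2
  rw [hjU] at h1
  have h4 : l ∣ r ^ j - 1 := (Nat.modEq_iff_dvd' (Nat.one_le_pow _ _ hr.pos)).1 h1.symm
  obtain ⟨c, hc⟩ := hd j h4
  rcases Nat.eq_zero_or_pos c with h0 | h0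
  · left
    rw [hc, h0, mul_zero, pow_zero] at hjU
    exact AddSubgroup.card_eq_one.1 hjU
  · right
    have h5 : j = f * finrank F W := by
      apply le_antisymm hj
      calc f * finrank F W ≤ f * e := Nat.mul_le_mul_left _ hW
        _ ≤ f * e * c := Nat.le_mul_of_pos_right _ h0
        _ = j := hc.symm
    have h6 : U = W.toAddSubgroup := by
      apply AddSubgroup.eq_of_le_of_card_ge (fun u hu => hU u hu)
      have h7 : Nat.card W.toAddSubgroup = Nat.card U := by
        change Nat.card W = Nat.card U'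
        rw [h3, hjU, h5]
      exact h7.le
    intro w hw
    rw [h6]
    exact hw

/-- a semilinear map commuting with `y`, leaving an irreducible subspace invariant -/
theorem ss_eq_one {M : Equiv.Perm V} {σ : F ≃+* F} {c : F} (hM : IsSS Q σ c M) {g : Module.End F V}
    {W : Submodule F V} (hgW : ∀ w ∈ W, g w ∈ W) (hMW : ∀ w ∈ W, M w ∈ W) (hW : W ≠ ⊥) (hirr : IrrZ g W)
    (hcomm : ∀ v, M (g v) = g (M v)) : σ = 1 := by
  let g' : Module.End ℤ V := g.toAddMonoidHom.toIntLinearMap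
  let a : Module.End ℤ V := (AddMonoidHom.mk' M hM.add).toIntLinearMap
  have hWirr : Irr g' (W.restrictScalars ℤ) := by
    intro U hU hgU
    rcases hirr U.toAddSubgroup (fun u hu => hU hu) (fun u hu => hgU u hu) with h1 | h1
    · left
      rw [eq_bot_iff]
      intro u hu
      have h2 : u ∈ U.toAddSubgroup := hu
      rw [h1, AddSubgroup.mem_bot] at h2
      exact h2
    · right
      exact le_antisymm hU fun w hw => h1 w hw
  obtain ⟨w, hw, hw0⟩ := Submodule.exists_mem_ne_zero_of_ne_bot hW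
  ext lam
  let b : Module.End ℤ V := (AddMonoidHom.mk' (fun v : V => lam • v) (fun u v => smul_add lam u v)).toIntLinearMap
  have h1 := schur (g := g') (a := a) (b := b) (W := W.restrictScalars ℤ) hWirr
    (fun w hw => hgW w hw) (fun w hw => hMW w hw) (fun w hw => W.smul_mem lam hw)
    (fun w _ => hcomm w) (fun w _ => (g.map_smul lam w).symm) hw
  have h2 : M (lam • w) = lam • M w := h1
  rw [hM.smul] at h2
  have h3 : (σ lam - lam) • M w = 0 := by rw [sub_smul, h2, sub_self]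
  rcases smul_eq_zero.1 h3 with h4 | h4
  · exact sub_eq_zero.1 h4
  · exact absurd (M.injective (h4.trans hM.map_zero.symm)) hw0

/-- the image of a subspace under a semilinear map -/
theorem exists_image {M : Equiv.Perm V} {σ : F ≃+* F} {c : F} (hM : IsSS Q σ c M) (U : Submodule F V) :
    ∃ W : Submodule F V, (∀ w, w ∈ W ↔ ∃ u ∈ U, M u = w) ∧ finrank F W = finrank F U := by
  let W : Submodule F V :=
    { carrier := {w | ∃ u ∈ U, M u = w}
      add_mem' := by
        rintro _ _ ⟨a, ha, rfl⟩ ⟨b, hb, rfl⟩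
        exact ⟨a + b, U.add_mem ha hb, hM.add a b⟩
      zero_mem' := ⟨0, U.zero_mem, hM.map_zero⟩
      smul_mem' := by
        rintro x _ ⟨a, ha, rfl⟩
        refine ⟨σ.symm x • a, U.smul_mem _ ha, ?_⟩
        rw [hM.smul, RingEquiv.apply_symm_apply] }
  refine ⟨W, fun w => Iff.rfl, ?_⟩
  have h1 : Nat.card W = Nat.card U := by
    refine Nat.card_congr (Equiv.ofBijective (fun u : U => (⟨M u, u, u.2, rfl⟩ : W)) ⟨?_, ?_⟩).symm
    · intro a b h
      exact Subtype.ext (M.injective (congrArg Subtype.val h))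
    · rintro ⟨_, u, hu, rfl⟩
      exact ⟨⟨u, hu⟩, rfl⟩
  rw [Module.natCard_eq_pow_finrank (K := F) (V := W), Module.natCard_eq_pow_finrank (K := F) (V := U)] at h1
  exact Nat.pow_right_injective (show 2 ≤ Nat.card F from Finite.one_lt_card) h1

theorem ss_split_false {M : Equiv.Perm V} {σ : F ≃+* F} {c : F} (hM : IsSS Q σ c M) (hσ : σ ≠ 1) {k : ℕ} (hk : Odd k)
    (hσk : σ ^ k = 1) {y : ↥(E Q)} {U U' : Submodule F V} (hd0 : 0 < d) (h : Split Q y d U U')
    (hcomm : ∀ v, M (en Q y v) = en Q y (M v)) (hirr : IrrZ (en Q y) U) : False := by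
  have hfd : FiniteDimensional F V := inferInstance
  have hRd : finrank F (R (en Q y)) = 2 * d := by
    have h1 := Submodule.finrank_sup_add_finrank_inf_eq U U'
    rw [h.sup, h.inf, finrank_bot, h.dim, h.dim'] at h1
    omega
  have key : ∀ W : Submodule F V, W ≤ R (en Q y) → (∀ w ∈ W, en Q y w ∈ W) → finrank F W = d →
      (∀ w ∈ W, M w ∈ U) ∨ (∀ w ∈ W, M w ∈ U') := by
    intro W hWR hyW hWd
    obtain ⟨X, hX, hXd⟩ := exists_image hM W
    have h1 : X ≤ R (en Q y) := by
      intro x hx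
      obtain ⟨w, hw, rfl⟩ := (hX x).1 hx
      obtain ⟨w', rfl⟩ := hWR hw
      refine ⟨M w', ?_⟩
      change en Q y (M w') - M w' = M (en Q y w' - w')
      rw [hM.sub, hcomm]
    have h2 : ∀ x ∈ X, en Q y x ∈ X := by
      intro x hx
      obtain ⟨w, hw, rfl⟩ := (hX x).1 hx
      rw [← hcomm]
      exact (hX _).2 ⟨_, hyW w hw, rfl⟩
    rcases h.all X h1 h2 with h3 | h3 | h3 | h3
    · rw [h3, finrank_bot] at hXd
      omega
    · left
      intro w hw
      rw [← h3]
      exact (hX _).2 ⟨w, hw, rfl⟩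
    · right
      intro w hw
      rw [← h3]
      exact (hX _).2 ⟨w, hw, rfl⟩
    · rw [h3, hRd] at hXd
      omega
  have hU0 : U ≠ ⊥ := by
    intro h0
    have := h.dim
    rw [h0, finrank_bot] at this
    omega
  have hU0' : U' ≠ ⊥ := by
    intro h0
    have := h.dim'
    rw [h0, finrank_bot] at this
    omega
  rcases key U h.le h.inv h.dim with h1 | h1
  · exact hσ (ss_eq_one hM h.inv h1 hU0 hirr hcomm)
  · have h2 : ∀ w ∈ U', M w ∈ U := by
      rcases key U' h.le' h.inv' h.dim' with h2 | h2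
      · exact h2
      · exfalso
        obtain ⟨X, hX, hXd⟩ := exists_image hM U
        have h3 : X = U' := by
          apply Submodule.eq_of_le_of_finrank_eq
          · intro x hx
            obtain ⟨w, hw, rfl⟩ := (hX x).1 hx
            exact h1 w hw
          · rw [hXd, h.dim, h.dim']
        obtain ⟨w, hw, hw0⟩ := Submodule.exists_mem_ne_zero_of_ne_bot hU0'
        have h4 : M w ∈ X := by rw [h3]; exact h2 w hw
        obtain ⟨u, hu, huw⟩ := (hX _).1 h4
        have h5 : u = w := M.injective huw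
        subst h5
        have h6 : u ∈ U ⊓ U' := ⟨hu, hw⟩
        rw [h.inf, Submodule.mem_bot] at h6
        exact hw0 h6
    have h3 := ss_eq_one (isSS_pow hM 2) h.inv (fun w hw => h2 _ (h1 w hw)) hU0 hirr (fun w => by
      change M (M (en Q y w)) = en Q y (M (M w))
      rw [hcomm, hcomm])
    apply hσ
    obtain ⟨j, rfl⟩ := hk
    rw [pow_succ, pow_mul, h3, one_pow, one_mul] at hσk
    exact hσk

/-- the order of `σ` -/
theorem sigma_pow (hG : Good Q) {k : ℕ} {M : Gam Q} {σ : F ≃+* F} {c : F}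
    (hM : IsSS Q σ c M.1) (ha : orderOf (Psi Q M) = k) : σ ^ k = 1 := by
  have h1 : M ^ k ∈ (Psi Q).ker := by
    rw [MonoidHom.mem_ker, map_pow, ← ha, pow_orderOf_eq_one]
  rw [ker_Psi hG] at h1
  obtain ⟨a, ha'⟩ := h1
  have h2 : IsSS Q (1 : F ≃+* F) ((a : F) * a) (M ^ k).1 := by
    rw [← ha']
    refine ⟨mul_ne_zero a.ne_zero a.ne_zero, fun u v => smul_add _ _ _, fun b v => smul_comm _ _ _, fun v => ?_⟩
    rw [scal_apply, QuadraticMap.map_smul]
    rfl
  exact (isSS_unique (exists_ne hG) (isSS_pow hM k) h2).1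

/-- **Automorphisms of odd prime order fixing an element of order `r₀`.** -/
theorem Plus.lift_first (H : Plus Q n p f) [IsSimpleGroup (P Q)] {l : ℕ} [hl : Fact l.Prime] (hl2 : l ≠ 2)
    (hlF : (l : F) ≠ 0) (hd : Ordd l (Nat.card F) (2 * (n - 1))) (hsup : ∀ m, l ∣ p ^ m - 1 → f * (2 * (n - 1)) ∣ m)
    {b : MulAut (P Q)} (hb : (orderOf b).Prime) (hb2 : orderOf b ≠ 2) (hM : ∃ M : Gam Q, b = Psi Q M)
    {x : P Q} (hx : orderOf x = l) (hbx : b x = x) :
    ∃ t y : ↥(E Q), t ^ orderOf b = 1 ∧ t ≠ 1 ∧ b = MulAut.conj (QuotientGroup.mk t : P Q) ∧ y ^ l = 1 ∧ y ≠ 1 ∧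
      (QuotientGroup.mk y : P Q) = x ∧ t * y = y * t := by
  have hG := H.good
  have hbF := Fact.mk hb
  obtain ⟨M, hM⟩ := hM
  have hlo := hl.out.odd_of_ne_two hl2
  obtain ⟨y, hy, hy1, hyx⟩ := H.exists_lift hl.out hl2 hx
  rcases inner_or_field hG hb hb2 (M := M) (by rw [← hM]) with ⟨g, hg⟩ | ⟨σ, c, hMs, hσ⟩
  · obtain ⟨t, ht, ht1, hat⟩ := exists_lift_elt hG hb2 (a := b) rfl (s := g) (by rw [hM, hg]) (not_comm_P hG)
    refine ⟨t, y, ht, ht1, hat, hy, hy1, hyx, ?_⟩
    rw [hat, MulAut.conj_apply, mul_inv_eq_iff_eq_mul, ← hyx] at hbx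
    exact (comm_of_mk hG hlo hy hbx.symm).symm
  · exfalso
    refine not_fixed_field hG hl2 hMs hσ (fun z hz => ?_) hx (by rw [← hM]; exact hbx)
    by_cases hz1 : z = 1
    · subst hz1
      intro U hU _
      left
      rw [eq_bot_iff]
      intro u hu
      have h2 := hU u hu
      rw [map_one, R_eq_bot.2 rfl] at h2
      exact h2
    · have hz' : en Q z ^ l = 1 := by rw [← map_pow, hz, map_one]
      exact irrZ_of H.prime H.hF hsup hlF hz' (H.dim_first hlF hd hz hz1).1.le

/-- **Automorphisms of odd prime order fixing an element of order `r₁`.** -/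
theorem Plus.lift_second (H : Plus Q n p f) (hO : Odg n d) [IsSimpleGroup (P Q)] {l : ℕ} [hl : Fact l.Prime] (hl2 : l ≠ 2)
    (hlF : (l : F) ≠ 0) (hd : Ordd l (Nat.card F) d) (hld : l ∣ Nat.card F ^ d - 1)
    (hsup : (∀ m, l ∣ p ^ m - 1 → f * d ∣ m) ∨ f ≤ 2)
    {b : MulAut (P Q)} (hb : (orderOf b).Prime) (hb2 : orderOf b ≠ 2) (hM : ∃ M : Gam Q, b = Psi Q M)
    {x : P Q} (hx : orderOf x = l) (hbx : b x = x) :
    ∃ t y : ↥(E Q), t ^ orderOf b = 1 ∧ t ≠ 1 ∧ b = MulAut.conj (QuotientGroup.mk t : P Q) ∧ y ^ l = 1 ∧ y ≠ 1 ∧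
      (QuotientGroup.mk y : P Q) = x ∧ t * y = y * t := by
  have hG := H.good
  have hbF := Fact.mk hb
  have hfd : FiniteDimensional F V := inferInstance
  obtain ⟨M, hM⟩ := hM
  have hlo := hl.out.odd_of_ne_two hl2
  obtain ⟨y, hy, hy1, hyx⟩ := H.exists_lift hl.out hl2 hx
  rcases inner_or_field hG hb hb2 (M := M) (by rw [← hM]) with ⟨g, hg⟩ | ⟨σ, c, hMs, hσ⟩
  · obtain ⟨t, ht, ht1, hat⟩ := exists_lift_elt hG hb2 (a := b) rfl (s := g) (by rw [hM, hg]) (not_comm_P hG)
    refine ⟨t, y, ht, ht1, hat, hy, hy1, hyx, ?_⟩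
    rw [hat, MulAut.conj_apply, mul_inv_eq_iff_eq_mul, ← hyx] at hbx
    exact (comm_of_mk hG hlo hy hbx.symm).symm
  · exfalso
    have hMb : orderOf (Psi Q M) = orderOf b := by rw [← hM]
    rcases hsup with hsup | hf2
    · have h2 := conj_fix hG hlo hy (M := M) (by rw [← hM, hyx]; exact hbx)
      obtain ⟨U, U', hU⟩ := exists_split H.good hl2 hlF hy hd hld hO.odd (H.dim_second hO hl2 hlF hd hy hy1).1
      have hy' : en Q y ^ l = 1 := by rw [← map_pow, hy, map_one]
      refine ss_split_false hMs hσ (hb.odd_of_ne_two hb2) (sigma_pow hG hMs hMb) hO.odd.pos hU (fun v => ?_)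
        (irrZ_on H.prime H.hF hsup hlF hy' hU.le hU.dim.le)
      rw [en_apply, en_apply, ← conjLin_apply', ← coe_conjE, h2]
    · have h1 := field_dvd hG hb hMs hσ hMb H.prime H.hF
      have h2 := Nat.le_of_dvd H.hf h1
      have h3 := hb.two_le
      omega

end Cfsg.Agent.H14.PD
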