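import Cfsg.Agent.H14.PD.Plus
import Cfsg.Agent.H311.PD.Norm

/-!
# S4246, rows of the orthogonal groups: `p`-subgroups commuting with or normalised by an element of prime order
(helper14)
-/

set_option autoImplicit false
set_option linter.unusedSectionVars false

namespace Cfsg.Agent.H14.PD

open QuadraticMap Module Cfsg.Agent.LieClassical.OrthCore Cfsg.Agent.LieClassical.OrthTrans
open Cfsg.Agent.ClassicalGeometry.OrthSemi Cfsg.Agent.ClassicalGeometry.OrthAut1
open Cfsg.Agent.H200.LinFix Cfsg.Agent.H200.RowOrth Cfsg.Agent.H568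
open Cfsg.Agent.H160.PD (v v_mono v_eq_zero v_pos Fx mem_Fx NoOdd noOdd_of)

variable {F V : Type*} [Field F] [AddCommGroup V] [Module F V] {Q : QuadraticForm F V}

/-- the fixed vectors -/
def fixS (X : Subgroup ↥(E Q)) : Submodule F V where
  carrier := {w | ∀ g ∈ X, en Q g w = w}
  add_mem' := fun {a b} ha hb g hg => by rw [map_add, ha g hg, hb g hg]
  zero_mem' := fun g _ => map_zero _
  smul_mem' := fun c v hv g hg => by rw [map_smul, hv g hg]

theorem mem_fixS {X : Subgroup ↥(E Q)} {w : V} : w ∈ fixS X ↔ ∀ g ∈ X, en Q g w = w := Iff.rfl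

theorem fixS_inv {X : Subgroup ↥(E Q)} {y : ↥(E Q)} (hy : ∀ g ∈ X, y⁻¹ * g * y ∈ X) {w : V} (hw : w ∈ fixS X) :
    en Q y w ∈ fixS X := by
  intro g hg
  have h3 := hw _ (hy g hg)
  have h4 : g * y = y * (y⁻¹ * g * y) := by group
  rw [← Module.End.mul_apply, ← map_mul, h4, map_mul, Module.End.mul_apply, h3]

section fin

variable [Finite V]

/-- a `p`-group has a nonzero fixed vector in each invariant subspace -/
theorem exists_fix {p : ℕ} [hp : Fact p.Prime] [Finite F] (hpF : (p : F) = 0) {X : Subgroup ↥(E Q)}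
    (hX : IsPGroup p X) {W : Submodule F V} (hW : W ≠ ⊥) (hXW : ∀ g ∈ X, ∀ w ∈ W, en Q g w ∈ W) :
    ∃ w ∈ W, w ≠ 0 ∧ w ∈ fixS X := by
  classical
  have hfd : FiniteDimensional F V := inferInstance
  let act : MulAction ↥X W :=
    { smul := fun g w => ⟨en Q (g : ↥(E Q)) w, hXW g g.2 w w.2⟩
      one_smul := fun w => Subtype.ext rfl
      mul_smul := fun g h w => Subtype.ext rfl }
  have h1 := hX.card_modEq_card_fixedPoints W
  have hpW : p ∣ Nat.card W := by
    rw [Module.natCard_eq_pow_finrank (K := F)]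
    refine dvd_pow (dvd_card_F hpF) fun h0 => hW (Submodule.finrank_eq_zero.1 h0)
  have h2 : p ∣ Nat.card (MulAction.fixedPoints ↥X W) :=
    Nat.modEq_zero_iff_dvd.1 (h1.symm.trans (Nat.modEq_zero_iff_dvd.2 hpW))
  have h0 : (0 : W) ∈ MulAction.fixedPoints ↥X W := fun g => Subtype.ext (map_zero (en Q (g : ↥(E Q))))
  have h3 : 0 < Nat.card (MulAction.fixedPoints ↥X W) := Nat.card_pos_iff.2 ⟨⟨⟨_, h0⟩⟩, inferInstance⟩
  have h4 : 1 < Nat.card (MulAction.fixedPoints ↥X W) := lt_of_lt_of_le hp.out.one_lt (Nat.le_of_dvd h3 h2)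
  have h5 : Nontrivial (MulAction.fixedPoints ↥X W) := Finite.one_lt_card_iff_nontrivial.1 h4
  obtain ⟨⟨⟨u, hu⟩, hfix⟩, hne⟩ := _root_.exists_ne (⟨_, h0⟩ : MulAction.fixedPoints ↥X W)
  refine ⟨u, hu, fun h => hne (Subtype.ext (Subtype.ext h)), fun g hg => ?_⟩
  exact congrArg Subtype.val (hfix ⟨g, hg⟩)

theorem finrank_perp [FiniteDimensional F V] (hG : Good Q) (D : Submodule F V) :
    finrank F (LinearMap.BilinForm.orthogonal (polarBilin Q) D) + finrank F D = finrank F V := by
  have hnd : (polarBilin Q).Nondegenerate := by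
    constructor
    · intro v h
      exact polar_nondeg hG v fun u => by rw [polarBilin_apply_apply, polar_comm]; exact h u
    · intro v h
      exact polar_nondeg hG v fun u => h u
  have h1 := LinearMap.BilinForm.finrank_orthogonal hnd D
  have h5 : finrank F D ≤ finrank F V := Submodule.finrank_le _
  omega

/-- `p`-subgroups fixing `u` and acting trivially on `D` modulo a subspace not containing `u` -/
theorem v_le_of_D (hG : Good Q) {p f : ℕ} [hp : Fact p.Prime] (hF : Nat.card F = p ^ f) (hpF : (p : F) = 0)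
    {X : Subgroup ↥(E Q)} (hX : IsPGroup p X) {u : V} (hu : Q u = 0) (hu0 : u ≠ 0)
    (hfix : ∀ g ∈ X, (g : V ≃ₗ[F] V) u = u) {D S₀ : Submodule F V} (huS : u ∉ S₀) (hDu : ∀ w ∈ D, polar Q u w = 0)
    (hD : ∀ g ∈ X, ∀ w ∈ D, (g : V ≃ₗ[F] V) w - w ∈ S₀) : v p X + f * finrank F D ≤ v p ↥(E Q) + f := by
  have hfd : FiniteDimensional F V := inferInstance
  have h1 := enlarge hG hF hpF hX hu hu0 hfix (C := LinearMap.BilinForm.orthogonal (polarBilin Q) D) fun w hw hwX d hd => by
    have h2 := hD _ hwX d hd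
    rw [sg_apply, hDu d hd, mul_zero, zero_smul, zero_smul, add_zero, sub_zero, sub_sub_cancel_left] at h2
    by_contra hne
    apply huS
    have h3 : polar Q w d ≠ 0 := fun h0 => hne (by
      change polar Q d w = 0
      rw [polar_comm]; exact h0)
    have h4 := S₀.smul_mem (-(polar Q w d)⁻¹) h2
    rw [smul_neg, neg_smul, neg_neg, smul_smul, inv_mul_cancel₀ h3, one_smul] at h4
    exact h4
  have h2 := finrank_perp hG D
  rw [← h2, mul_add] at h1
  omega

/-- **The `p`-part of the centraliser of an element of large degree.** -/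
theorem pbound_big [Finite F] (hG : Good Q) {p f : ℕ} [hp : Fact p.Prime] (hF : Nat.card F = p ^ f) (hpF : (p : F) = 0)
    {l e : ℕ} [hl : Fact l.Prime] (hlF : (l : F) ≠ 0) (hd : Ordd l (Nat.card F) e) (he : 3 ≤ e)
    {y : ↥(E Q)} (hy : y ^ l = 1) (hy1 : y ≠ 1) {X : Subgroup ↥(E Q)} (hX : IsPGroup p X)
    (hXs : ∀ g ∈ X, g * y = y * g) : v p X + f * finrank F V ≤ v p ↥(E Q) + 3 * f := by
  have hfd : FiniteDimensional F V := inferInstance
  have hy' : en Q y ^ l = 1 := by rw [← map_pow, hy, map_one]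
  have hR0 : R (en Q y) ≠ ⊥ := by
    intro h
    rw [R_eq_bot] at h
    exact hy1 (en_injective (h.trans (map_one _).symm))
  obtain ⟨w, hw, hw0, hwX⟩ := exists_fix hpF hX hR0 (fun g hg w hw => R_inv (by rw [← map_mul, hXs g hg, map_mul]) hw)
  have hW : ∀ w ∈ R (en Q y) ⊓ fixS X, en Q y w ∈ R (en Q y) ⊓ fixS X := fun w hw => ⟨R_inv rfl hw.1, by
    refine fixS_inv (fun g hg => ?_) hw.2
    rw [mul_assoc, hXs g hg, ← mul_assoc, inv_mul_cancel, one_mul]
    exact hg⟩
  obtain ⟨c, hc⟩ := dvd_finrank_le hd hlF hy' (W := R (en Q y) ⊓ fixS X) inf_le_left hW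
  have hne : finrank F ↥(R (en Q y) ⊓ fixS X) ≠ 0 := by
    intro h0
    rw [Submodule.finrank_eq_zero] at h0
    have h1 : w ∈ R (en Q y) ⊓ fixS X := ⟨hw, hwX⟩
    rw [h0, Submodule.mem_bot] at h1
    exact hw0 h1
  have h3 : 3 ≤ finrank F ↥(R (en Q y) ⊓ fixS X) := by
    have hc0 : c ≠ 0 := by rintro rfl; exact hne hc
    have : e * 1 ≤ e * c := Nat.mul_le_mul_left _ (by omega)
    omega
  obtain ⟨u, hu, hu0, hQu⟩ := Cfsg.Agent.LieClassical.OrthFinite.exists_sing_mem (Q := Q) _ h3
  have huy : ∀ c : F, (y : V ≃ₗ[F] V) u ≠ c • u := by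
    intro c hcu
    have h4 : ∀ w ∈ Submodule.span F {u}, en Q y w ∈ Submodule.span F {u} := by
      intro w hw
      obtain ⟨a, rfl⟩ := Submodule.mem_span_singleton.1 hw
      rw [map_smul]
      refine Submodule.smul_mem _ _ ?_
      rw [en_apply, hcu]
      exact Submodule.smul_mem _ _ (Submodule.mem_span_singleton_self u)
    have h5 := dvd_finrank_le hd hlF hy' (W := Submodule.span F {u})
      ((Submodule.span_singleton_le_iff_mem _ _).2 hu.1) h4
    rw [finrank_span_singleton hu0] at h5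
    have := Nat.le_of_dvd one_pos h5
    omega
  have h1 := enlarge hG hF hpF hX hQu hu0 (fun g hg => hu.2 g hg) (C := Submodule.span F {u, (y : V ≃ₗ[F] V) u})
    fun w hw hwX => mem_span_of_comm hG hQu hu0 huy hw (hXs _ hwX)
  have h2 : finrank F (Submodule.span F {u, (y : V ≃ₗ[F] V) u}) ≤ 2 := by
    classical
    have h3 := finrank_span_finset_le_card (R := F) ({u, (y : V ≃ₗ[F] V) u} : Finset V)
    rw [Finset.coe_pair] at h3
    exact h3.trans Finset.card_le_two
  have h6 : f * finrank F (Submodule.span F {u, (y : V ≃ₗ[F] V) u}) ≤ f * 2 := Nat.mul_le_mul_left _ h2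
  omega

/-- the stabiliser of `u`, if the orbit lies in `u + ⟨k⟩` -/
theorem exists_stab [Finite F] {p f : ℕ} [hp : Fact p.Prime] (hF : Nat.card F = p ^ f) {X : Subgroup ↥(E Q)}
    (hX : IsPGroup p X) {u k : V} (h : ∀ g ∈ X, (g : V ≃ₗ[F] V) u - u ∈ Submodule.span F {k}) :
    ∃ X₁ ≤ X, (∀ g ∈ X₁, (g : V ≃ₗ[F] V) u = u) ∧ v p X ≤ v p X₁ + f := by
  classical
  have hfinE : Finite ↥(E Q) := finite_E
  let act : MulAction ↥X V :=
    { smul := fun g w => (g : ↥(E Q)).1 w
      one_smul := fun w => rfl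
      mul_smul := fun g h w => rfl }
  have h1 := (MulAction.stabilizer ↥X u).index_mul_card
  rw [MulAction.index_stabilizer] at h1
  have h2 : (MulAction.orbit ↥X u).ncard ≤ Nat.card F := by
    have h3 : MulAction.orbit ↥X u ⊆ Set.range fun c : F => u + c • k := by
      rintro _ ⟨g, rfl⟩
      obtain ⟨c, hc⟩ := Submodule.mem_span_singleton.1 (h g g.2)
      refine ⟨c, ?_⟩
      change u + c • k = (g : ↥(E Q)).1 u
      rw [hc]
      abel
    refine (Set.ncard_le_ncard h3 (Set.toFinite _)).trans ?_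
    rw [← Set.image_univ]
    refine (Set.ncard_image_le (Set.toFinite _)).trans ?_
    rw [Set.ncard_univ]
  refine ⟨(MulAction.stabilizer ↥X u).map X.subtype, Subgroup.map_subtype_le _, ?_, ?_⟩
  · rintro _ ⟨g, hg, rfl⟩
    exact hg
  · have h3 : Nat.card X ≤ Nat.card F * Nat.card ↥((MulAction.stabilizer ↥X u).map X.subtype) := by
      rw [Cfsg.Agent.H160.PD.card_map_subtype, ← h1]
      exact Nat.mul_le_mul_right _ h2
    have hX1 : IsPGroup p ↥((MulAction.stabilizer ↥X u).map X.subtype) :=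
      hX.to_le (Subgroup.map_subtype_le _)
    rw [card_pgroup hX, card_pgroup hX1, hF, ← pow_add] at h3
    have h4 := (Nat.pow_le_pow_iff_right hp.out.one_lt).1 h3
    omega

variable {n p f d : ℕ}

/-- **`p`-subgroups normalised by an element of order `r₁`.** -/
theorem Plus.v_norm_second [Finite F] (H : Plus Q n p f) (hO : Odg n d) (hp2 : p ≠ 2) {l : ℕ} [hl : Fact l.Prime]
    (hl2 : l ≠ 2) (hlF : (l : F) ≠ 0)
    (hd : Ordd l (Nat.card F) d) (hld : l ∣ Nat.card F ^ d - 1) {y : ↥(E Q)} (hy : y ^ l = 1) (hy1 : y ≠ 1)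
    {X : Subgroup ↥(E Q)} (hX : IsPGroup p X) (hyX : ∀ g ∈ X, y⁻¹ * g * y ∈ X) :
    v p X + f * d ≤ v p ↥(E Q) + f := by
  have hG := H.good
  have hpF := H.hpF
  have hF := H.hF
  have hfd : FiniteDimensional F V := inferInstance
  have := Fact.mk H.prime
  have hn := H.hn
  have hd3 : 3 ≤ d := by
    have h1 := hO.odd
    have h2 := hO.or
    rw [Nat.odd_iff] at h1
    omega
  have h2F : (2 : F) ≠ 0 := by
    intro h
    have hc : CharP F p := (CharP.charP_iff_prime_eq_zero H.prime).2 H.hpF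
    have h3 : ((2 : ℕ) : F) = 0 := by exact_mod_cast h
    rw [CharP.cast_eq_zero_iff F p] at h3
    exact hp2 ((Nat.prime_dvd_prime_iff_eq H.prime Nat.prime_two).1 h3)
  have hsing : ∀ w : V, polarBilin Q w w = 0 → Q w = 0 := by
    intro w hw
    rw [polarBilin_apply_apply, polar_self'] at hw
    exact (mul_eq_zero.1 hw).resolve_left h2F
  have hy' : en Q y ^ l = 1 := by rw [← map_pow, hy, map_one]
  obtain ⟨h1, h2⟩ := H.dim_second hO hl2 hlF hd hy hy1
  obtain ⟨U, U', hU⟩ := exists_split H.good hl2 hlF hy hd hld hO.odd h1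
  have hU0 : ∀ U U' : Submodule F V, Split Q y d U U' → U ≠ ⊥ := by
    rintro U U' h rfl
    have := h.dim
    rw [finrank_bot] at this
    omega
  -- invariant subspaces of `R y`
  have hsub : ∀ W : Submodule F V, (∀ w ∈ W, en Q y w ∈ W) → R (en Q y) ⊓ W ≠ ⊥ →
      ∃ U₁ U₂ : Submodule F V, Split Q y d U₁ U₂ ∧ U₁ ≤ W := by
    intro W hW hne
    rcases hU.all (R (en Q y) ⊓ W) inf_le_left (fun w hw => ⟨R_inv rfl hw.1, hW w hw.2⟩) with h | h | h | h
    · exact absurd h hne
    · exact ⟨U, U', hU, h ▸ inf_le_right⟩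
    · exact ⟨U', U, hU.symm, h ▸ inf_le_right⟩
    · exact ⟨U, U', hU, hU.le.trans (h ▸ inf_le_right)⟩
  have hfixy : ∀ w ∈ fixS X, en Q y w ∈ fixS X := fun w hw => fixS_inv hyX hw
  by_cases hZ : R (en Q y) ⊓ fixS X = ⊥
  · -- the fixed vectors are in `K y`
    obtain ⟨k, hk0, hQk, hkX⟩ := exists_fix_sing H.dvd_sing hX
    have hkZ : k ∈ fixS X := fun g hg => hkX g hg
    have hkK : k ∈ K (en Q y) := by
      obtain ⟨a, ha, r, hr, hkr⟩ := decomp_mem hy' hlF hfixy hkZ
      rw [hZ, Submodule.mem_bot] at hr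
      rw [hkr, hr, add_zero]
      exact ha.1
    obtain ⟨w, hkw, hwk, hwX⟩ := Cfsg.Agent.H311.PD.exists_fixed_mod hG H.hf hF hX hQk hk0 hkX
    let W : Submodule F V :=
      { carrier := {w | polar Q k w = 0 ∧ ∀ g ∈ X, en Q g w - w ∈ Submodule.span F {k}}
        add_mem' := fun {a b} ha hb => ⟨by rw [polar_add_right, ha.1, hb.1, add_zero], fun g hg => by
          rw [map_add, add_sub_add_comm]
          exact Submodule.add_mem _ (ha.2 g hg) (hb.2 g hg)⟩
        zero_mem' := ⟨polar_zero_right Q k, fun g _ => by rw [map_zero, sub_zero]; exact Submodule.zero_mem _⟩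
        smul_mem' := fun c v hv => ⟨by rw [polar_smul_right, hv.1, smul_zero], fun g hg => by
          rw [map_smul, ← smul_sub]
          exact Submodule.smul_mem _ _ (hv.2 g hg)⟩ }
    have hyk : en Q y k = k := mem_K.1 hkK
    have hyW : ∀ w ∈ W, en Q y w ∈ W := by
      rintro w ⟨hw1, hw2⟩
      refine ⟨?_, fun g hg => ?_⟩
      · have h3 := isom_en y k w
        rw [hyk, polarBilin_apply_apply, polarBilin_apply_apply, hw1] at h3
        exact h3
      · have h4 : g * y = y * (y⁻¹ * g * y) := by group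
        obtain ⟨c, hc⟩ := Submodule.mem_span_singleton.1 (hw2 _ (hyX g hg))
        rw [← Module.End.mul_apply, ← map_mul, h4, map_mul, Module.End.mul_apply, ← map_sub, ← hc, map_smul, hyk]
        exact Submodule.smul_mem _ _ (Submodule.mem_span_singleton_self k)
    -- `W ⊓ K y` is spanned by `k`
    have hWK : ∀ a ∈ K (en Q y), polar Q k a = 0 → a ∈ Submodule.span F {k} := by
      intro a ha hka
      by_contra hne
      apply hk0
      refine nondeg_K (isom_en y) (polar_nondeg hG) hy' hlF hkK fun b hb => ?_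
      have h3 : K (en Q y) = Submodule.span F {k, a} := by
        symm
        apply Submodule.eq_of_le_of_finrank_le
        · rw [Submodule.span_le]
          rintro _ (rfl | rfl)
          · exact hkK
          · exact ha
        · refine h2.trans ?_
          have h4 : LinearIndependent F ![k, a] := by
            rw [LinearIndependent.pair_iff' hk0]
            intro c hc
            exact hne (Submodule.mem_span_singleton.2 ⟨c, hc⟩)
          have h5 := finrank_span_eq_card h4
          rw [Matrix.range_cons, Matrix.range_cons, Matrix.range_empty, Set.union_empty,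
            Set.singleton_union, Fintype.card_fin] at h5
          exact h5.ge
      rw [h3, Submodule.mem_span_pair] at hb
      obtain ⟨c, c', rfl⟩ := hb
      rw [polarBilin_apply_apply, polar_add_left, polar_smul_left, polar_smul_left, polar_self_of_sing hQk,
        polar_comm (⇑Q) a k, hka, smul_zero, smul_zero, add_zero]
    have hRW : R (en Q y) ⊓ W ≠ ⊥ := by
      intro h0
      obtain ⟨a, ha, r, hr, hwr⟩ := decomp_mem hy' hlF hyW (v := w) ⟨hkw, fun g hg => hwX g hg⟩
      rw [h0, Submodule.mem_bot] at hr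
      apply hwk
      rw [hwr, hr, add_zero]
      exact hWK a ha.1 ha.2.1
    obtain ⟨U₁, U₂, hU₁, hUW⟩ := hsub W hyW hRW
    obtain ⟨u, hu, hu0⟩ := Submodule.exists_mem_ne_zero_of_ne_bot (hU0 _ _ hU₁)
    obtain ⟨X₁, hX₁, hX₁u, hv⟩ := exists_stab hF hX (u := u) (k := k) fun g hg => (hUW hu).2 g hg
    have hdisj : ∀ w ∈ Submodule.span F {k}, w ∈ R (en Q y) → w = 0 := by
      intro w hw hwR
      obtain ⟨c, rfl⟩ := Submodule.mem_span_singleton.1 hw
      exact eq_zero_of_mem hy' hlF (by rw [map_smul, hyk]) hwR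
    have h3 := v_le_of_D hG hF hpF (hX.to_le hX₁) (hsing u (hU₁.ti u hu u hu)) hu0 hX₁u (D := U₁ ⊔ Submodule.span F {k})
      (S₀ := Submodule.span F {k}) (fun h => hu0 (hdisj u h (hU₁.le hu))) (by
        intro w hw
        obtain ⟨a, ha, b, hb, rfl⟩ := Submodule.mem_sup.1 hw
        obtain ⟨c, rfl⟩ := Submodule.mem_span_singleton.1 hb
        rw [polar_add_right, polar_smul_right]
        have e1 : polar Q u a = 0 := hU₁.ti u hu a ha
        have e2 : polar Q u k = 0 := perp_RK (isom_en y) (hU₁.le hu) hkK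
        rw [e1, e2, smul_zero, add_zero]) (by
        intro g hg w hw
        obtain ⟨a, ha, b, hb, rfl⟩ := Submodule.mem_sup.1 hw
        obtain ⟨c, rfl⟩ := Submodule.mem_span_singleton.1 hb
        rw [map_add, map_smul, hkX g (hX₁ hg), add_sub_add_right_eq_sub]
        exact (hUW ha).2 g (hX₁ hg))
    have h4 : finrank F ↥(U₁ ⊔ Submodule.span F {k}) = d + 1 := by
      have h5 := Submodule.finrank_sup_add_finrank_inf_eq U₁ (Submodule.span F {k})
      have h6 : U₁ ⊓ Submodule.span F {k} = ⊥ := by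
        rw [eq_bot_iff]
        rintro w ⟨hw, hw'⟩
        exact hdisj w hw' (hU₁.le hw)
      rw [h6, finrank_bot, finrank_span_singleton hk0, hU₁.dim] at h5
      omega
    rw [h4, mul_add, mul_one] at h3
    omega
  · obtain ⟨U₁, U₂, hU₁, hUX⟩ := hsub (fixS X) hfixy hZ
    obtain ⟨u, hu, hu0⟩ := Submodule.exists_mem_ne_zero_of_ne_bot (hU0 _ _ hU₁)
    have h3 := v_le_of_D hG hF hpF hX (hsing u (hU₁.ti u hu u hu)) hu0 (fun g hg => hUX hu g hg) (D := U₁)
      (S₀ := ⊥) (fun h => hu0 ((Submodule.mem_bot F).1 h)) (fun w hw => hU₁.ti u hu w hw) (fun g hg w hw => by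
        rw [Submodule.mem_bot, sub_eq_zero]
        exact hUX hw g hg)
    rw [hU₁.dim] at h3
    exact h3

end fin

end Cfsg.Agent.H14.PD
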