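import Cfsg.Agent.H14.PD.Main
import Cfsg.Agent.H200.RowOrthJ
import Cfsg.Agent.H470.SolvPi

/-!
# S4246, row of `POmega^+_8(q)`: configurations with a triality automorphism (helper14)
-/

set_option autoImplicit false
set_option linter.unusedSectionVars false

namespace Cfsg.Agent.H14.PD

open QuadraticMap Module Cfsg.Agent.LieClassical.OrthCore Cfsg.Agent.LieClassical.OrthTrans
open Cfsg.Agent.ClassicalGeometry.OrthSemi Cfsg.Agent.ClassicalGeometry.OrthAut1
open Cfsg.Agent.H200.LinFix Cfsg.Agent.H200.RowOrth Cfsg.Agent.H568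
open Cfsg.Agent.H160.PD (v v_mono v_eq_zero v_pos Fx mem_Fx NoOdd noOdd_of Uniq odd_bound_of_uniq out Cfg tr Row v_le
  v_tr_le card_tr_dvd exists_hall card_map_subtype)

variable {F V : Type*} [Field F] [AddCommGroup V] [Module F V] {Q : QuadraticForm F V} [Finite V] [Finite F]

variable {p f : ℕ}

/-- inner automorphisms permute the stabilisers of singular points -/
theorem ptA_conj (hG : Good Q) (s : P Q) : PtA hG (MulAut.conj s) := by
  intro x hx hx0
  obtain ⟨k, rfl⟩ := QuotientGroup.mk_surjective s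
  refine ⟨(k : V ≃ₗ[F] V) x, by rw [E_le_O k.2, hx], fun h => hx0 ((k : V ≃ₗ[F] V).map_eq_zero_iff.1 h), ?_⟩
  ext g
  constructor
  · rintro ⟨a, ha, rfl⟩
    have h1 := (mem_stab_conj hG (QuotientGroup.mk k : P Q) a (Submodule.span F {x})).1 ha
    rw [pact_mk, mapHom_span] at h1
    exact h1
  · intro hg
    refine ⟨(QuotientGroup.mk k : P Q)⁻¹ * g * QuotientGroup.mk k, ?_, ?_⟩
    · have h1 := (mem_stab_conj hG (QuotientGroup.mk k : P Q) ((QuotientGroup.mk k : P Q)⁻¹ * g * QuotientGroup.mk k)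
        (Submodule.span F {x})).2
      apply h1
      rw [pact_mk, mapHom_span]
      have h2 : (QuotientGroup.mk k : P Q) * ((QuotientGroup.mk k : P Q)⁻¹ * g * QuotientGroup.mk k) *
        (QuotientGroup.mk k : P Q)⁻¹ = g := by group
      rw [h2]
      exact hg
    · change MulAut.conj (QuotientGroup.mk k : P Q) ((QuotientGroup.mk k : P Q)⁻¹ * g * QuotientGroup.mk k) = g
      rw [MulAut.conj_apply]
      group

section cfg

variable {Γ : Subgroup (MulAut (P Q))} {π : Set ℕ} {L K L' K' : Subgroup (MulAut (P Q))}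

/-- a subgroup meeting trivially a subgroup of index three -/
theorem card_L (hind : Γ.index = 3) (hL : L ⊓ Γ = ⊥) (hC : Cfg π L K L' K') : Nat.card L = 3 := by
  classical
  have hfinE : Finite ↥(E Q) := finite_E
  have hfin : Finite (MulAut (P Q) ⧸ Γ) := Nat.finite_of_card_ne_zero (by rw [← Subgroup.index_eq_card, hind]; decide)
  have h1 : Nat.card L ≤ Nat.card (MulAut (P Q) ⧸ Γ) := by
    refine Nat.card_le_card_of_injective (fun a : L => ((a : MulAut (P Q)) : MulAut (P Q) ⧸ Γ)) ?_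
    rintro ⟨a, ha⟩ ⟨b, hb⟩ hab
    have h2 : a⁻¹ * b ∈ L ⊓ Γ := ⟨L.mul_mem (L.inv_mem ha) hb, QuotientGroup.eq.1 hab⟩
    rw [hL, Subgroup.mem_bot, inv_mul_eq_one] at h2
    exact Subtype.ext h2
  rw [← Subgroup.index_eq_card, hind] at h1
  have h2 : Nat.card L ≠ 1 := fun h0 => hC.ne (Subgroup.eq_bot_of_card_eq _ h0)
  have h3 : Nat.card L ≠ 2 := fun h0 => hC.two (hC.piL 2 Nat.prime_two (by rw [h0]))
  have h4 : 0 < Nat.card L := Nat.card_pos
  omega

theorem tr_bot (hG : Good Q) (hZ : Subgroup.center (P Q) = ⊥) (hΓ : ∀ α, α ∈ Γ ↔ PtA hG α) (hL : L ⊓ Γ = ⊥) :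
    tr L = ⊥ := by
  rw [eq_bot_iff]
  intro s hs
  have h1 : MulAut.conj s ∈ L ⊓ Γ := ⟨hs, (hΓ _).2 (ptA_conj hG s)⟩
  rw [hL, Subgroup.mem_bot] at h1
  rw [Subgroup.mem_bot]
  exact Cfsg.Agent.H160.PD.conj_injective hZ (h1.trans (map_one _).symm)

end cfg

/-- a prime of order four -/
structure Four (Q : QuadraticForm F V) (f l : ℕ) : Prop where
  prime : l.Prime
  ne : l ≠ 2
  cast : (l : F) ≠ 0
  ord : Ordd l (Nat.card F) 4
  dvd : l ∣ Nat.card F ^ 4 - 1
  le : 4 * f + 1 ≤ l

theorem Plus.exists_four' (H : Plus Q 4 p f) : ∃ l, Four Q f l := by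
  have hF := H.hF
  obtain ⟨l, hl, hl2, -, hdiv, hle, hd, hlr⟩ := exists_super (e := 4) H.prime H.hf (by omega) (by rintro ⟨-, h⟩; omega)
  rw [← hF] at hdiv hd
  exact ⟨l, hl, hl2, H.cast_ne hl (by omega) hdiv, hd, hdiv, by omega⟩

variable {l : ℕ}

theorem Four.dvd' (h : Four Q f l) : l ∣ Nat.card F ^ 2 + 1 := by
  have := Fact.mk h.prime
  exact dvd_add_one (n := 2) (by norm_num) h.ord h.dvd

theorem Four.not_dvd (h : Four Q f l) {m : ℕ} (hm : ¬ 4 ∣ m) : ¬ l ∣ Nat.card F ^ m - 1 := fun h1 => hm (h.ord m h1)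

theorem Four.fac_eq (h : Four Q f l) : (Nat.card F ^ 4 - 1).factorization l = (Nat.card F ^ 2 + 1).factorization l := by
  have hq : 1 < Nat.card F := Finite.one_lt_card
  have h1 : Nat.card F ^ 4 - 1 = (Nat.card F ^ 2 + 1) * (Nat.card F ^ 2 - 1) := by
    rw [show 4 = 2 * 2 by norm_num, pow_mul]
    exact Nat.sq_sub_sq (Nat.card F ^ 2) 1
  have h2 := Nat.one_lt_pow (n := 2) (by omega) hq
  rw [h1, Nat.factorization_mul (by omega) (by omega), Finsupp.add_apply,
    Nat.factorization_eq_zero_of_not_dvd (h.not_dvd (m := 2) (by omega)), add_zero]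

theorem PlusC.v_four (H : PlusC Q 4 p f) (h : Four Q f l) :
    v l (P Q) = 2 * (Nat.card F ^ 4 - 1).factorization l := by
  have hlp : l ≠ p := by
    rintro rfl
    exact h.cast H.hpF
  rw [H.v_eq h.prime (Or.inl h.ne)]
  have h1 : (Nat.card F ^ (4 * (4 - 1))).factorization l = 0 := by
    apply Nat.factorization_eq_zero_of_not_dvd
    intro h1
    rw [H.hF] at h1
    exact hlp ((Nat.prime_dvd_prime_iff_eq h.prime H.prime).1 (h.prime.dvd_of_dvd_pow (h.prime.dvd_of_dvd_pow h1)))
  have h2 := Nat.factorization_eq_zero_of_not_dvd (h.not_dvd (m := 2) (by omega))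
  have h3 := Nat.factorization_eq_zero_of_not_dvd (h.not_dvd (m := 6) (by omega))
  rw [h1]
  simp only [Finset.sum_range_succ, Finset.sum_range_zero, Nat.reduceSub, Nat.reduceAdd, Nat.reduceMul]
  omega

theorem PlusC.out_four (H : PlusC Q 4 p f) (h : Four Q f l) : (out (P Q)).factorization l = 0 := by
  have hf := H.hf
  have h1 := H.hout l h.prime h.ne
  have h2 := h.le
  rw [if_neg (by rintro ⟨h3, -⟩; omega), add_zero, Nat.factorization_eq_zero_of_not_dvd (n := f) (fun h3 => by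
    have := Nat.le_of_dvd hf h3
    omega)] at h1
  omega

/-- an element of order `l` fixing a singular vector -/
theorem PlusC.exists_fix_elt (H : PlusC Q 4 p f) (h : Four Q f l) :
    ∃ (y : ↥(E Q)) (w : V), y ^ l = 1 ∧ y ≠ 1 ∧ Q w = 0 ∧ w ≠ 0 ∧ (y : V ≃ₗ[F] V) w = w := by
  have := Fact.mk h.prime
  have hG := H.good
  have hfinE : Finite ↥(E Q) := finite_E
  obtain ⟨w, hw0, hw⟩ := hG.sing
  let S : Subgroup ↥(E Q) :=
    { carrier := {g | (g : V ≃ₗ[F] V) w = w}
      mul_mem' := fun {a b} ha hb => by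
        change (a : V ≃ₗ[F] V) ((b : V ≃ₗ[F] V) w) = w
        rw [show (b : V ≃ₗ[F] V) w = w from hb]
        exact ha
      one_mem' := rfl
      inv_mem' := fun {a} ha => by
        change (a : V ≃ₗ[F] V).symm w = w
        rw [LinearEquiv.symm_apply_eq]
        exact (show (a : V ≃ₗ[F] V) w = w from ha).symm }
  have hq : 1 < Nat.card F := Finite.one_lt_card
  have h4 := Nat.one_lt_pow (n := 4) (by omega) hq
  have h1 : l ∣ Nat.card S := by
    have h2 := card_stabilizer hG hw hw0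
    rw [H.hsing, Nat.add_sub_cancel] at h2
    change (Nat.card F ^ 4 - 1) * (Nat.card F ^ (4 - 1) + 1) * Nat.card S = _ at h2
    have h3 : v l ↥(E Q) = 2 * (Nat.card F ^ 4 - 1).factorization l := by
      rw [← v_P hG (Or.inl h.ne), H.v_four h]
    rw [v, ← h2, Nat.factorization_mul (mul_ne_zero (by omega) (by positivity)) Nat.card_pos.ne',
      Nat.factorization_mul (by omega) (by positivity), Finsupp.add_apply, Finsupp.add_apply,
      Nat.factorization_eq_zero_of_not_dvd (n := Nat.card F ^ (4 - 1) + 1) (fun h5 => by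
        apply h.not_dvd (m := 6) (by omega)
        have h6 : Nat.card F ^ 6 - 1 = (Nat.card F ^ 3 + 1) * (Nat.card F ^ 3 - 1) := by
          rw [show 6 = 3 * 2 by norm_num, pow_mul]
          exact Nat.sq_sub_sq (Nat.card F ^ 3) 1
        rw [h6]
        exact Dvd.dvd.mul_right h5 _)] at h3
    have h5 : 0 < (Nat.card F ^ 4 - 1).factorization l :=
      h.prime.factorization_pos_of_dvd (by omega) h.dvd
    by_contra h6
    rw [Nat.factorization_eq_zero_of_not_dvd h6] at h3
    omega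
  obtain ⟨⟨y, hyS⟩, hy⟩ := exists_prime_orderOf_dvd_card' l h1
  refine ⟨y, w, ?_, ?_, hw, hw0, hyS⟩
  · have h2 := congrArg Subtype.val (pow_orderOf_eq_one (⟨y, hyS⟩ : S))
    rw [hy] at h2
    exact h2
  · rintro rfl
    have h2 : (⟨1, hyS⟩ : S) = 1 := rfl
    rw [h2, orderOf_one] at hy
    exact h.prime.one_lt.ne hy

/-- a triality automorphism does not fix such an element -/
theorem Plus.not_fixed (H : Plus Q 4 p f) (h : Four Q f l) {b : MulAut (P Q)} (hb : ¬ PtA H.good b) {y : ↥(E Q)}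
    (hy : y ^ l = 1) (hy1 : y ≠ 1) {w : V} (hw : Q w = 0) (hw0 : w ≠ 0) (hyw : (y : V ≃ₗ[F] V) w = w)
    (hby : b (QuotientGroup.mk y) = QuotientGroup.mk y) : False := by
  have := Fact.mk h.prime
  have hG := H.good
  have h8 : finrank F V = 8 := H.hV
  have hfd : FiniteDimensional F V := inferInstance
  have hy' : en Q y ^ l = 1 := by rw [← map_pow, hy, map_one]
  have hlF := h.cast
  have hd := h.ord
  obtain ⟨W, hW, hW4, hyW⟩ := exists_four hG h8 hb hby hw hw0 hyw
  refine false_of_four hG h8 hy1 hlF hy hW hW4 hyW ?_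
  have h1 := finrank_add (en Q y)
  have h2 : finrank F (K (en Q y)) ≠ 0 := by
    intro h0
    have h3 : w ∈ K (en Q y) := mem_K.2 hyw
    rw [Submodule.finrank_eq_zero.1 h0] at h3
    exact hw0 h3
  obtain ⟨c, hc⟩ := dvd_finrank_R hd hlF hy'
  have hRW : ∀ w ∈ R (en Q y) ⊓ W, en Q y w ∈ R (en Q y) ⊓ W := fun w hw => ⟨R_inv rfl hw.1, hyW w hw.2⟩
  obtain ⟨c', hc'⟩ := dvd_finrank_le hd hlF hy' (W := R (en Q y) ⊓ W) inf_le_left hRW
  have h4 := finrank_ti_le (fun v hv h => nondeg_R (isom_en y) (polar_nondeg hG) hy' hlF hv h)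
    (inf_le_left (b := W)) (fun u hu v hv => hW.polar hu.2 hv.2)
  rw [← Submodule.finrank_eq_zero (R := F)]
  omega

/-- **The fixed points of a triality automorphism do not contain a Sylow `l`-subgroup.** -/
theorem PlusC.v_Fx_four (H : PlusC Q 4 p f) (h : Four Q f l) {b : MulAut (P Q)} (hb : ¬ PtA H.good b) :
    v l (Fx b) < v l (P Q) := by
  have := Fact.mk h.prime
  have hG := H.good
  have hfinE : Finite ↥(E Q) := finite_E
  by_contra hcon
  push Not at hcon
  obtain ⟨y, w, hy, hy1, hw, hw0, hyw⟩ := H.exists_fix_elt h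
  have hlo := h.prime.odd_of_ne_two h.ne
  have hyo := orderOf_mk hG hlo hy hy1
  -- Sylow subgroups
  obtain ⟨S₁, hS₁⟩ := (Cfsg.Agent.H160.PD.isPGroup_zpowers hyo).exists_le_sylow
  obtain ⟨R⟩ : Nonempty (Sylow l ↥(Fx b)) := inferInstance
  have hR : IsPGroup l ↥((R : Subgroup ↥(Fx b)).map (Fx b).subtype) := R.isPGroup'.map _
  obtain ⟨S₂, hS₂⟩ := hR.exists_le_sylow
  have h1 : (R : Subgroup ↥(Fx b)).map (Fx b).subtype = (S₂ : Subgroup (P Q)) := by
    apply Subgroup.eq_of_le_of_card_ge hS₂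
    rw [card_map_subtype, R.card_eq_multiplicity, S₂.card_eq_multiplicity]
    exact Nat.pow_le_pow_right h.prime.pos hcon
  obtain ⟨g, hg⟩ := MulAction.exists_smul_eq (P Q) S₁ S₂
  obtain ⟨k, rfl⟩ := QuotientGroup.mk_surjective g
  have h2 : (QuotientGroup.mk (k * y * k⁻¹) : P Q) ∈ (S₂ : Subgroup (P Q)) := by
    rw [← hg]
    exact ⟨QuotientGroup.mk y, hS₁ (Subgroup.mem_zpowers _), rfl⟩
  rw [← h1] at h2
  obtain ⟨z, -, hz⟩ := h2
  have h3 : b (QuotientGroup.mk (k * y * k⁻¹)) = QuotientGroup.mk (k * y * k⁻¹) := by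
    rw [← hz]
    exact z.2
  refine H.not_fixed h hb (y := k * y * k⁻¹) (w := (k : V ≃ₗ[F] V) w) ?_ ?_ ?_ ?_ ?_ h3
  · rw [conj_pow, hy, mul_one, mul_inv_cancel]
  · intro h4
    apply hy1
    have h5 : y = k⁻¹ * (k * y * k⁻¹) * k := by group
    rw [h5, h4]
    group
  · rw [E_le_O k.2, hw]
  · exact fun h4 => hw0 ((k : V ≃ₗ[F] V).map_eq_zero_iff.1 h4)
  · change (k : V ≃ₗ[F] V) ((y : V ≃ₗ[F] V) ((k⁻¹ : ↥(E Q)) |>.1 ((k : V ≃ₗ[F] V) w))) = (k : V ≃ₗ[F] V) w
    have h4 : ((k⁻¹ : ↥(E Q)) : V ≃ₗ[F] V) ((k : V ≃ₗ[F] V) w) = w := by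
      change (k : V ≃ₗ[F] V).symm ((k : V ≃ₗ[F] V) w) = w
      exact LinearEquiv.symm_apply_apply _ _
    rw [h4, hyw]

/-- the `p`-part of the centraliser of an element of order `l` -/
theorem PlusC.v_cent_four (H : PlusC Q 4 p f) (h : Four Q f l) {x : P Q} (hx : orderOf x = l) :
    v p (Subgroup.centralizer ({x} : Set (P Q))) ≤ 7 * f := by
  have := Fact.mk h.prime
  have := Fact.mk H.prime
  have hG := H.good
  have h2 := two_or_of_char (F := F) H.hpF
  obtain ⟨y, hy, hy1, rfl⟩ := H.exists_lift h.prime h.ne hx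
  obtain ⟨X, hX, hXv, hXm⟩ := exists_lift_pgroup hG h2 (Subgroup.centralizer ({(QuotientGroup.mk y : P Q)} : Set (P Q)))
  have h1 := pbound_big hG H.hF H.hpF h.cast h.ord (by omega) hy hy1 hX fun g hg =>
    (comm_of_mk hG (h.prime.odd_of_ne_two h.ne) hy (Subgroup.mem_centralizer_singleton_iff.1 (hXm g hg)).symm).symm
  rw [hXv, H.hV, ← v_P hG h2, H.v_p] at h1
  omega

/-- the hypotheses of the triality lemma, proved elsewhere -/
structure TriHyp (Q : QuadraticForm F V) (hG : Good Q) (p f : ℕ) : Prop where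
  h9 : ∀ b : MulAut (P Q), ¬ PtA hG b → v p (Fx b) + 3 * f ≤ v p (P Q)
  norm : ∀ l, Four Q f l → ∀ T X : Subgroup ↥(E Q), IsPGroup l T → v l T = v l ↥(E Q) → IsPGroup p X →
    (∀ g ∈ T, ∀ x ∈ X, g * x * g⁻¹ ∈ X) → X = ⊥
  three : p ≠ 3 → ∀ l, Four Q f l → ∀ y : ↥(E Q), y ^ l = 1 → y ≠ 1 →
    v 3 (Subgroup.centralizer ({y} : Set ↥(E Q))) ≤ 2 * (Nat.card F ^ 4 - 1).factorization 3

/-- no `p`-subgroup of `P Q` is normalised by a Sylow `l`-subgroup -/
theorem TriHyp.norm' (H : PlusC Q 4 p f) (hT : TriHyp Q H.good p f) (h : Four Q f l) {T X : Subgroup (P Q)}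
    (hTl : v l T = v l (P Q)) (hX : IsPGroup p X) (hTX : T ≤ Subgroup.normalizer (X : Set (P Q))) : X = ⊥ := by
  have hfinE : Finite ↥(E Q) := finite_E
  have := Fact.mk h.prime
  have := Fact.mk H.prime
  have hG := H.good
  have h2 := two_or_of_char (F := F) H.hpF
  obtain ⟨T₁, hT₁, hT₁v, hT₁m⟩ := exists_lift_pgroup hG (p := l) (Or.inl h.ne) T
  obtain ⟨X₁, hX₁, hmap, hnorm⟩ := Cfsg.Agent.SigZeroU5.exists_lift (Subgroup.center ↥(E Q)) le_rfl
    (not_dvd_center' hG h2) hX
  have h1 := hT.norm l h T₁ X₁ hT₁ (by rw [hT₁v, hTl, v_P hG (Or.inl h.ne)]) hX₁ fun g hg x hx =>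
    (hnorm g (hTX (hT₁m g hg)) x).1 hx
  rw [← hmap, h1, Subgroup.map_bot]

/-- the `3`-parts -/
theorem PlusC.three_lt (H : PlusC Q 4 p f) (hT : TriHyp Q H.good p f) (h : Four Q f l) {x : P Q} (hx : orderOf x = l) :
    v 3 (Subgroup.centralizer ({x} : Set (P Q))) + 1 < v 3 (P Q) := by
  have hf := H.hf
  have hq : 1 < Nat.card F := Finite.one_lt_card
  by_cases hp3 : p = 3
  · subst hp3
    have h1 := H.v_cent_four h hx
    have h2 := H.v_p
    omega
  · obtain ⟨y, hy, hy1, rfl⟩ := H.exists_lift h.prime h.ne hx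
    have h1 := hT.three hp3 l h y hy hy1
    have h2 := Cfsg.Agent.H311.PD.v_centralizer_mk H.good (h.prime.odd_of_ne_two h.ne) hy 3
    have h3q : ¬ 3 ∣ Nat.card F := by
      rw [H.hF]
      intro h4
      exact hp3 ((Nat.prime_dvd_prime_iff_eq Nat.prime_three H.prime).1 (Nat.prime_three.dvd_of_dvd_pow h4)).symm
    have h3 := H.lte Nat.prime_three (by norm_num) (three_dvd h3q (e := 2) (by decide))
    have h4 := H.lte Nat.prime_three (by norm_num) (three_dvd h3q (e := 6) (by decide))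
    have h5 := H.v_eq Nat.prime_three (Or.inl (by norm_num))
    simp only [Finset.sum_range_succ, Finset.sum_range_zero, Nat.reduceSub, Nat.reduceAdd, Nat.reduceMul] at h5
    omega

variable {Γ : Subgroup (MulAut (P Q))} {π : Set ℕ} {L K L' K' : Subgroup (MulAut (P Q))}

/-- a subgroup of odd order containing a Sylow `l`-subgroup -/
theorem PlusC.odd_four (H : PlusC Q 4 p f) (hT : TriHyp Q H.good p f) (h : Four Q f l) (hp2 : p ≠ 2) {X : Subgroup (P Q)}
    (hX : Odd (Nat.card X)) (hXl : v l (P Q) ≤ v l X) : v p X < 11 * f := by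
  have hFl := Fact.mk h.prime
  have hFp := Fact.mk H.prime
  have hG := H.good
  have hfinE : Finite ↥(E Q) := finite_E
  have hlp : p ≠ l := by
    rintro rfl
    exact h.cast H.hpF
  have hq : 1 < Nat.card F := Finite.one_lt_card
  have hvl : 0 < v l (P Q) := by
    rw [H.v_four h]
    have h4 := Nat.one_lt_pow (n := 4) (by omega) hq
    have h5 : 0 < (Nat.card F ^ 4 - 1).factorization l := h.prime.factorization_pos_of_dvd (by omega) h.dvd
    omega
  obtain ⟨M, hMX, hM⟩ := exists_hall hX H.prime h.prime hlp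
  have hMo : Odd (Nat.card M) := hX.of_dvd_nat (Subgroup.card_dvd_of_le hMX)
  have hsol : Group.IsSolvable ↥M := Cfsg.Agent.S0205.result hMo
  have hlX : v l X = v l (P Q) := le_antisymm (v_le_group X l) hXl
  have hvM : v l M = v l (P Q) := by
    rw [v, hM, Nat.factorization_mul (pow_ne_zero _ H.prime.ne_zero) (pow_ne_zero _ h.prime.ne_zero), Finsupp.add_apply,
      H.prime.factorization_pow, h.prime.factorization_pow, Finsupp.single_eq_of_ne hlp.symm, Finsupp.single_eq_same, zero_add,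
      hlX]
  have hvM' : v p M = v p X := by
    rw [v, hM, Nat.factorization_mul (pow_ne_zero _ H.prime.ne_zero) (pow_ne_zero _ h.prime.ne_zero), Finsupp.add_apply,
      H.prime.factorization_pow, h.prime.factorization_pow, Finsupp.single_eq_of_ne hlp, Finsupp.single_eq_same, add_zero]
  have hM1 : (⊤ : Subgroup ↥M) ≠ ⊥ := by
    intro h0
    have h3 : Nat.card M = 1 := by
      rw [← Subgroup.card_top, h0, Subgroup.card_bot]
    rw [v, h3, Nat.factorization_one] at hvM
    simp at hvM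
    omega
  have hts : Group.IsSolvable ↥(⊤ : Subgroup ↥M) :=
    Group.isSolvable_of_isSolvable_injective (Subgroup.subtype_injective _)
  obtain ⟨r, Y, hr, hYn, hY1, -, hYp⟩ := H470.SolvPi.exists_normal_pgroup (G := ↥M) inferInstance hM1 hts
  have hrF := Fact.mk hr
  have hY' : IsPGroup r ↥(Y.map M.subtype) := hYp.map _
  have hY1' : Y.map M.subtype ≠ ⊥ := fun h0 => hY1 ((Subgroup.map_eq_bot_iff_of_injective Y M.subtype_injective).1 h0)
  have hnorm := Cfsg.Agent.H160.PD.le_normalizer_map M Y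
  have hrd : r ∣ Nat.card M := by
    obtain ⟨k, hk⟩ := IsPGroup.iff_card.1 hYp
    have h3 : k ≠ 0 := by
      rintro rfl
      rw [pow_zero, Subgroup.card_eq_one] at hk
      exact hY1 hk
    exact ((hk ▸ dvd_pow_self r h3 : r ∣ Nat.card Y)).trans (Subgroup.card_subgroup_dvd_card Y)
  rw [hM, hr.dvd_mul] at hrd
  rcases hrd with hrd | hrd
  · -- `Y` is a `p`-group
    have h3 : r = p := (Nat.prime_dvd_prime_iff_eq hr H.prime).1 (hr.dvd_of_dvd_pow hrd)
    subst h3
    exact absurd (hT.norm' H h hvM hY' hnorm) hY1'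
  · have h3 : r = l := (Nat.prime_dvd_prime_iff_eq hr h.prime).1 (hr.dvd_of_dvd_pow hrd)
    subst h3
    -- an element of order `l` in `Y`
    have : Nontrivial Y := (Subgroup.nontrivial_iff_ne_bot Y).2 hY1
    obtain ⟨k, hk⟩ := IsPGroup.iff_card.1 hYp
    have hrd' : r ∣ Nat.card Y := by
      have h1 : 1 < Nat.card Y := Finite.one_lt_card_iff_nontrivial.2 this
      rw [hk] at h1 ⊢
      apply dvd_pow_self
      rintro rfl
      simp at h1
    obtain ⟨⟨y, hyY⟩, hyo⟩ := exists_prime_orderOf_dvd_card' r hrd'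
    rw [Subgroup.orderOf_mk] at hyo
    -- the conjugation of a Sylow `p`-subgroup on `Y`
    obtain ⟨S⟩ : Nonempty (Sylow p ↥M) := inferInstance
    let act : MulAction ↥(S : Subgroup ↥M) Y :=
      { smul := fun g z => ⟨g.1 * z.1 * (g.1)⁻¹, hYn.conj_mem z.1 z.2 g.1⟩
        one_smul := fun z => Subtype.ext (by
          change (1 : ↥M) * z.1 * (1 : ↥M)⁻¹ = z.1
          group)
        mul_smul := fun g h z => Subtype.ext (by
          change (g.1 * h.1) * z.1 * (g.1 * h.1)⁻¹ = g.1 * (h.1 * z.1 * (h.1)⁻¹) * (g.1)⁻¹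
          group) }
    have h4 := (MulAction.stabilizer ↥(S : Subgroup ↥M) (⟨y, hyY⟩ : Y)).index_mul_card
    rw [MulAction.index_stabilizer] at h4
    have h5 : (MulAction.orbit ↥(S : Subgroup ↥M) (⟨y, hyY⟩ : Y)).ncard ≤ Nat.card Y := by
      rw [← Set.ncard_univ]
      exact Set.ncard_le_ncard (Set.subset_univ _) (Set.toFinite _)
    have h6 : Nat.card (MulAction.stabilizer ↥(S : Subgroup ↥M) (⟨y, hyY⟩ : Y)) ≤ p ^ (7 * f) := by
      -- embed in the centraliser
      let φ : ↥(MulAction.stabilizer ↥(S : Subgroup ↥M) (⟨y, hyY⟩ : Y)) →* P Q :=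
        M.subtype.comp ((S : Subgroup ↥M).subtype.comp (Subgroup.subtype _))
      have hφ : Function.Injective φ :=
        M.subtype_injective.comp ((Subgroup.subtype_injective _).comp (Subgroup.subtype_injective _))
      have h7 : IsPGroup p ↥φ.range := by
        have h8 : IsPGroup p ↥(MulAction.stabilizer ↥(S : Subgroup ↥M) (⟨y, hyY⟩ : Y)) := S.isPGroup'.to_subgroup _
        exact h8.of_surjective φ.rangeRestrict φ.rangeRestrict_surjective
      have h8 : φ.range ≤ Subgroup.centralizer ({(y : P Q)} : Set (P Q)) := by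
        rintro _ ⟨g, rfl⟩
        rw [Subgroup.mem_centralizer_singleton_iff]
        have h9 := congrArg Subtype.val (MulAction.mem_stabilizer_iff.1 g.2)
        have h10 : g.1.1 * y * (g.1.1)⁻¹ = y := h9
        rw [mul_inv_eq_iff_eq_mul] at h10
        exact congrArg Subtype.val h10
      have h9 : Nat.card ↥(MulAction.stabilizer ↥(S : Subgroup ↥M) (⟨y, hyY⟩ : Y)) = Nat.card φ.range :=
        Nat.card_congr (MonoidHom.ofInjective hφ).toEquiv
      rw [h9, card_pgroup h7]
      apply Nat.pow_le_pow_right H.prime.pos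
      have h10 : orderOf (y : P Q) = r := by rw [← hyo]; exact Subgroup.orderOf_coe y
      exact (v_mono h8 p).trans (H.v_cent_four h h10)
    -- the order of `Y`
    have h7 : Nat.card Y < p ^ (4 * f) := by
      have h8 : Nat.card Y ∣ Nat.card (P Q) := (Subgroup.card_subgroup_dvd_card Y).trans (Subgroup.card_subgroup_dvd_card M)
      have h9 : k ≤ v r (P Q) := by
        rw [hk] at h8
        exact (hr.pow_dvd_iff_le_factorization Nat.card_pos.ne').1 h8
      rw [H.v_four h, h.fac_eq] at h9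
      have h10 : 2 * r ^ (Nat.card F ^ 2 + 1).factorization r ≤ Nat.card F ^ 2 + 1 := by
        apply Nat.le_of_dvd (Nat.succ_pos _)
        apply Nat.Coprime.mul_dvd_of_dvd_of_dvd
        · exact Nat.Coprime.pow_right _ ((Nat.coprime_primes Nat.prime_two hr).2 h.ne.symm)
        · have h11 : Odd (Nat.card F ^ 2) := by
            rw [H.hF]
            exact (H.prime.odd_of_ne_two hp2).pow.pow
          rw [← even_iff_two_dvd]
          exact h11.add_one
        · exact Nat.ordProj_dvd _ _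
      have h11 : Nat.card Y ≤ (r ^ (Nat.card F ^ 2 + 1).factorization r) ^ 2 := by
        rw [hk, ← pow_mul]
        exact Nat.pow_le_pow_right hr.pos (by omega)
      have h12 : p ^ (4 * f) = Nat.card F ^ 4 := by rw [H.hF, ← pow_mul, mul_comm]
      rw [h12]
      refine lt_of_le_of_lt h11 ?_
      have h13 : (2 * r ^ (Nat.card F ^ 2 + 1).factorization r) ^ 2 ≤ (Nat.card F ^ 2 + 1) ^ 2 := Nat.pow_le_pow_left h10 2
      have h14 : 4 * (r ^ (Nat.card F ^ 2 + 1).factorization r) ^ 2 ≤ (Nat.card F ^ 2 + 1) ^ 2 := by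
        calc 4 * (r ^ (Nat.card F ^ 2 + 1).factorization r) ^ 2 = (2 * r ^ (Nat.card F ^ 2 + 1).factorization r) ^ 2 := by
              ring
          _ ≤ _ := h13
      have h15 : (Nat.card F ^ 2 + 1) ^ 2 < 4 * Nat.card F ^ 4 := by
        have h16 : 1 < Nat.card F ^ 2 := Nat.one_lt_pow (by omega) hq
        have h17 : Nat.card F ^ 4 = Nat.card F ^ 2 * Nat.card F ^ 2 := by ring
        rw [h17]
        nlinarith
      omega
    have h8 : Nat.card ↥(S : Subgroup ↥M) < p ^ (11 * f) := by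
      rw [← h4]
      calc _ ≤ Nat.card Y * p ^ (7 * f) := Nat.mul_le_mul h5 h6
        _ < p ^ (4 * f) * p ^ (7 * f) := Nat.mul_lt_mul_of_pos_right h7 (pow_pos H.prime.pos _)
        _ = p ^ (11 * f) := by rw [← pow_add]; congr 1; omega
    rw [S.card_eq_multiplicity] at h8
    have h9 := (Nat.pow_lt_pow_iff_right H.prime.one_lt).1 h8
    have h10 : v p M = v p X := hvM'
    simp only [v] at h10 ⊢
    omega

/-- **There is no configuration with `L ⊓ Γ = 1`.** -/
theorem PlusC.triality_false (H : PlusC Q 4 p f) (hZ : Subgroup.center (P Q) = ⊥) (hT : TriHyp Q H.good p f)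
    (hΓ : ∀ α, α ∈ Γ ↔ PtA H.good α) (hind : Γ.index = 3) (hC : Cfg π L K L' K') (hL : L ⊓ Γ = ⊥) : False := by
  have hfinE : Finite ↥(E Q) := finite_E
  have hf := H.hf
  have hFp := Fact.mk H.prime
  obtain ⟨l, h⟩ := H.exists_four'
  have hFl := Fact.mk h.prime
  have hL3 := card_L hind hL hC
  have hπ3 : 3 ∈ π := hC.piL 3 Nat.prime_three (by rw [hL3])
  have hvL : ∀ r : ℕ, r.Prime → r ≠ 3 → v r L = 0 := by
    intro r hr hr3
    rw [v, hL3]
    apply Nat.factorization_eq_zero_of_not_dvd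
    intro h1
    exact hr3 ((Nat.prime_dvd_prime_iff_eq hr Nat.prime_three).1 h1)
  have hvL3 : v 3 L = 1 := by
    rw [v, hL3]
    exact Nat.Prime.factorization_self Nat.prime_three
  have hle := h.le
  have hl3 : l ≠ 3 := by omega
  -- a triality automorphism
  obtain ⟨b, hb, t, ht, -, -, hbo⟩ := hC.exists_prime
  have hbΓ : b ∉ Γ := by
    intro hbΓ
    have h1 : b ∈ L ⊓ Γ := ⟨hb, hbΓ⟩
    rw [hL, Subgroup.mem_bot] at h1
    rw [h1, orderOf_one] at hbo
    exact ht.one_lt.ne hbo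
  have hbA : ¬ PtA H.good b := fun h1 => hbΓ ((hΓ b).2 h1)
  have hKb := hC.trK_le hZ hb
  have hout := H.houtp
  have hvp := H.v_p
  by_cases hlπ : l ∈ π
  · -- `tr L'` contains a Sylow `l`-subgroup
    have h1 := hC.numL l h.prime hlπ
    have h2 := hvL l h.prime hl3
    have h3 : v l (P Q) ≤ v l (tr L') := by
      simp only [v] at *
      omega
    have h3' : v l (tr L') = v l (P Q) := le_antisymm (v_le_group _ _) h3
    by_cases hpπ : p ∈ π
    · have hp2 : p ≠ 2 := fun h0 => hC.two (h0 ▸ hpπ)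
      have h4 := H.odd_four hT h hp2 (hC.symm.odd hZ) h3
      have h5 := hC.numL p H.prime hpπ
      have h6 : v p L ≤ 1 := by
        by_cases hp3 : p = 3
        · rw [hp3, hvL3]
        · rw [hvL p H.prime hp3]
          omega
      simp only [v] at *
      omega
    · -- `tr K'` is a `p'`-group
      have h4 : v p (tr K') = 0 := by
        apply v_eq_zero
        intro hd
        obtain ⟨x, hx, hxo⟩ := Cfsg.Agent.H160.PD.Cfg.exists_mem H.prime hd
        have h5 := hT.norm' H h (T := tr L') (X := Subgroup.zpowers x) h3'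
          (Cfsg.Agent.H160.PD.isPGroup_zpowers hxo) (by
            intro g hg
            apply Subgroup.centralizer_le_normalizer
            rw [Subgroup.mem_centralizer_iff]
            rintro _ ⟨i, rfl⟩
            have h6 := hC.symm.tr_comm hZ hg hx
            exact ((Commute.zpow_right (show Commute g x from h6) i).symm).eq)
        rw [Subgroup.zpowers_eq_bot] at h5
        rw [h5, orderOf_one] at hxo
        exact H.prime.one_lt.ne hxo
      have h5 := hC.numK p H.prime hpπ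
      have h6 := v_le hZ K p
      have h7 := v_mono hKb p
      have h8 := hT.h9 b hbA
      simp only [v] at *
      omega
  · -- an element of order `l` in `tr K'`
    have h1 := hC.numK l h.prime hlπ
    have h2 := v_le hZ K l
    have h3 := v_mono hKb l
    have h4 := H.v_Fx_four h hbA
    have h5 := H.out_four h
    have h6 : l ∣ Nat.card (tr K') := by
      by_contra h7
      have h8 := v_eq_zero h7
      simp only [v] at *
      omega
    obtain ⟨x, hx, hxo⟩ := Cfsg.Agent.H160.PD.Cfg.exists_mem h.prime h6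
    have h7 := H.three_lt hT h hxo
    have h8 := v_mono (hC.symm.trL_le_centralizer hZ hx) 3
    have h9 := hC.numL 3 Nat.prime_three hπ3
    simp only [v] at *
    omega

end Cfsg.Agent.H14.PD
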