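import Cfsg.Agent.H14.PD.Four

/-!
# S4246, row of `POmega^+_8(q)` (helper14)
-/

set_option autoImplicit false
set_option linter.unusedSectionVars false

namespace Cfsg.Agent.H14.PD

open QuadraticMap Module Cfsg.Agent.LieClassical.OrthCore Cfsg.Agent.LieClassical.OrthTrans
open Cfsg.Agent.ClassicalGeometry.OrthSemi Cfsg.Agent.ClassicalGeometry.OrthAut1
open Cfsg.Agent.H200.LinFix Cfsg.Agent.H200.RowOrth Cfsg.Agent.H568
open Cfsg.Agent.H160.PD (v v_mono v_eq_zero v_pos Fx mem_Fx NoOdd noOdd_of Uniq odd_bound_of_uniq out Cfg tr Row v_le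
  v_tr_le card_tr_dvd exists_hall card_map_subtype In)

variable {F V : Type*} [Field F] [AddCommGroup V] [Module F V] {Q : QuadraticForm F V} [Finite V] [Finite F]

variable {p f : ℕ} {Γ : Subgroup (MulAut (P Q))} {π : Set ℕ} {L K L' K' : Subgroup (MulAut (P Q))}

theorem odg_four : Odg 4 3 := ⟨by decide, Or.inr rfl⟩

/-- an element of prime order in `L ⊓ Γ` -/
theorem exists_prime_Γ (hC : Cfg π L K L' K') (h : L ⊓ Γ ≠ ⊥) :
    ∃ b ∈ L, b ∈ Γ ∧ (orderOf b).Prime ∧ orderOf b ≠ 2 ∧ orderOf b ∈ π := by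
  have hfinE : Finite ↥(E Q) := finite_E
  have h1 : Nat.card ↥(L ⊓ Γ) ≠ 1 := fun h0 => h (Subgroup.eq_bot_of_card_eq _ h0)
  obtain ⟨t, ht, htd⟩ := Nat.exists_prime_and_dvd h1
  have := Fact.mk ht
  obtain ⟨⟨b, hbm⟩, hbo⟩ := exists_prime_orderOf_dvd_card' t htd
  rw [Subgroup.orderOf_mk] at hbo
  obtain ⟨hb, hbΓ⟩ := hbm
  have htπ := hC.piL t ht (htd.trans (Subgroup.card_dvd_of_le inf_le_left))
  exact ⟨b, hb, hbΓ, hbo ▸ ht, by rw [hbo]; exact fun h2 => hC.two (h2 ▸ htπ), hbo ▸ htπ⟩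

/-- elements of order `l` (of degree four) commute with no element of order `r` or `s` -/
theorem Plus.four_first (H : Plus Q 4 p f) {l r : ℕ} (hl : Four Q f l) [hr : Fact r.Prime] (hr2 : r ≠ 2)
    (hrF : (r : F) ≠ 0) (hd : Ordd r (Nat.card F) (2 * (4 - 1))) {y z : ↥(E Q)} (hy : y ^ r = 1) (hy1 : y ≠ 1)
    (hz : z ^ l = 1) (hz1 : z ≠ 1) (hzy : z * y = y * z) : False := by
  have hlF := Fact.mk hl.prime
  have hfd : FiniteDimensional F V := inferInstance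
  have hz' : en Q z ^ l = 1 := by rw [← map_pow, hz, map_one]
  rcases plus_first H.good hl.ne hl.cast (n := 4) le_rfl H.hV hr2 hrF hd hy hy1 hz hz1 hzy with ⟨-, h1⟩ | ⟨-, h1⟩
  · have h2 := dvd_finrank_R hl.ord hl.cast hz'
    rw [h1] at h2
    omega
  · apply hl.not_dvd (m := 6) (by omega)
    have h6 : Nat.card F ^ 6 - 1 = (Nat.card F ^ 3 + 1) * (Nat.card F ^ 3 - 1) := by
      rw [show 6 = 3 * 2 by norm_num, pow_mul]
      exact Nat.sq_sub_sq (Nat.card F ^ 3) 1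
    rw [h6]
    exact Dvd.dvd.mul_right h1 _

theorem Plus.four_second (H : Plus Q 4 p f) {l r : ℕ} (hl : Four Q f l) [hr : Fact r.Prime] (hr2 : r ≠ 2)
    (hrF : (r : F) ≠ 0) (hd : Ordd r (Nat.card F) 3) (hrd : r ∣ Nat.card F ^ 3 - 1) {y z : ↥(E Q)} (hy : y ^ r = 1)
    (hy1 : y ≠ 1) (hz : z ^ l = 1) (hz1 : z ≠ 1) (hzy : z * y = y * z) : False := by
  have hlF := Fact.mk hl.prime
  have hfd : FiniteDimensional F V := inferInstance
  have hz' : en Q z ^ l = 1 := by rw [← map_pow, hz, map_one]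
  rcases plus_second H.good hl.ne hl.cast (n := 4) (d := 3) le_rfl H.hV odg_four.odd (Or.inr rfl) hr2 hrF hd hrd hy hy1 hz hz1
    hzy with ⟨-, h1, -⟩ | ⟨-, h1⟩
  · have h2 := dvd_finrank_R hl.ord hl.cast hz'
    rw [h1] at h2
    omega
  · exact hl.not_dvd (m := 3) (by omega) h1

/-- an element of prime order with a two-dimensional commutator space -/
theorem dvd_of_plane {t : ℕ} [ht : Fact t.Prime] (htF : (t : F) ≠ 0) {s : ↥(E Q)} (hs : s ^ t = 1)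
    (h2 : finrank F (R (en Q s)) = 2) : t ∣ Nat.card F ^ 2 - 1 := by
  have hs' : en Q s ^ t = 1 := by rw [← map_pow, hs, map_one]
  have h1 : Nat.card (R (en Q s)) ≡ 1 [MOD t] := card_modEq (g := en Q s) (W := R (en Q s)) (fun w hw => R_inv rfl hw)
    (fun w _ => by rw [hs']; rfl) (fun w hw h => eq_zero_of_mem hs' htF h hw)
  rw [Module.natCard_eq_pow_finrank (K := F), h2] at h1
  exact (Nat.modEq_iff_dvd' (Nat.one_le_pow _ _ Nat.card_pos)).1 h1.symm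

/-- elements commuting with elements of order `l₀` and of order four, `q = 3` -/
theorem Plus.no_comm_first (H : Plus Q 4 3 1) {l₀ l₄ : ℕ} (h₀ : First Q 4 3 1 l₀) (h₄ : Four Q 1 l₄) {t a c : ↥(E Q)}
    {r : ℕ} (hr : r.Prime) (hr2 : r ≠ 2) (ht : t ^ r = 1) (ht1 : t ≠ 1) (ha : a ^ l₀ = 1) (ha1 : a ≠ 1)
    (hta : t * a = a * t) (hc : c ^ l₄ = 1) (hc1 : c ≠ 1) (htc : t * c = c * t) : False := by
  have hF3 : Nat.card F = 3 := by rw [H.hF]; rfl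
  have := Fact.mk hr
  have := Fact.mk h₀.prime
  have hG := H.good
  by_cases hbc : (r : F) = 0
  · have hch : CharP F 3 := (CharP.charP_iff_prime_eq_zero Nat.prime_three).2 H.hpF
    have h3 : r = 3 := by
      rw [CharP.cast_eq_zero_iff F 3] at hbc
      exact ((Nat.prime_dvd_prime_iff_eq Nat.prime_three hr).1 hbc).symm
    rw [h3] at ht
    exact ht1 (H.comm_first h₀.cast h₀.ord ha ha1 (k := 1) (by rwa [pow_one]) hta)
  · rcases plus_first hG hr2 hbc (n := 4) le_rfl H.hV h₀.ne h₀.cast h₀.ord ha ha1 ht ht1 hta with ⟨-, e⟩ | ⟨-, e⟩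
    · have h1 := dvd_of_plane hbc ht e
      rw [hF3] at h1
      norm_num at h1
      have h2 : r ∣ 2 ^ 3 := h1
      exact hr2 ((Nat.prime_dvd_prime_iff_eq hr Nat.prime_two).1 (hr.dvd_of_dvd_pow h2))
    · have h28 : r ∣ 28 := by rw [hF3] at e; norm_num at e; exact e
      have h028 : l₀ ∣ 28 := by have := h₀.dvd; rw [hF3] at this; norm_num at this; exact this
      have h7 : ∀ r : ℕ, r.Prime → r ≠ 2 → r ∣ 28 → r = 7 := by
        intro r hr hr2 h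
        have h1 : r ∣ 2 ^ 2 * 7 := h
        rcases hr.dvd_mul.1 h1 with h2 | h2
        · exact absurd ((Nat.prime_dvd_prime_iff_eq hr Nat.prime_two).1 (hr.dvd_of_dvd_pow h2)) hr2
        · exact (Nat.prime_dvd_prime_iff_eq hr (by norm_num)).1 h2
      have h1 : r = l₀ := (h7 _ hr hr2 h28).trans (h7 _ h₀.prime h₀.ne h028).symm
      rw [h1] at ht
      exact H.four_first h₄ h₀.ne h₀.cast h₀.ord ht ht1 hc hc1 htc.symm

/-- elements commuting with elements of order `l₁` and of order four, `q = 3` -/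
theorem Plus.no_comm_second (H : Plus Q 4 3 1) {l₁ l₄ : ℕ} (h₁ : Second Q 4 3 1 3 l₁) (h₄ : Four Q 1 l₄) {t a c : ↥(E Q)}
    {r : ℕ} (hr : r.Prime) (hr2 : r ≠ 2) (ht : t ^ r = 1) (ht1 : t ≠ 1) (ha : a ^ l₁ = 1) (ha1 : a ≠ 1)
    (hta : t * a = a * t) (hc : c ^ l₄ = 1) (hc1 : c ≠ 1) (htc : t * c = c * t) : False := by
  have hF3 : Nat.card F = 3 := by rw [H.hF]; rfl
  have := Fact.mk hr
  have := Fact.mk h₁.prime
  have hG := H.good
  by_cases hbc : (r : F) = 0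
  · have hch : CharP F 3 := (CharP.charP_iff_prime_eq_zero Nat.prime_three).2 H.hpF
    have h3 : r = 3 := by
      rw [CharP.cast_eq_zero_iff F 3] at hbc
      exact ((Nat.prime_dvd_prime_iff_eq Nat.prime_three hr).1 hbc).symm
    rw [h3] at ht
    exact ht1 (H.comm_second odg_four h₁.ne h₁.cast h₁.ord h₁.dvd ha ha1 (k := 1) (by rwa [pow_one]) hta)
  · rcases plus_second hG hr2 hbc (n := 4) (d := 3) le_rfl H.hV odg_four.odd (Or.inr rfl) h₁.ne h₁.cast h₁.ord h₁.dvd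
      ha ha1 ht ht1 hta with ⟨-, e, -⟩ | ⟨-, e⟩
    · have h1 := dvd_of_plane hbc ht e
      rw [hF3] at h1
      norm_num at h1
      have h2 : r ∣ 2 ^ 3 := h1
      exact hr2 ((Nat.prime_dvd_prime_iff_eq hr Nat.prime_two).1 (hr.dvd_of_dvd_pow h2))
    · have h26 : r ∣ 26 := by rw [hF3] at e; norm_num at e; exact e
      have h126 : l₁ ∣ 26 := by have := h₁.dvd; rw [hF3] at this; norm_num at this; exact this
      have h13 : ∀ r : ℕ, r.Prime → r ≠ 2 → r ∣ 26 → r = 13 := by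
        intro r hr hr2 h
        have h1 : r ∣ 2 * 13 := h
        rcases hr.dvd_mul.1 h1 with h2 | h2
        · exact absurd ((Nat.prime_dvd_prime_iff_eq hr Nat.prime_two).1 h2) hr2
        · exact (Nat.prime_dvd_prime_iff_eq hr (by norm_num)).1 h2
      have h1 : r = l₁ := (h13 _ hr hr2 h26).trans (h13 _ h₁.prime h₁.ne h126).symm
      rw [h1] at ht
      exact H.four_second h₄ h₁.ne h₁.cast h₁.ord h₁.dvd ht ht1 hc hc1 htc.symm

/-- lifting -/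
theorem Plus.exists_comm (H : Plus Q 4 p f) {t : ↥(E Q)} {b : MulAut (P Q)} {l : ℕ} {y : P Q}
    (hbt : b = MulAut.conj (QuotientGroup.mk t : P Q)) (hl : l.Prime) (hl2 : l ≠ 2) (hyo : orderOf y = l)
    (hby : b y = y) : ∃ c : ↥(E Q), c ^ l = 1 ∧ c ≠ 1 ∧ t * c = c * t := by
  obtain ⟨c, hc, hc1, rfl⟩ := H.exists_lift hl hl2 hyo
  rw [hbt, MulAut.conj_apply, mul_inv_eq_iff_eq_mul] at hby
  exact ⟨c, hc, hc1, (comm_of_mk H.good (hl.odd_of_ne_two hl2) hc hby.symm).symm⟩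

/-- **The row of `POmega^+_8(q)`, `q > 3`.** -/
theorem PlusC.row_four_gen [IsSimpleGroup (P Q)] (H : PlusC Q 4 p f) (hZ : Subgroup.center (P Q) = ⊥)
    (hT : TriHyp Q H.good p f) (hΓ : ∀ α, α ∈ Γ ↔ PtA H.good α) (hind : Γ.index = 3)
    (hΓM : ∀ b ∈ Γ, ∃ M : Gam Q, b = Psi Q M) (hne2 : ¬ (p = 2 ∧ f = 1)) (hne3 : ¬ (p = 3 ∧ f = 1)) : Row (P Q) := by
  have hfinE : Finite ↥(E Q) := finite_E
  obtain ⟨l₀, h₀⟩ := H.exists_first (fun h => hne2 ⟨h.1, h.2.1⟩)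
  obtain ⟨l₁, h₁⟩ := H.exists_second odg_four
  refine (H.twoE odg_four (fun h => hne3 ⟨h.1, h.2.1⟩) h₀ h₁ (fun b hb => hT.h9 b fun h => hb (hΓM b ((hΓ b).2 h))) ?_).row hZ
  intro π L K L' K' hC h1 h2
  by_cases hL : L ⊓ Γ = ⊥
  · exact H.triality_false hZ hT hΓ hind hC hL
  · obtain ⟨b, hb, hbΓ, hbp, hb2, -⟩ := exists_prime_Γ hC hL
    obtain ⟨x, hx, hxo⟩ := Cfsg.Agent.H160.PD.Cfg.exists_mem h₀.prime h1
    obtain ⟨y, hy, hyo⟩ := Cfsg.Agent.H160.PD.Cfg.exists_mem h₁.prime h2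
    exact H.inc odg_four h₀ h₁ (hΓM b hbΓ) hbp hb2 hxo (hC.fix hZ hb hx) hyo (hC.fix hZ hb hy)

/-- **The row of `POmega^+_8(3)`.** -/
theorem PlusC.row_four_three [IsSimpleGroup (P Q)] (H : PlusC Q 4 p f) (hZ : Subgroup.center (P Q) = ⊥)
    (hT : TriHyp Q H.good p f) (hΓ : ∀ α, α ∈ Γ ↔ PtA H.good α) (hind : Γ.index = 3)
    (hΓM : ∀ b ∈ Γ, ∃ M : Gam Q, b = Psi Q M) (hp3 : p = 3) (hf1 : f = 1) : Row (P Q) := by
  subst hp3
  subst hf1
  have hG := H.good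
  have hF3 : Nat.card F = 3 := by rw [H.hF]; rfl
  have hfinE : Finite ↥(E Q) := finite_E
  obtain ⟨l₀, h₀⟩ := H.exists_first (by omega)
  obtain ⟨l₁, h₁⟩ := H.exists_second odg_four
  obtain ⟨l₄, h₄⟩ := H.exists_four'
  have hF0 := Fact.mk h₀.prime
  have hF1 := Fact.mk h₁.prime
  have hF4 := Fact.mk h₄.prime
  have hne : ∀ {l : ℕ}, (l : F) ≠ 0 → l ≠ 3 := by
    rintro l h rfl
    exact h H.hpF
  have hcast : ∀ {t : ℕ}, t.Prime → (t : F) = 0 → t = 3 := by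
    intro t ht h
    have hc : CharP F 3 := (CharP.charP_iff_prime_eq_zero Nat.prime_three).2 H.hpF
    rw [CharP.cast_eq_zero_iff F 3] at h
    exact ((Nat.prime_dvd_prime_iff_eq Nat.prime_three ht).1 h).symm
  have hl₄5 : 5 ≤ l₄ := h₄.le
  have h₄card : l₄ ∣ Nat.card (P Q) := H.dvd_card' h₄.prime h₄.ne h₄.dvd
  have hg₀ : Cfsg.Agent.H160.PD.Good (P Q) l₀ := ⟨h₀.prime, h₀.ne, H.good_of h₀.prime h₀.ne (hne h₀.cast) h₀.card⟩
  have hg₁ : Cfsg.Agent.H160.PD.Good (P Q) l₁ := ⟨h₁.prime, h₁.ne, H.good_of h₁.prime h₁.ne (hne h₁.cast) h₁.card⟩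
  have hg₄ : Cfsg.Agent.H160.PD.Good (P Q) l₄ := ⟨h₄.prime, h₄.ne, H.good_of h₄.prime h₄.ne (hne h₄.cast) h₄card⟩
  -- `NoOdd`
  have n01 := H.noOdd odg_four h₀.prime h₀.ne h₀.cast h₀.ord h₀.dvd h₀.le h₁.prime h₁.ne h₁.cast h₁.ord h₁.dvd h₁.le
  have hne04 : l₀ ≠ l₄ := by
    rintro rfl
    obtain ⟨y, hy, hy1⟩ := exists_elt hG h₀.ne h₀.card
    exact H.four_first h₄ h₀.ne h₀.cast h₀.ord hy hy1 hy hy1 rfl
  have hne14 : l₁ ≠ l₄ := by
    rintro rfl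
    obtain ⟨y, hy, hy1⟩ := exists_elt hG h₁.ne h₁.card
    exact H.four_second h₄ h₁.ne h₁.cast h₁.ord h₁.dvd hy hy1 hy hy1 rfl
  have h8 : finrank F V = 8 := H.hV
  have n04 : NoOdd (P Q) l₀ l₄ := noOdd_of_comm hG h₀.ne h₄.ne hne04 h₀.cast h₄.cast h₀.le (by omega)
    fun y z hy hy1 hz hz1 hzy => H.four_first h₄ h₀.ne h₀.cast h₀.ord hy hy1 hz hz1 hzy
  have n14 : NoOdd (P Q) l₁ l₄ := noOdd_of_comm hG h₁.ne h₄.ne hne14 h₁.cast h₄.cast h₁.le (by omega)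
    fun y z hy hy1 hz hz1 hzy => H.four_second h₄ h₁.ne h₁.cast h₁.ord h₁.dvd hy hy1 hz hz1 hzy
  have i04 : ∀ b ∈ Γ, (orderOf b).Prime → orderOf b ≠ 2 → ∀ x : P Q, orderOf x = l₀ → b x = x → ∀ y : P Q,
      orderOf y = l₄ → b y = y → False := by
    intro b hbΓ hb hb2 x hx hbx y hyo hby
    obtain ⟨t, a, ht, ht1, hbt, ha, ha1, -, hta⟩ := H.lift_first h₀.ne h₀.cast h₀.ord h₀.sup hb hb2 (hΓM b hbΓ) hx hbx
    obtain ⟨c, hc, hc1, htc⟩ := H.exists_comm hbt h₄.prime h₄.ne hyo hby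
    exact H.no_comm_first h₀ h₄ hb hb2 ht ht1 ha ha1 hta hc hc1 htc
  have i14 : ∀ b ∈ Γ, (orderOf b).Prime → orderOf b ≠ 2 → ∀ x : P Q, orderOf x = l₁ → b x = x → ∀ y : P Q,
      orderOf y = l₄ → b y = y → False := by
    intro b hbΓ hb hb2 x hx hbx y hyo hby
    obtain ⟨t, a, ht, ht1, hbt, ha, ha1, -, hta⟩ :=
      H.lift_second odg_four h₁.ne h₁.cast h₁.ord h₁.dvd h₁.sup hb hb2 (hΓM b hbΓ) hx hbx
    obtain ⟨c, hc, hc1, htc⟩ := H.exists_comm hbt h₄.prime h₄.ne hyo hby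
    exact H.no_comm_second h₁ h₄ hb hb2 ht ht1 ha ha1 hta hc hc1 htc
  -- the exclusions
  have key : ∀ {π : Set ℕ} {L K L' K' : Subgroup (MulAut (P Q))}, Cfg π L K L' K' →
      ¬ (In L K l₀ ∧ In L K l₁) ∧ ¬ (In L K l₀ ∧ In L K l₄) ∧ ¬ (In L K l₁ ∧ In L K l₄) := by
    intro π L K L' K' hC
    have hL : L ⊓ Γ ≠ ⊥ := fun hL => H.triality_false hZ hT hΓ hind hC hL
    obtain ⟨b, hb, hbΓ, hbp, hb2, -⟩ := exists_prime_Γ hC hL
    have kk : ∀ {r s : ℕ}, r.Prime → s.Prime →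
        (∀ x : P Q, orderOf x = r → b x = x → ∀ y : P Q, orderOf y = s → b y = y → False) →
        r ∣ Nat.card (tr K) → s ∣ Nat.card (tr K) → False := by
      intro r s hr hs hI h1 h2
      obtain ⟨x, hx, hxo⟩ := Cfsg.Agent.H160.PD.Cfg.exists_mem hr h1
      obtain ⟨y, hy, hyo⟩ := Cfsg.Agent.H160.PD.Cfg.exists_mem hs h2
      exact hI x hxo (hC.fix hZ hb hx) y hyo (hC.fix hZ hb hy)
    have ex : ∀ {r s : ℕ}, r.Prime → r ≠ 2 → s.Prime → s ≠ 2 → NoOdd (P Q) r s →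
        (∀ x : P Q, orderOf x = r → b x = x → ∀ y : P Q, orderOf y = s → b y = y → False) →
        ¬ (In L K r ∧ In L K s) := by
      rintro r s hr hr2 hs hs2 hN hI ⟨h1 | h1, h2 | h2⟩
      · exact hC.exclLL hZ hN h1 h2
      · exact hC.exclLK hZ hr hr2 hs hs2 hN h1 h2
      · exact hC.exclLK hZ hs hs2 hr hr2 hN.symm h2 h1
      · exact kk hr hs hI h1 h2
    refine ⟨ex h₀.prime h₀.ne h₁.prime h₁.ne n01 fun x hx hbx y hy hby =>
        H.inc odg_four h₀ h₁ (hΓM b hbΓ) hbp hb2 hx hbx hy hby,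
      ex h₀.prime h₀.ne h₄.prime h₄.ne n04 (i04 b hbΓ hbp hb2), ex h₁.prime h₁.ne h₄.prime h₄.ne n14 (i14 b hbΓ hbp hb2)⟩
  intro π L K L' K' hC
  obtain ⟨e1, e2, e3⟩ := key hC
  obtain ⟨e4, e5, e6⟩ := key hC.symm
  have c1 := hC.cover hZ hg₀
  have c2 := hC.cover hZ hg₁
  have c3 := hC.cover hZ hg₄
  rcases c1 with a1 | a1
  · have b2 : In L' K' l₁ := c2.resolve_left fun a2 => e1 ⟨a1, a2⟩
    have b3 : In L' K' l₄ := c3.resolve_left fun a3 => e2 ⟨a1, a3⟩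
    exact e6 ⟨b2, b3⟩
  · have b2 : In L K l₁ := c2.resolve_right fun a2 => e4 ⟨a1, a2⟩
    have b3 : In L K l₄ := c3.resolve_right fun a3 => e5 ⟨a1, a3⟩
    exact e3 ⟨b2, b3⟩

/-- **The row of `POmega^+_8(2)`.** -/
theorem PlusC.row_four_two [IsSimpleGroup (P Q)] (H : PlusC Q 4 p f) (hZ : Subgroup.center (P Q) = ⊥)
    (hT : TriHyp Q H.good p f) (hΓ : ∀ α, α ∈ Γ ↔ PtA H.good α) (hind : Γ.index = 3)
    (hΓM : ∀ b ∈ Γ, ∃ M : Gam Q, b = Psi Q M) (hp2 : p = 2) (hf1 : f = 1) : Row (P Q) := by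
  subst hp2
  subst hf1
  have hG := H.good
  have hF2 : Nat.card F = 2 := by rw [H.hF]; rfl
  have hfinE : Finite ↥(E Q) := finite_E
  obtain ⟨l₁, h₁⟩ := H.exists_second odg_four
  have hF1 := Fact.mk h₁.prime
  have hne : l₁ ≠ 2 := h₁.ne
  have hg₁ : Cfsg.Agent.H160.PD.Good (P Q) l₁ := ⟨h₁.prime, h₁.ne, H.good_of h₁.prime h₁.ne hne h₁.card⟩
  have h7 : ∀ r : ℕ, r.Prime → r ∣ Nat.card F ^ 3 - 1 → r = 7 := by
    intro r hr h
    rw [hF2] at h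
    exact (Nat.prime_dvd_prime_iff_eq hr (by norm_num)).1 h
  have hcast : ∀ t : ℕ, t.Prime → t ≠ 2 → (t : F) ≠ 0 := by
    intro t ht ht2 h
    have hc : CharP F 2 := (CharP.charP_iff_prime_eq_zero Nat.prime_two).2 H.hpF
    rw [CharP.cast_eq_zero_iff F 2] at h
    exact ht2 ((Nat.prime_dvd_prime_iff_eq Nat.prime_two ht).1 h).symm
  have hvp := H.v_p
  have hout := H.houtp
  -- the `2`-part of the fixed points
  have hFx : ∀ b : MulAut (P Q), (orderOf b).Prime → orderOf b ≠ 2 → v 2 (Fx b) ≤ 10 := by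
    intro b hb hb2
    have hbF := Fact.mk hb
    by_cases hbA : PtA hG b
    · obtain ⟨M, hM⟩ := hΓM b ((hΓ b).2 hbA)
      rcases inner_or_field hG hb hb2 (M := M) (by rw [← hM]) with ⟨g, hg⟩ | ⟨σ, c, hMs, hσ⟩
      · obtain ⟨t, ht, ht1, hat⟩ := exists_lift_elt hG hb2 (a := b) rfl (s := g) (by rw [hM, hg]) (not_comm_P hG)
        have := H.v_Fx hb hb2 hb2 ht ht1 hat
        omega
      · have h1 := field_dvd hG hb hMs hσ (by rw [← hM]) H.prime H.hF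
        exact absurd (Nat.dvd_one.1 h1) hb.one_lt.ne'
    · have := hT.h9 b hbA
      omega
  have key : ∀ {π : Set ℕ} {L K L' K' : Subgroup (MulAut (P Q))}, Cfg π L K L' K' → In L K l₁ → False := by
    intro π L K L' K' hC hI
    rcases hI with h1 | h1
    · obtain ⟨x, hx, hxo⟩ := Cfsg.Agent.H160.PD.Cfg.exists_mem h₁.prime h1
      have h2 := v_mono (hC.trK_le_centralizer hZ hx) 2
      have h3 := H.cent_second odg_four h₁.prime h₁.ne h₁.cast h₁.ord h₁.dvd hxo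
      have h4 := hC.numK 2 Nat.prime_two hC.two
      have h5 := v_le hZ K 2
      obtain ⟨b, hb, t, ht, -, ht2, hbo⟩ := hC.symm.exists_prime
      have h6 := v_mono (hC.symm.trK_le hZ hb) 2
      have h7 := hFx b (hbo ▸ ht) (by rw [hbo]; exact ht2)
      simp only [v] at *
      omega
    · -- `L ⊓ Γ = 1`
      refine H.triality_false hZ hT hΓ hind hC ?_
      by_contra hL
      obtain ⟨b, hb, hbΓ, hbp, hb2, hbπ⟩ := exists_prime_Γ hC hL
      have hbF := Fact.mk hbp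
      obtain ⟨x, hx, hxo⟩ := Cfsg.Agent.H160.PD.Cfg.exists_mem h₁.prime h1
      obtain ⟨t, a, ht, ht1, hbt, ha, ha1, -, hta⟩ :=
        H.lift_second odg_four h₁.ne h₁.cast h₁.ord h₁.dvd h₁.sup hbp hb2 (hΓM b hbΓ) hxo (hC.fix hZ hb hx)
      have hbc := hcast _ hbp hb2
      rcases plus_second hG hb2 hbc (n := 4) (d := 3) le_rfl H.hV odg_four.odd (Or.inr rfl) h₁.ne h₁.cast h₁.ord h₁.dvd
        ha ha1 ht ht1 hta with ⟨e1, e, -⟩ | ⟨-, e⟩
      · obtain ⟨w, hw, hw0, hQw⟩ := sing_K (n := 4) (by norm_num) H.hsing h₁.ne h₁.ord h₁.dvd ha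
        rw [← e1] at hw
        have h2 := dvd_of_sing_R hG hbc ht e hw hw0 hQw
        rw [hF2] at h2
        exact hb2 ((Nat.prime_dvd_prime_iff_eq hbp Nat.prime_two).1 h2)
      · have h2 : orderOf b = l₁ := (h7 _ hbp e).trans (h7 _ h₁.prime h₁.dvd).symm
        rw [h2] at hbπ
        exact hC.not_mem_pi_of_dvd hZ h₁.prime h1 hbπ
  intro π L K L' K' hC
  rcases hC.cover hZ hg₁ with h | h
  · exact key hC h
  · exact key hC.symm h

/-- **The row of `POmega^+_8(q)`.** -/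
theorem PlusC.row_four [IsSimpleGroup (P Q)] (H : PlusC Q 4 p f) (hZ : Subgroup.center (P Q) = ⊥)
    (hT : TriHyp Q H.good p f) (hΓ : ∀ α, α ∈ Γ ↔ PtA H.good α) (hind : Γ.index = 3)
    (hΓM : ∀ b ∈ Γ, ∃ M : Gam Q, b = Psi Q M) : Row (P Q) := by
  by_cases h2 : p = 2 ∧ f = 1
  · exact H.row_four_two hZ hT hΓ hind hΓM h2.1 h2.2
  by_cases h3 : p = 3 ∧ f = 1
  · exact H.row_four_three hZ hT hΓ hind hΓM h3.1 h3.2
  exact H.row_four_gen hZ hT hΓ hind hΓM h2 h3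

end Cfsg.Agent.H14.PD
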