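import Cfsg.Agent.H200.RowOrthF
import Cfsg.Agent.ClassicalGeometry.OrthDickson

/-!
# S4246, rows of the orthogonal groups: the Dickson invariant on `E Q` (helper14)

`even_finrank_R` : `(g - 1) V` has even dimension for `g ∈ E Q`.
-/

set_option autoImplicit false
set_option linter.unusedSectionVars false

namespace Cfsg.Agent.H14.PD

open QuadraticMap Module Cfsg Cfsg.Agent.LieClassical.OrthCore Cfsg.Agent.LieClassical.OrthTrans
open Cfsg.Agent.ClassicalGeometry.OrthSemi Cfsg.Agent.ClassicalGeometry.OrthAut1 Cfsg.Agent.AutOrth.Main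
open Cfsg.Agent.H200.LinFix Cfsg.Agent.H200.RowOrth Cfsg.Agent.ClassicalGeometry.OrthDickson
open Cfsg.Agent.ClassicalGeometry.OrthCharTwo

variable {ι : Type} [Fintype ι] [DecidableEq ι] {F : Type*} [Field F] {Q : QuadraticForm F (ι → F)}

theorem even_finrank_K (hG : Good Q) (hι : Fintype.card ι ≠ 4) (g : ↥(E Q)) :
    Even (finrank F (K (en Q g)) + Fintype.card ι) := by
  obtain ⟨g', rfl⟩ := (oe hG).surjective g
  have h1 : (polarBilin Q).Nondegenerate := nondeg hG
  have h2 := dsign_eq_one_of_mem_commutator Q h1 (Or.inr hι) (g' : Cfsg.isometryGroup F ⇑Q) g'.2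
  rw [dsign_def] at h2
  have h3 : fixSp (g' : Cfsg.isometryGroup F ⇑Q) = K (en Q (oe hG g')) := by
    ext x
    rw [mem_fixSp, mem_K, en_apply, oe_apply]
    rfl
  rw [h3] at h2
  by_contra hne
  rw [Nat.not_even_iff_odd] at hne
  rw [hne.neg_one_pow] at h2
  exact absurd h2 (by decide)

theorem even_finrank_R (hG : Good Q) (hι : Fintype.card ι ≠ 4) (g : ↥(E Q)) :
    Even (finrank F (R (en Q g))) := by
  have h1 := even_finrank_K hG hι g
  have h2 := finrank_add (en Q g)
  rw [Module.finrank_fintype_fun_eq_card] at h2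
  rw [← h2] at h1
  rw [Nat.even_iff] at h1 ⊢
  omega

end Cfsg.Agent.H14.PD
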