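import Cfsg.Agent.H14.PD.Main
import Cfsg.Agent.H14.PD.Parity
import Cfsg.Agent.H200.RowOrthL
import Cfsg.Agent.S0817

/-!
# S4246, row of `POmega^+_{2n}(q)`: the data of `plusForm` (helper14)
-/

set_option autoImplicit false
set_option linter.unusedSectionVars false

namespace Cfsg.Agent.H14.PD

open QuadraticMap Module Cfsg Cfsg.Agent.LieClassical.OrthCore Cfsg.Agent.LieClassical.OrthTrans
open Cfsg.Agent.ClassicalGeometry.OrthSemi Cfsg.Agent.ClassicalGeometry.OrthAut1 Cfsg.Agent.AutOrth.Main
open Cfsg.Agent.H200.LinFix Cfsg.Agent.H568 Cfsg.Agent.LieClassical.QuadForms Cfsg.Agent.H208.Dict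
open Cfsg.Agent.H200.RowOrth
open Cfsg.Agent.H160.PD (v v_mono v_eq_zero v_pos Fx mem_Fx out)

variable {F : Type} [Field F] [Fintype F] {m : ℕ} (hm : 4 ≤ m)

theorem finrank_plus : finrank F (Fin m ⊕ Fin m → F) = 2 * m := by
  rw [Module.finrank_fintype_fun_eq_card]
  simp
  omega

include hm in
theorem out_mul_plus [IsSimpleGroup (P (plusForm m F))] {p f : ℕ} (hp : p.Prime) (hf : 1 ≤ f)
    (hF : Fintype.card F = p ^ f) : ∃ c, (c = 2 ∧ p = 2 ∨ c = 8 ∨ c = 4) ∧ (p = 2 → c = 2) ∧
      out (P (plusForm m F)) = (if m = 4 then 3 else 1) * c * f := by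
  have := Fact.mk hp
  have hG : Good (plusForm m F) := good_plus (by omega)
  have hfinE : Finite ↥(E (plusForm m F)) := finite_E
  have hZ : Subgroup.center (P (plusForm m F)) = ⊥ := Cfsg.Agent.H160.PD.center_eq_bot (not_comm_P hG)
  have h1 := Cfsg.Agent.H311.PD.out_mul hZ
  have h2 := S0817.result p f hf hF m hm
  have h3 : Nat.card (MulAut (P (plusForm m F))) = Nat.card (MulAut (POmega F ⇑(plusForm m F))) :=
    (Nat.card_congr (MulAut.congr (pe hG)).toEquiv).symm
  rw [h3, card_P hG, coe_plusForm, h2] at h1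
  have h4 : 0 < Nat.card (POmega F (quadFormPlus m F)) := by
    rw [← coe_plusForm, ← card_P hG]
    exact Nat.card_pos
  have h5 := Nat.eq_of_mul_eq_mul_right h4 h1
  refine ⟨(if p = 2 then 2 else (if Even (m * (p ^ f - 1) / 2) then 8 else 4)), ?_, ?_, h5⟩
  · split_ifs with h
    · exact Or.inl ⟨rfl, h⟩
    · exact Or.inr (Or.inl rfl)
    · exact Or.inr (Or.inr rfl)
  · intro h
    rw [if_pos h]

include hm in
theorem plusC [IsSimpleGroup (P (plusForm m F))] {p f : ℕ} (hp : p.Prime) (hf : 1 ≤ f)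
    (hF : Fintype.card F = p ^ f) (hpF : (p : F) = 0) : PlusC (plusForm m F) m p f := by
  have := Fact.mk hp
  have hG : Good (plusForm m F) := good_plus (by omega)
  have hF' : Nat.card F = p ^ f := by rw [Nat.card_eq_fintype_card]; exact hF
  obtain ⟨c, hc, hc2, hout⟩ := out_mul_plus hm hp hf hF
  have hc8 : c ∣ 2 ^ 3 := by
    rcases hc with ⟨rfl, -⟩ | rfl | rfl <;> norm_num
  have hc0 : c ≠ 0 := by
    rintro rfl
    omega
  have h30 : (if m = 4 then 3 else 1) ≠ 0 := by split_ifs <;> norm_num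
  have hfac : ∀ t, (out (P (plusForm m F))).factorization t = (if m = 4 then 3 else 1 : ℕ).factorization t +
      c.factorization t + f.factorization t := by
    intro t
    rw [hout, Nat.factorization_mul (mul_ne_zero h30 hc0) (by omega), Nat.factorization_mul h30 hc0, Finsupp.add_apply,
      Finsupp.add_apply]
  have hcodd : ∀ t : ℕ, t.Prime → t ≠ 2 → c.factorization t = 0 := by
    intro t ht ht2
    apply Nat.factorization_eq_zero_of_not_dvd
    intro h
    exact ht2 ((Nat.prime_dvd_prime_iff_eq ht Nat.prime_two).1 (ht.dvd_of_dvd_pow (h.trans hc8)))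
  have h3fac : ∀ t : ℕ, t.Prime → (if m = 4 then 3 else 1 : ℕ).factorization t = if t = 3 ∧ m = 4 then 1 else 0 := by
    intro t ht
    by_cases h4 : m = 4
    · rw [if_pos h4]
      by_cases h3 : t = 3
      · rw [if_pos ⟨h3, h4⟩, h3]
        exact Nat.Prime.factorization_self Nat.prime_three
      · rw [if_neg (fun h => h3 h.1)]
        apply Nat.factorization_eq_zero_of_not_dvd
        intro h
        exact h3 ((Nat.prime_dvd_prime_iff_eq ht Nat.prime_three).1 h)
    · rw [if_neg h4, if_neg (fun h => h4 h.2), Nat.factorization_one]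
      rfl
  refine
    { good := hG
      hn := hm
      hV := finrank_plus
      hsing := card_sing (by omega)
      hpar := fun g => even_finrank_R hG (by simp; omega) g
      prime := hp
      hf := hf
      hF := hF'
      hpF := hpF
      hcard := ⟨Nat.gcd 4 (Fintype.card F ^ m - 1), Nat.gcd_dvd_left _ _, card_mul hm⟩
      hc2 := ?_
      hout := fun t ht ht2 => ?_
      houtp := ?_ }
  · rintro rfl
    have h1 := card_mul (F := F) hm
    have h2 : Nat.gcd 4 (Fintype.card F ^ m - 1) = 1 := by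
      rw [hF, ← pow_mul]
      have h3 : Odd (2 ^ (f * m) - 1) := by
        have h4 : Even (2 ^ (f * m)) := (Nat.even_pow.2 ⟨even_two, by positivity⟩)
        exact Nat.Even.sub_odd (Nat.one_le_pow _ _ (by norm_num)) h4 odd_one
      have h5 : Nat.Coprime (2 ^ 2) (2 ^ (f * m) - 1) := Nat.Coprime.pow_left _ (Nat.coprime_two_left.2 h3)
      exact h5
    rw [h2, one_mul] at h1
    exact h1
  · rw [hfac, hcodd t ht ht2, h3fac t ht]
    omega
  · rw [hfac, h3fac p hp]
    by_cases hp2 : p = 2
    · subst hp2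
      rw [if_neg (by rintro ⟨h, -⟩; omega), hc2 rfl, Nat.Prime.factorization_self Nat.prime_two]
      have h1 : 2 ^ f.factorization 2 ≤ f := Nat.le_of_dvd hf (Nat.ordProj_dvd f 2)
      have h2 := Nat.lt_two_pow_self (n := f.factorization 2)
      omega
    · rw [hcodd p hp hp2]
      have h1 := fac_bound hp hp2 hf
      split_ifs <;> omega

end Cfsg.Agent.H14.PD
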