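import Cfsg.Agent.H14.PD.Field
import Cfsg.Agent.H14.PD.Crit

/-!
# S4246, row of `POmega^+_{2n}(q)`: the criterion (helper14)
-/

set_option autoImplicit false
set_option linter.unusedSectionVars false

namespace Cfsg.Agent.H14.PD

open QuadraticMap Module Cfsg.Agent.LieClassical.OrthCore Cfsg.Agent.LieClassical.OrthTrans
open Cfsg.Agent.ClassicalGeometry.OrthSemi Cfsg.Agent.ClassicalGeometry.OrthAut1
open Cfsg.Agent.H200.LinFix Cfsg.Agent.H200.RowOrth Cfsg.Agent.H568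
open Cfsg.Agent.H160.PD (v v_mono v_eq_zero v_pos Fx mem_Fx NoOdd noOdd_of Uniq odd_bound_of_uniq out Cfg tr Row)

/-! ### arithmetic -/

section arith

theorem two_mul_add_one_le (k : ℕ) : 2 * k + 1 ≤ 3 ^ k := by
  induction k with
  | zero => norm_num
  | succ k ih => rw [pow_succ]; omega

theorem fac_bound {p m : ℕ} (hp : p.Prime) (hp2 : p ≠ 2) (hm : 1 ≤ m) : 2 * m.factorization p + 1 ≤ m := by
  have h1 := two_mul_add_one_le (m.factorization p)
  have h2 : 3 ^ m.factorization p ≤ p ^ m.factorization p :=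
    Nat.pow_le_pow_left (by have := hp.two_le; omega) _
  have h3 : p ^ m.factorization p ≤ m := Nat.le_of_dvd hm (Nat.ordProj_dvd m p)
  omega

theorem fac_two_mul {p m : ℕ} (hp : p.Prime) (hp2 : p ≠ 2) (hm : 1 ≤ m) :
    (2 * m).factorization p = m.factorization p := by
  rw [Nat.factorization_mul two_ne_zero (by omega), Finsupp.add_apply, Nat.factorization_eq_zero_of_not_dvd (n := 2)
    (fun h => hp2 ((Nat.prime_dvd_prime_iff_eq hp Nat.prime_two).1 h)), zero_add]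

theorem key_arith {n d p f : ℕ} (hp : p.Prime) (hp2 : p ≠ 2) (hn : 4 ≤ n) (hf : 1 ≤ f) (hO : Odg n d)
    (hne : ¬ (p = 3 ∧ f = 1 ∧ n = 4)) {o : ℕ} (ho : o ≤ f.factorization p + (if p = 3 ∧ n = 4 then 1 else 0)) :
    (2 * (n - 1)).factorization p + (2 * d).factorization p + o + f < f * d := by
  have hod := hO.odd
  have hor := hO.or
  rw [Nat.odd_iff] at hod
  rw [fac_two_mul hp hp2 (by omega), fac_two_mul hp hp2 (by omega)]
  have h1 := fac_bound hp hp2 (m := n - 1) (by omega)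
  have h2 := fac_bound hp hp2 (m := n) (by omega)
  have h3 := fac_bound hp hp2 (m := f) hf
  rcases hor with rfl | rfl
  · have h4 : (d - 1).factorization p = 0 ∨ d.factorization p = 0 := by
      by_contra hcon
      push Not at hcon
      have h5 : p ∣ d - 1 := by
        by_contra h; exact hcon.1 (Nat.factorization_eq_zero_of_not_dvd h)
      have h6 : p ∣ d := by
        by_contra h; exact hcon.2 (Nat.factorization_eq_zero_of_not_dvd h)
      have h7 := Nat.dvd_sub h6 h5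
      rw [show d - (d - 1) = 1 by omega] at h7
      exact hp.one_lt.ne' (Nat.dvd_one.1 h7)
    rw [if_neg (by rintro ⟨-, rfl⟩; omega), add_zero] at ho
    have h5 : (d - 1) + (f - 1) + f ≤ f * d := by
      obtain ⟨a, rfl⟩ : ∃ a, f = a + 1 := ⟨f - 1, by omega⟩
      obtain ⟨b, rfl⟩ : ∃ b, d = b + 2 := ⟨d - 2, by omega⟩
      have : 0 ≤ a * b := Nat.zero_le _
      have e : (a + 1) * (b + 2) = a * b + 2 * a + b + 2 := by ring
      omega
    omega
  · by_cases h34 : p = 3 ∧ n = 4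
    · obtain ⟨rfl, rfl⟩ := h34
      have hf2 : 2 ≤ f := by
        by_contra h
        exact hne ⟨rfl, by omega, rfl⟩
      rw [if_pos ⟨rfl, rfl⟩] at ho
      have h4 : (4 - 1).factorization 3 = 1 := by
        rw [show (4 - 1) = 3 by norm_num]
        exact Nat.Prime.factorization_self Nat.prime_three
      rw [h4]
      rcases Nat.lt_or_ge f 3 with h5 | h5
      · have h6 : f = 2 := by omega
        subst h6
        have h7 : (2 : ℕ).factorization 3 = 0 := Nat.factorization_eq_zero_of_not_dvd (by norm_num)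
        omega
      · omega
    · rw [if_neg h34, add_zero] at ho
      have h5 : (n - 2) + (f - 1) + f ≤ f * (n - 1) := by
        obtain ⟨a, rfl⟩ : ∃ a, f = a + 1 := ⟨f - 1, by omega⟩
        obtain ⟨b, rfl⟩ : ∃ b, n = b + 3 := ⟨n - 3, by omega⟩
        have e : (a + 1) * (b + 2) = a * b + 2 * a + b + 2 := by ring
        have e2 : b + 3 - 1 = b + 2 := by omega
        rw [e2, e]
        have : 0 ≤ a * b := Nat.zero_le _
        omega
      -- `2 a < n - 2`
      have h6 : 2 * (n - 1).factorization p < n - 2 := by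
        by_contra hcon
        have h7 : n - 1 = 2 * (n - 1).factorization p + 1 := by omega
        have h8 : p ^ (n - 1).factorization p ≤ n - 1 := Nat.le_of_dvd (by omega) (Nat.ordProj_dvd _ p)
        have hp3 : 3 ≤ p := by have := hp.two_le; omega
        rcases Nat.lt_or_ge ((n - 1).factorization p) 2 with h9 | h9
        · have h10 : (n - 1).factorization p = 1 := by omega
          rw [h10] at h7 h8
          rw [pow_one] at h8
          exact h34 ⟨by omega, by omega⟩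
        · have h10 : ∀ k, 2 ≤ k → 2 * k + 1 < 3 ^ k := by
            intro k hk
            induction k, hk using Nat.le_induction with
            | base => norm_num
            | succ k hk ih => rw [pow_succ]; omega
          have h11 := h10 _ h9
          have h12 : 3 ^ (n - 1).factorization p ≤ p ^ (n - 1).factorization p := Nat.pow_le_pow_left hp3 _
          omega
      omega

end arith

variable {F V : Type*} [Field F] [AddCommGroup V] [Module F V] {Q : QuadraticForm F V} [Finite V] [Finite F]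

variable {n p f d : ℕ}

/-- the prime `r₀` -/
structure First (Q : QuadraticForm F V) (n p f l : ℕ) : Prop where
  prime : l.Prime
  ne : l ≠ 2
  cast : (l : F) ≠ 0
  ord : Ordd l (Nat.card F) (2 * (n - 1))
  dvd : l ∣ Nat.card F ^ (n - 1) + 1
  sup : ∀ m, l ∣ p ^ m - 1 → f * (2 * (n - 1)) ∣ m
  le : finrank F V < 2 * l
  card : l ∣ Nat.card (P Q)

/-- the prime `r₁` -/
structure Second (Q : QuadraticForm F V) (n p f d l : ℕ) : Prop where
  prime : l.Prime
  ne : l ≠ 2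
  cast : (l : F) ≠ 0
  ord : Ordd l (Nat.card F) d
  dvd : l ∣ Nat.card F ^ d - 1
  sup : (∀ m, l ∣ p ^ m - 1 → f * d ∣ m) ∨ f ≤ 2
  le : finrank F V < 2 * l
  card : l ∣ Nat.card (P Q)

theorem PlusC.dvd_card (H : PlusC Q n p f) {l i : ℕ} (hl : l.Prime) (hl2 : l ≠ 2) (hi : 1 ≤ i) (hi' : i ≤ n - 1)
    (h : l ∣ Nat.card F ^ (2 * i) - 1) : l ∣ Nat.card (P Q) := by
  obtain ⟨c, hc, hcc⟩ := H.hcard
  have h1 : l ∣ c * Nat.card (P Q) := by
    rw [hcc]
    refine Dvd.dvd.mul_left ?_ _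
    refine Dvd.dvd.trans ?_ (Finset.dvd_prod_of_mem (fun i => Nat.card F ^ (2 * (i + 1)) - 1)
      (Finset.mem_range.2 (show i - 1 < n - 1 by omega)))
    change l ∣ Nat.card F ^ (2 * (i - 1 + 1)) - 1
    rwa [Nat.sub_add_cancel hi]
  rcases hl.dvd_mul.1 h1 with h2 | h2
  · exfalso
    have h5 : l ∣ 2 ^ 2 := h2.trans hc
    exact hl2 ((Nat.prime_dvd_prime_iff_eq hl Nat.prime_two).1 (hl.dvd_of_dvd_pow h5))
  · exact h2

theorem PlusC.dvd_card' (H : PlusC Q n p f) {l : ℕ} (hl : l.Prime) (hl2 : l ≠ 2)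
    (h : l ∣ Nat.card F ^ n - 1) : l ∣ Nat.card (P Q) := by
  obtain ⟨c, hc, hcc⟩ := H.hcard
  have h1 : l ∣ c * Nat.card (P Q) := by
    rw [hcc]
    exact Dvd.dvd.mul_right (Dvd.dvd.mul_left h _) _
  rcases hl.dvd_mul.1 h1 with h2 | h2
  · exfalso
    have h5 : l ∣ 2 ^ 2 := h2.trans hc
    exact hl2 ((Nat.prime_dvd_prime_iff_eq hl Nat.prime_two).1 (hl.dvd_of_dvd_pow h5))
  · exact h2

theorem PlusC.exists_first (H : PlusC Q n p f) (hne : ¬ (p = 2 ∧ f = 1 ∧ n = 4)) : ∃ l, First Q n p f l := by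
  have hn := H.hn
  have hf := H.hf
  have hF := H.hF
  obtain ⟨l, hl, hl2, hsup, hdiv, hle, hd, hlr⟩ := exists_super (e := 2 * (n - 1)) H.prime H.hf (by omega) (by
    rintro ⟨h1, h2⟩
    apply hne
    have h3 : f * 6 ≤ f * (2 * (n - 1)) := Nat.mul_le_mul_left _ (by omega)
    have h4 : f = 1 := by omega
    subst h4
    exact ⟨h1, rfl, by omega⟩)
  rw [← hF] at hdiv hd
  have hfe : 2 * (n - 1) ≤ f * (2 * (n - 1)) := Nat.le_mul_of_pos_left _ hf
  have := Fact.mk hl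
  exact ⟨l, hl, hl2, H.cast_ne hl (by omega) hdiv, hd, dvd_add_one (by omega) hd hdiv, hsup,
    by rw [H.hV]; omega, H.dvd_card hl hl2 (i := n - 1) (by omega) le_rfl hdiv⟩

theorem PlusC.exists_second (H : PlusC Q n p f) (hO : Odg n d) : ∃ l, Second Q n p f d l := by
  have hn := H.hn
  have hf := H.hf
  have hF := H.hF
  have hod := hO.odd
  have hor := hO.or
  have hd3 : 3 ≤ d := by
    rw [Nat.odd_iff] at hod
    omega
  obtain ⟨l, hl, hl2, hsup, hdiv, hle, hd⟩ : ∃ l : ℕ, l.Prime ∧ l ≠ 2 ∧ ((∀ m, l ∣ p ^ m - 1 → f * d ∣ m) ∨ f ≤ 2) ∧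
      l ∣ Nat.card F ^ d - 1 ∧ d + 1 ≤ l ∧ Ordd l (Nat.card F) d := by
    by_cases h6 : p = 2 ∧ f * d = 6
    · obtain ⟨l, hl, hl2, hdiv, hle, hd, -⟩ := exists_prim_odd (q := Nat.card F) Finite.one_lt_card hd3 hod
      refine ⟨l, hl, hl2, Or.inr ?_, hdiv, hle, hd⟩
      by_contra hcon
      have : 3 * 3 ≤ f * d := Nat.mul_le_mul (by omega) hd3
      omega
    · obtain ⟨l, hl, hl2, hsup, hdiv, hle, hd, hlr⟩ := exists_super (e := d) H.prime H.hf hd3 h6
      rw [← hF] at hdiv hd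
      have hfe : d ≤ f * d := Nat.le_mul_of_pos_left _ hf
      exact ⟨l, hl, hl2, Or.inl hsup, hdiv, by omega, hd⟩
  have hlo := hl.odd_of_ne_two hl2
  refine ⟨l, hl, hl2, H.cast_ne hl (by omega) hdiv, hd, hdiv, hsup, ?_, ?_⟩
  · rw [H.hV]
    rw [Nat.odd_iff] at hod hlo
    omega
  · rcases hor with rfl | rfl
    · exact H.dvd_card' hl hl2 hdiv
    · refine H.dvd_card hl hl2 (i := n - 1) (by omega) le_rfl (hdiv.trans ?_)
      have := Nat.sub_dvd_pow_sub_pow (Nat.card F ^ (n - 1)) 1 2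
      rwa [one_pow, ← pow_mul, mul_comm (n - 1) 2] at this

/-- the `p`-part of the fixed points of an inner automorphism -/
theorem Plus.v_Fx (H : Plus Q n p f) {b : MulAut (P Q)} (hb : (orderOf b).Prime) (hb2 : orderOf b ≠ 2)
    (hbp : orderOf b ≠ p) {t : ↥(E Q)} (ht : t ^ orderOf b = 1) (ht1 : t ≠ 1)
    (hbt : b = MulAut.conj (QuotientGroup.mk t : P Q)) : v p (Fx b) + 2 * f ≤ v p (P Q) := by
  have := Fact.mk hb
  have := Fact.mk H.prime
  have hn := H.hn
  have htF : ((orderOf b : ℕ) : F) ≠ 0 := by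
    intro h
    have hc : CharP F p := (CharP.charP_iff_prime_eq_zero H.prime).2 H.hpF
    rw [CharP.cast_eq_zero_iff F p] at h
    exact hbp ((Nat.prime_dvd_prime_iff_eq H.prime hb).1 h).symm
  have h1 := v_Fx_inner H.good H.hF H.hpF H.dvd_sing (by rw [H.hV]; omega) hb2 htF ht ht1
  rwa [← hbt] at h1

/-- **The hypotheses of the criterion.** -/
theorem PlusC.twoE [IsSimpleGroup (P Q)] (H : PlusC Q n p f) (hO : Odg n d) (hne : ¬ (p = 3 ∧ f = 1 ∧ n = 4))
    {l₀ l₁ : ℕ} (h₀ : First Q n p f l₀) (h₁ : Second Q n p f d l₁)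
    (hb9 : ∀ b : MulAut (P Q), (¬ ∃ M : Gam Q, b = Psi Q M) → v p (Fx b) + 3 * f ≤ v p (P Q))
    (exc : ∀ (π : Set ℕ) (L K L' K' : Subgroup (MulAut (P Q))), Cfg π L K L' K' →
      l₀ ∣ Nat.card (tr K) → l₁ ∣ Nat.card (tr K) → False) :
    TwoE (P Q) p l₀ l₁ 0 0 0 ((2 * (n - 1)).factorization p)
      (f * (n * (n - 1)) + f - f * d + (2 * d).factorization p) := by
  have hn := H.hn
  have hf := H.hf
  have hor := hO.or
  have hvp := H.v_p
  have hfin : Finite ↥(E Q) := finite_E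
  have hout := H.houtp
  have hF0 := Fact.mk h₀.prime
  have hF1 := Fact.mk h₁.prime
  have hne0 : ∀ {l : ℕ}, l.Prime → (l : F) ≠ 0 → l ≠ p := by
    rintro l - h rfl
    exact h H.hpF
  have hfd : f * d ≤ f * (n * (n - 1)) := by
    apply Nat.mul_le_mul_left
    have : n * 1 ≤ n * (n - 1) := Nat.mul_le_mul_left _ (by omega)
    omega
  have h12 : f * 12 ≤ f * (n * (n - 1)) := by
    apply Nat.mul_le_mul_left
    exact (by norm_num : 12 = 4 * 3) ▸ Nat.mul_le_mul hn (by omega)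
  have hsyl : ∀ b : MulAut (P Q), (orderOf b).Prime → orderOf b ≠ 2 → orderOf b ≠ p →
      ((∃ M : Gam Q, b = Psi Q M) → ∃ t : ↥(E Q), t ^ orderOf b = 1 ∧ t ≠ 1 ∧ b = MulAut.conj (QuotientGroup.mk t : P Q)) →
      v p (Fx b) + 2 * f ≤ v p (P Q) := by
    intro b hb hb2 hbp h
    by_cases hM : ∃ M : Gam Q, b = Psi Q M
    · obtain ⟨t, ht, ht1, hbt⟩ := h hM
      exact H.v_Fx hb hb2 hbp ht ht1 hbt
    · have := hb9 b hM
      omega
  have hkey : p ≠ 2 → (2 * (n - 1)).factorization p + (2 * d).factorization p + (out (P Q)).factorization p + f < f * d :=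
    fun hp2 => key_arith H.prime hp2 hn hf hO hne (H.hout p H.prime hp2)
  refine
    { prime := H.prime
      good₀ := ⟨h₀.prime, h₀.ne, H.good_of h₀.prime h₀.ne (hne0 h₀.prime h₀.cast) h₀.card⟩
      good₁ := ⟨h₁.prime, h₁.ne, H.good_of h₁.prime h₁.ne (hne0 h₁.prime h₁.cast) h₁.card⟩
      cent₀ := fun x hx => (H.cent_first h₀.prime h₀.ne h₀.cast h₀.ord hx).le
      cent₁ := fun x hx => (H.cent_second hO h₁.prime h₁.ne h₁.cast h₁.ord h₁.dvd hx).le
      noOdd := H.noOdd hO h₀.prime h₀.ne h₀.cast h₀.ord h₀.dvd h₀.le h₁.prime h₁.ne h₁.cast h₁.ord h₁.dvd h₁.le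
      exc := exc
      syl₀ := fun b hb hb2 hbp x hx hbx => ?_
      syl₁ := fun b hb hb2 hbp x hx hbx => ?_
      cc := ?_
      num := fun t ht ht2 htp htS _ _ =>
        H.num hO h₀.prime h₀.ne h₀.cast h₀.ord h₀.dvd h₁.prime h₁.ne h₁.cast h₁.ord h₁.dvd ht ht2 htp htS
      odd₀ := fun hp2 X hX hlX => H.odd_first hp2 h₀.prime h₀.ne h₀.cast h₀.ord h₀.dvd hX hlX
      odd₁ := fun hp2 X hX hlX => ?_
      n₀ := fun hp2 => ?_
      n₁ := fun hp2 => ?_
      n₀₁ := fun hp2 => ?_ }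
  · have h1 := hsyl b hb hb2 hbp fun hM => by
      obtain ⟨t, y, ht, ht1, hbt, -⟩ := H.lift_first h₀.ne h₀.cast h₀.ord h₀.sup hb hb2 hM hx hbx
      exact ⟨t, ht, ht1, hbt⟩
    simp only [max_self, add_zero]
    omega
  · have h1 := hsyl b hb hb2 hbp fun hM => by
      obtain ⟨t, y, ht, ht1, hbt, -⟩ := H.lift_second hO h₁.ne h₁.cast h₁.ord h₁.dvd h₁.sup hb hb2 hM hx hbx
      exact ⟨t, ht, ht1, hbt⟩
    simp only [max_self, add_zero]
    omega
  · rw [hvp]
    omega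
  · have h1 := H.odd_second hO hp2 h₁.prime h₁.ne h₁.cast h₁.ord h₁.dvd hX hlX
    rw [hvp] at h1
    omega
  · have := hkey hp2
    rw [hvp]
    omega
  · have := hkey hp2
    rw [hvp]
    omega
  · have := hkey hp2
    rw [hvp]
    omega

/-- `Inc` from inner automorphisms -/
theorem PlusC.inc [IsSimpleGroup (P Q)] (H : PlusC Q n p f) (hO : Odg n d)
    {l₀ l₁ : ℕ} (h₀ : First Q n p f l₀) (h₁ : Second Q n p f d l₁) {b : MulAut (P Q)} (hM : ∃ M : Gam Q, b = Psi Q M)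
    (hb : (orderOf b).Prime) (hb2 : orderOf b ≠ 2) {x y : P Q} (hx : orderOf x = l₀) (hbx : b x = x)
    (hy : orderOf y = l₁) (hby : b y = y) : False := by
  have hF0 := Fact.mk h₀.prime
  have hF1 := Fact.mk h₁.prime
  obtain ⟨t, a, ht, ht1, hbt, ha, ha1, -, hta⟩ := H.lift_first h₀.ne h₀.cast h₀.ord h₀.sup hb hb2 hM hx hbx
  obtain ⟨c, hc, hc1, rfl⟩ := H.exists_lift h₁.prime h₁.ne hy
  rw [hbt, MulAut.conj_apply, mul_inv_eq_iff_eq_mul] at hby
  have htc := (comm_of_mk H.good (h₁.prime.odd_of_ne_two h₁.ne) hc hby.symm).symm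
  exact H.inc_inner hO h₀.ne h₀.cast h₀.ord h₀.dvd h₁.ne h₁.cast h₁.ord h₁.dvd ha ha1 hc hc1 hb hb2 ht ht1 hta htc

/-- **The row, `n ≥ 5`** (all automorphisms are induced by semisimilitudes). -/
theorem PlusC.row [IsSimpleGroup (P Q)] (H : PlusC Q n p f) (hZ : Subgroup.center (P Q) = ⊥) (hn : n ≠ 4)
    (haut : ∀ a : MulAut (P Q), ∃ M : Gam Q, a = Psi Q M) : Row (P Q) := by
  have hfin : Finite ↥(E Q) := finite_E
  obtain ⟨d, hO⟩ : ∃ d, Odg n d := by
    have := H.hn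
    rcases Nat.even_or_odd n with h | h
    · exact ⟨n - 1, ⟨Nat.Even.sub_odd (by omega) h odd_one, Or.inr rfl⟩⟩
    · exact ⟨n, ⟨h, Or.inl rfl⟩⟩
  obtain ⟨l₀, h₀⟩ := H.exists_first (fun h => hn h.2.2)
  obtain ⟨l₁, h₁⟩ := H.exists_second hO
  refine (H.twoE hO (fun h => hn h.2.2) h₀ h₁ (fun b hb => absurd (haut b) hb) ?_).row hZ
  intro π L K L' K' hC h1 h2
  obtain ⟨b, hb, t, ht, -, ht2, hbo⟩ := hC.exists_prime
  obtain ⟨x, hx, hxo⟩ := Cfsg.Agent.H160.PD.Cfg.exists_mem h₀.prime h1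
  obtain ⟨y, hy, hyo⟩ := Cfsg.Agent.H160.PD.Cfg.exists_mem h₁.prime h2
  exact H.inc hO h₀ h₁ (haut b) (hbo ▸ ht) (by rw [hbo]; exact ht2) hxo (hC.fix hZ hb hx) hyo (hC.fix hZ hb hy)

end Cfsg.Agent.H14.PD
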