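import Cfsg.Agent.H14.PD.Cent

/-!
# S4246, rows of the orthogonal groups: normalisers (helper14)

* `norm_pow` : `z` normalises `⟨y⟩` and an irreducible subspace `W` of dimension `e`: `z ^ e` centralises `y`;
* `mem_powers_on` : elements of the same prime order commuting with `y` irreducible on `W` are powers of `y` on `W`.
-/

set_option autoImplicit false
set_option linter.unusedSectionVars false

namespace Cfsg.Agent.H14.PD

open QuadraticMap Module Polynomial Cfsg.Agent.LieClassical.OrthCore Cfsg.Agent.LieClassical.OrthTrans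
open Cfsg.Agent.ClassicalGeometry.OrthSemi Cfsg.Agent.ClassicalGeometry.OrthAut1
open Cfsg.Agent.H200.LinFix Cfsg.Agent.H200.RowOrth Cfsg.Agent.H568
open Cfsg.Agent.H160.PD (v v_mono v_eq_zero v_pos Fx mem_Fx Uniq card_normalizer_dvd)

section lin

variable {F V : Type*} [Field F] [AddCommGroup V] [Module F V]

theorem conj_pow_end {z zi g : Module.End F V} (hz : zi * z = 1) (hz' : z * zi = 1) (n : ℕ) :
    (z * g * zi) ^ n = z * g ^ n * zi := by
  induction n with
  | zero => rw [pow_zero, pow_zero, mul_one, hz']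
  | succ n ih =>
    rw [pow_succ, ih, pow_succ]
    calc z * g ^ n * zi * (z * g * zi) = z * g ^ n * (zi * z) * g * zi := by noncomm_ring
      _ = z * (g ^ n * g) * zi := by rw [hz]; noncomm_ring

theorem aeval_conj {z zi g : Module.End F V} (hz : zi * z = 1) (hz' : z * zi = 1) (P : F[X]) :
    aeval (z * g * zi) P = z * aeval g P * zi := by
  induction P using Polynomial.induction_on' with
  | add P Q hP hQ => rw [map_add, map_add, hP, hQ, mul_add, add_mul]
  | monomial n a =>
    rw [aeval_monomial, aeval_monomial, conj_pow_end hz hz', ← mul_assoc, ← mul_assoc, Algebra.commutes a z]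
    noncomm_ring

theorem pow_conj_pow {z zi g : Module.End F V} (hz : zi * z = 1) (hz' : z * zi = 1) {k : ℕ} (hk : z * g * zi = g ^ k)
    (i : ℕ) : z ^ i * g = g ^ (k ^ i) * z ^ i := by
  have h0 : ∀ n, z * g ^ n = g ^ (k * n) * z := by
    intro n
    have h1 := conj_pow_end (g := g) hz hz' n
    rw [hk, ← pow_mul] at h1
    rw [h1, mul_assoc, mul_assoc, hz, mul_one]
  induction i with
  | zero => rw [pow_zero, pow_zero, one_mul, mul_one, pow_one]
  | succ i ih => rw [pow_succ', mul_assoc, ih, ← mul_assoc, h0, ← pow_succ', mul_assoc]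

theorem norm_pow_top [Finite F] [Finite V] [Nontrivial V] {g : Module.End F V}
    (hirr : ∀ U : Submodule F V, (∀ u ∈ U, g u ∈ U) → U = ⊥ ∨ U = ⊤) {z zi : Module.End F V} (hz : zi * z = 1)
    (hz' : z * zi = 1) {k : ℕ} (hk : z * g * zi = g ^ k) : g ^ (k ^ finrank F V) = g := by
  have hP : Fact (Irreducible (minpoly F g)) := ⟨irreducible_minpoly hirr⟩
  have hfd : FiniteDimensional F V := finiteDimensional_of_finite
  have hint : IsIntegral F g := Algebra.IsIntegral.isIntegral g
  obtain ⟨w, hw⟩ := exists_ne (0 : V)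
  have hfin : Finite (KK g) := Finite.of_injective _ (phi_bijective hirr w hw).1
  have hnt : Nontrivial (Module.End F V) := Module.End.instNontrivial
  have hinj : Function.Injective (phi g) := (phi g).toRingHom.injective
  set x : KK g := AdjoinRoot.root _ with hx
  have hxg : phi g x = g := phi_root
  have hmin : minpoly F x = minpoly F g := by
    rw [hx, AdjoinRoot.minpoly_root (minpoly.ne_zero hint), (minpoly.monic hint).leadingCoeff, inv_one, C_1, mul_one]
  have hroot : aeval (x ^ k) (minpoly F x) = 0 := by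
    apply hinj
    rw [map_zero, ← aeval_algHom_apply, map_pow, hxg, hmin, ← hk, aeval_conj hz hz', minpoly.aeval, mul_zero, zero_mul]
  obtain ⟨σ, hσ⟩ := _root_.minpoly.exists_algEquiv_of_root' (K := F) (L := KK g)
    (Algebra.IsAlgebraic.isAlgebraic x) hroot
  have hσi : ∀ i : ℕ, (σ ^ i) x = x ^ (k ^ i) := by
    intro i
    induction i with
    | zero => rw [pow_zero, pow_zero, pow_one]; rfl
    | succ i ih =>
      rw [pow_succ', AlgEquiv.mul_apply, ih, map_pow, hσ, ← pow_mul, ← pow_succ']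
  have hcard : Nat.card Gal(KK g/F) = finrank F V := by
    rw [IsGalois.card_aut_eq_finrank, finrank_KK hirr]
  have h1 : σ ^ finrank F V = 1 := by
    rw [← hcard]
    exact pow_card_eq_one'
  have h2 := hσi (finrank F V)
  rw [h1] at h2
  change x = _ at h2
  rw [← hxg, ← map_pow, ← h2]

theorem mem_powers_top [Finite F] [Finite V] [Nontrivial V] {g : Module.End F V}
    (hirr : ∀ U : Submodule F V, (∀ u ∈ U, g u ∈ U) → U = ⊥ ∨ U = ⊤) {l : ℕ} [hl : Fact l.Prime] (hg : g ^ l = 1)
    (hg1 : g ≠ 1) {s : Module.End F V} (hs : s * g = g * s) (hsl : s ^ l = 1) : ∃ i : ℕ, s = g ^ i := by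
  have hP : Fact (Irreducible (minpoly F g)) := ⟨irreducible_minpoly hirr⟩
  have hfd : FiniteDimensional F V := finiteDimensional_of_finite
  have hnt : Nontrivial (Module.End F V) := Module.End.instNontrivial
  have hinj : Function.Injective (phi g) := (phi g).toRingHom.injective
  set x : KK g := AdjoinRoot.root _ with hx
  have hxg : phi g x = g := phi_root
  obtain ⟨t, rfl⟩ := exists_phi hirr hs
  have hxl : x ^ l = 1 := hinj (by rw [map_pow, hxg, hg, map_one])
  have htl : t ^ l = 1 := hinj (by rw [map_pow, hsl, map_one])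
  have hx1 : x ≠ 1 := by
    intro h
    apply hg1
    rw [← hxg, h, map_one]
  have hprim : IsPrimitiveRoot x l := by
    have := IsPrimitiveRoot.orderOf x
    rwa [orderOf_eq_prime hxl hx1] at this
  obtain ⟨i, -, hi⟩ := hprim.eq_pow_of_pow_eq_one htl
  exact ⟨i, by rw [← hi, map_pow, hxg]⟩

end lin

variable {F V : Type*} [Field F] [AddCommGroup V] [Module F V] {Q : QuadraticForm F V}

section fin

variable [Finite V]

theorem restrict_pow_apply {s : Module.End F V} {W : Submodule F V} (hsW : ∀ w ∈ W, s w ∈ W) (n : ℕ) (w : W) :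
    ((((s.restrict hsW) ^ n) w : W) : V) = (s ^ n) w := by
  induction n generalizing w with
  | zero => rfl
  | succ n ih => rw [pow_succ, pow_succ, Module.End.mul_apply, Module.End.mul_apply, ih]; rfl

theorem inv_of_map {z : ↥(E Q)} {W : Submodule F V} (hzW : ∀ w ∈ W, en Q z w ∈ W) : ∀ w ∈ W, en Q z⁻¹ w ∈ W := by
  have hfd : FiniteDimensional F V := inferInstance
  have h1 : W.map (en Q z) = W := by
    apply Submodule.eq_of_le_of_finrank_eq
    · rintro _ ⟨w, hw, rfl⟩
      exact hzW w hw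
    · exact (Submodule.equivMapOfInjective (en Q z) (z : V ≃ₗ[F] V).injective W).symm.finrank_eq
  intro w hw
  rw [← h1] at hw
  obtain ⟨w', hw', rfl⟩ := hw
  rw [← Module.End.mul_apply, ← map_mul, inv_mul_cancel, map_one]
  exact hw'

/-- an element trivial on a nonzero subspace of `R y` is no power `≠ 1` of `y` -/
theorem pow_eq_self_of {l : ℕ} [hl : Fact l.Prime] (hlF : (l : F) ≠ 0) {y : ↥(E Q)} (hy : y ^ l = 1)
    {W : Submodule F V} (hW : W ≤ R (en Q y)) (hW0 : W ≠ ⊥) {m : ℕ} (hm : ∀ w ∈ W, en Q (y ^ m) w = en Q y w) :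
    y ^ m = y := by
  by_cases hy1 : y = 1
  · rw [hy1, one_pow]
  have ho : orderOf y = l := orderOf_eq_prime hy hy1
  have hy' : en Q y ^ l = 1 := by rw [← map_pow, hy, map_one]
  have h1 : m ≡ 1 [MOD l] := by
    by_contra hne
    obtain ⟨w, hw, hw0⟩ := Submodule.exists_mem_ne_zero_of_ne_bot hW0
    apply hw0
    -- `y ^ j w = w` with `j` prime to `l`
    obtain ⟨j, hj, hjw⟩ : ∃ j : ℕ, ¬ l ∣ j ∧ (en Q y ^ j) w = w := by
      have h2 : (en Q y ^ m) w = (en Q y ^ 1) w := by rw [← map_pow, hm w hw, pow_one]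
      have hinj : ∀ i : ℕ, Function.Injective ⇑(en Q y ^ i) := fun i => by
        rw [← map_pow]
        exact ((y ^ i : ↥(E Q)) : V ≃ₗ[F] V).injective
      rcases le_total 1 m with h | h
      · refine ⟨m - 1, fun hd => hne ((Nat.modEq_iff_dvd' h).2 hd).symm, ?_⟩
        apply hinj 1
        rw [← Module.End.mul_apply, ← pow_add, Nat.add_sub_cancel' h, h2]
      · refine ⟨1 - m, fun hd => hne ((Nat.modEq_iff_dvd' h).2 hd), ?_⟩
        apply hinj m
        rw [← Module.End.mul_apply, ← pow_add, Nat.add_sub_cancel' h, h2]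
    refine eq_zero_of_mem hy' hlF ?_ (hW hw)
    exact fix_of_coprime hjw (by rw [hy']; rfl) ((Nat.Prime.coprime_iff_not_dvd hl.out).2 hj).symm
  have h2 := (pow_eq_pow_iff_modEq (x := y) (n := m) (m := 1)).2 (by rw [ho]; exact h1)
  rwa [pow_one] at h2

/-- **A power of an element normalising `⟨y⟩` centralises `y`.** -/
theorem norm_pow [Finite F] {l : ℕ} [hl : Fact l.Prime] (hlF : (l : F) ≠ 0) {y z : ↥(E Q)} (hy : y ^ l = 1) {k : ℕ}
    (hk : z * y * z⁻¹ = y ^ k) {W : Submodule F V} (hW : W ≤ R (en Q y)) (hW0 : W ≠ ⊥)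
    (hyW : ∀ w ∈ W, en Q y w ∈ W) (hirr : Irr (en Q y) W) (hzW : ∀ w ∈ W, en Q z w ∈ W) :
    z ^ finrank F W * y = y * z ^ finrank F W := by
  have hfd : FiniteDimensional F V := inferInstance
  have hn : Nontrivial W := Submodule.nontrivial_iff_ne_bot.2 hW0
  have hziW := inv_of_map hzW
  have hmul : ∀ a b : ↥(E Q), ∀ w : V, en Q a (en Q b w) = en Q (a * b) w := fun a b w => by
    rw [map_mul, Module.End.mul_apply]
  have h1 : (en Q z⁻¹).restrict hziW * (en Q z).restrict hzW = 1 := by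
    ext ⟨w, hw⟩
    change en Q z⁻¹ (en Q z w) = w
    rw [hmul, inv_mul_cancel, map_one]; rfl
  have h2 : (en Q z).restrict hzW * (en Q z⁻¹).restrict hziW = 1 := by
    ext ⟨w, hw⟩
    change en Q z (en Q z⁻¹ w) = w
    rw [hmul, mul_inv_cancel, map_one]; rfl
  have h3 : (en Q z).restrict hzW * (en Q y).restrict hyW * (en Q z⁻¹).restrict hziW = ((en Q y).restrict hyW) ^ k := by
    ext ⟨w, hw⟩
    rw [restrict_pow_apply, ← map_pow, ← hk]
    change en Q z (en Q y (en Q z⁻¹ w)) = _
    rw [hmul, hmul, mul_assoc]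
  have h4 := norm_pow_top (hirr.restrict hyW) h1 h2 h3
  have h5 : y ^ (k ^ finrank F W) = y := by
    refine pow_eq_self_of hlF hy hW hW0 fun w hw => ?_
    have h6 := congrArg Subtype.val (LinearMap.congr_fun h4 ⟨w, hw⟩)
    rw [restrict_pow_apply, ← map_pow] at h6
    exact h6
  have h6 : ∀ i : ℕ, z ^ i * y = y ^ (k ^ i) * z ^ i := by
    have h0 : ∀ n, z * y ^ n = y ^ (k * n) * z := by
      intro n
      rw [pow_mul, ← hk, conj_pow, mul_assoc, mul_assoc, inv_mul_cancel, mul_one]
    intro i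
    induction i with
    | zero => rw [pow_zero, pow_zero, one_mul, mul_one, pow_one]
    | succ i ih => rw [pow_succ', mul_assoc, ih, ← mul_assoc, h0, ← pow_succ', mul_assoc]
  rw [h6, h5]

/-- elements of order `l` commuting with `y` -/
theorem mem_powers_on [Finite F] {l : ℕ} [hl : Fact l.Prime] (hlF : (l : F) ≠ 0) {y s : ↥(E Q)} (hy : y ^ l = 1)
    {W : Submodule F V} (hW : W ≤ R (en Q y)) (hW0 : W ≠ ⊥)
    (hyW : ∀ w ∈ W, en Q y w ∈ W) (hirr : Irr (en Q y) W) (hsW : ∀ w ∈ W, en Q s w ∈ W) (hs : s * y = y * s)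
    (hsl : s ^ l = 1) : ∃ i : ℕ, ∀ w ∈ W, en Q s w = en Q (y ^ i) w := by
  have hfd : FiniteDimensional F V := inferInstance
  have hn : Nontrivial W := Submodule.nontrivial_iff_ne_bot.2 hW0
  have hmul : ∀ a b : ↥(E Q), ∀ w : V, en Q a (en Q b w) = en Q (a * b) w := fun a b w => by
    rw [map_mul, Module.End.mul_apply]
  have hpow : ∀ (a : ↥(E Q)) (haW : ∀ w ∈ W, en Q a w ∈ W), a ^ l = 1 → ((en Q a).restrict haW) ^ l = 1 := by
    intro a haW ha
    ext ⟨w, hw⟩
    rw [restrict_pow_apply, ← map_pow, ha, map_one]; rfl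
  have hy' : en Q y ^ l = 1 := by rw [← map_pow, hy, map_one]
  have hne : (en Q y).restrict hyW ≠ 1 := by
    intro h
    obtain ⟨w, hw, hw0⟩ := Submodule.exists_mem_ne_zero_of_ne_bot hW0
    apply hw0
    refine eq_zero_of_mem hy' hlF ?_ (hW hw)
    exact congrArg Subtype.val (LinearMap.congr_fun h ⟨w, hw⟩)
  obtain ⟨i, hi⟩ := mem_powers_top (hirr.restrict hyW) (hpow y hyW hy) hne (s := (en Q s).restrict hsW) (by
    ext ⟨w, hw⟩
    change en Q s (en Q y w) = en Q y (en Q s w)
    rw [hmul, hmul, hs]) (hpow s hsW hsl)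
  refine ⟨i, fun w hw => ?_⟩
  have h6 := congrArg Subtype.val (LinearMap.congr_fun hi ⟨w, hw⟩)
  rw [restrict_pow_apply, ← map_pow] at h6
  exact h6

/-- normalising elements of `P Q` -/
theorem exists_conj_pow (hG : Good Q) {l : ℕ} [hl : Fact l.Prime] (hl2 : l ≠ 2) {y : ↥(E Q)} (hy : y ^ l = 1)
    {z : ↥(E Q)} (hz : (QuotientGroup.mk z : P Q) ∈
      Subgroup.normalizer ((Subgroup.zpowers (QuotientGroup.mk y : P Q) : Subgroup (P Q)) : Set (P Q))) :
    ∃ k : ℕ, z * y * z⁻¹ = y ^ k := by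
  have hlo := hl.out.odd_of_ne_two hl2
  have hfin : Finite ↥(E Q) := finite_E
  have h1 : (QuotientGroup.mk z : P Q) * QuotientGroup.mk y * (QuotientGroup.mk z)⁻¹ ∈
      Subgroup.zpowers (QuotientGroup.mk y : P Q) :=
    (Subgroup.mem_normalizer_iff.1 hz _).1 (Subgroup.mem_zpowers _)
  obtain ⟨k, hk⟩ := (mem_powers_iff_mem_zpowers (x := (QuotientGroup.mk y : P Q))).2 h1
  refine ⟨k, ?_⟩
  have h2 : (y ^ k)⁻¹ * (z * y * z⁻¹) ∈ Subgroup.center ↥(E Q) := by
    rw [← QuotientGroup.eq]
    exact hk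
  set c := (y ^ k)⁻¹ * (z * y * z⁻¹) with hc
  have h3 : z * y * z⁻¹ = y ^ k * c := by rw [hc]; group
  have h4 : c ^ l = 1 := by
    have h5 : (y ^ k * c) ^ l = 1 := by rw [← h3, conj_pow, hy, mul_one, mul_inv_cancel]
    have h6 : Commute (y ^ k) c := Subgroup.mem_center_iff.1 h2 (y ^ k)
    rwa [h6.mul_pow, ← pow_mul, mul_comm k l, pow_mul, hy, one_pow, one_mul] at h5
  rw [h3, center_pow_odd hG h2 hlo h4, mul_one]

/-- the normaliser of a subgroup of prime order of `P Q` -/
theorem v_normalizer_le (hG : Good Q) {l : ℕ} [hl : Fact l.Prime] (hl2 : l ≠ 2) {y : ↥(E Q)} (hy : y ^ l = 1)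
    (hy1 : y ≠ 1) {n : ℕ} (hn : n ≠ 0) (h : ∀ z : ↥(E Q), ∀ k : ℕ, z * y * z⁻¹ = y ^ k → z ^ n * y = y * z ^ n) (p : ℕ) :
    v p (Subgroup.normalizer ((Subgroup.zpowers (QuotientGroup.mk y : P Q) : Subgroup (P Q)) : Set (P Q))) ≤
      v p (Subgroup.centralizer ({(QuotientGroup.mk y : P Q)} : Set (P Q))) + n.factorization p := by
  have hfin : Finite ↥(E Q) := finite_E
  have hlo := hl.out.odd_of_ne_two hl2
  have h1 := card_normalizer_dvd hl.out (x := (QuotientGroup.mk y : P Q)) (orderOf_mk hG hlo hy hy1) (n := n) (by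
    intro x hx
    obtain ⟨z, rfl⟩ := QuotientGroup.mk_surjective x
    obtain ⟨k, hk⟩ := exists_conj_pow hG hl2 hy hx
    rw [Subgroup.mem_centralizer_singleton_iff]
    exact congrArg (QuotientGroup.mk' (Subgroup.center ↥(E Q))) (h z k hk))
  have h2 := (Nat.factorization_le_iff_dvd Nat.card_pos.ne' (mul_ne_zero Nat.card_pos.ne' hn)).2 h1 p
  rwa [Nat.factorization_mul Nat.card_pos.ne' hn, Finsupp.add_apply] at h2

theorem R_norm {y z : ↥(E Q)} {k : ℕ} (hk : z * y * z⁻¹ = y ^ k) : ∀ w ∈ R (en Q y), en Q z w ∈ R (en Q y) := by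
  rintro _ ⟨w, rfl⟩
  have h1 : en Q z (en Q y w) = en Q (y ^ k) (en Q z w) := by
    rw [← Module.End.mul_apply, ← Module.End.mul_apply, ← map_mul, ← map_mul, ← hk, mul_assoc (z * y), inv_mul_cancel,
      mul_one]
  have h2 : ∀ (i : ℕ) (u : V), en Q (y ^ i) u - u ∈ R (en Q y) := by
    intro i
    induction i with
    | zero =>
      intro u
      rw [pow_zero, map_one, Module.End.one_apply, sub_self]
      exact Submodule.zero_mem _
    | succ i ih =>
      intro u
      have h3 : en Q (y ^ (i + 1)) u - u = (en Q (y ^ i) (en Q y u) - en Q y u) + (en Q y u - u) := by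
        rw [pow_succ, map_mul, Module.End.mul_apply]
        abel
      rw [h3]
      exact Submodule.add_mem _ (ih _) (sub_mem_R (en Q y) u)
  change en Q z (en Q y w - w) ∈ _
  rw [map_sub, h1]
  exact h2 k _

/-- `R y` irreducible of dimension `e` -/
theorem norm_pow_irr [Finite F] {l : ℕ} [hl : Fact l.Prime] (hlF : (l : F) ≠ 0) {y z : ↥(E Q)} (hy : y ^ l = 1)
    (hy1 : y ≠ 1) {k : ℕ} (hk : z * y * z⁻¹ = y ^ k) (hirr : Irr (en Q y) (R (en Q y))) :
    z ^ finrank F (R (en Q y)) * y = y * z ^ finrank F (R (en Q y)) := by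
  refine norm_pow hlF hy hk le_rfl ?_ (fun w hw => R_inv rfl hw) hirr (R_norm hk)
  intro h
  rw [R_eq_bot] at h
  exact hy1 (en_injective (h.trans (map_one _).symm))

/-- `R y = U ⊕ U'` -/
theorem norm_pow_split [Finite F] {l d : ℕ} [hl : Fact l.Prime] (hlF : (l : F) ≠ 0) {y z : ↥(E Q)} (hy : y ^ l = 1)
    (hd : Ordd l (Nat.card F) d) (hd0 : 0 < d) {U U' : Submodule F V}
    (h : Split Q y d U U') {k : ℕ} (hk : z * y * z⁻¹ = y ^ k) : z ^ (2 * d) * y = y * z ^ (2 * d) := by
  have hfd : FiniteDimensional F V := inferInstance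
  have hy' : en Q y ^ l = 1 := by rw [← map_pow, hy, map_one]
  have hU0 : ∀ U U' : Submodule F V, Split Q y d U U' → U ≠ ⊥ := by
    rintro U U' h rfl
    have := h.dim
    rw [finrank_bot] at this
    omega
  have hinj : Function.Injective (en Q z) := (z : V ≃ₗ[F] V).injective
  have hfr : finrank F (R (en Q y)) = 2 * d := by
    have h1 := Submodule.finrank_sup_add_finrank_inf_eq U U'
    rw [h.sup, h.inf, finrank_bot, h.dim, h.dim'] at h1
    omega
  by_cases hl1 : y = 1
  · rw [hl1, mul_one, one_mul]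
  have ho : orderOf y = l := orderOf_eq_prime hy hl1
  -- `y` is a power of `y ^ k`
  obtain ⟨j, hj⟩ : ∃ j : ℕ, (y ^ k) ^ j = y := by
    have h1 : y ^ k ≠ 1 := by
      rw [← hk]
      intro h0
      apply hl1
      have h2 : y = z⁻¹ * (z * y * z⁻¹) * z := by group
      rw [h2, h0]
      group
    have h2 : k.Coprime l := by
      rw [Nat.coprime_comm, Nat.Prime.coprime_iff_not_dvd hl.out]
      intro h0
      exact h1 (orderOf_dvd_iff_pow_eq_one.1 (ho ▸ h0))
    obtain ⟨j, -, hj⟩ := Nat.exists_mul_mod_eq_one_of_coprime h2 hl.out.one_lt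
    refine ⟨j, ?_⟩
    rw [← pow_mul]
    have h3 := (pow_eq_pow_iff_modEq (x := y) (n := k * j) (m := 1)).2 (by
      rw [ho]
      unfold Nat.ModEq
      rw [hj, Nat.mod_eq_of_lt hl.out.one_lt])
    rwa [pow_one] at h3
  have hmap : ∀ U : Submodule F V, U ≤ R (en Q y) → (∀ w ∈ U, en Q y w ∈ U) →
      U.map (en Q z) ≤ R (en Q y) ∧ (∀ w ∈ U.map (en Q z), en Q y w ∈ U.map (en Q z)) := by
    intro U hU hyU
    constructor
    · rintro _ ⟨w, hw, rfl⟩
      exact R_norm hk w (hU hw)
    · rintro _ ⟨w, hw, rfl⟩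
      refine ⟨en Q (y ^ j) w, ?_, ?_⟩
      · rw [map_pow]
        exact pow_inv_mem hyU j w hw
      · rw [← Module.End.mul_apply, ← Module.End.mul_apply, ← map_mul, ← map_mul]
        congr 2
        have h1 : z * y ^ j = (z * y * z⁻¹) ^ j * z := by rw [conj_pow]; group
        rw [h1, hk, hj]
  have hdimm : ∀ U : Submodule F V, finrank F (U.map (en Q z)) = finrank F U := fun U =>
    (Submodule.equivMapOfInjective (en Q z) hinj U).symm.finrank_eq
  have hcases : ∀ U U' : Submodule F V, Split Q y d U U' → U.map (en Q z) = U ∨ U.map (en Q z) = U' := by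
    intro U U' h
    obtain ⟨h1, h2⟩ := hmap U h.le h.inv
    have h3 := hdimm U
    rw [h.dim] at h3
    rcases h.all _ h1 h2 with h4 | h4 | h4 | h4
    · rw [h4, finrank_bot] at h3
      omega
    · exact Or.inl h4
    · exact Or.inr h4
    · rw [h4, hfr] at h3
      omega
  have hzz : ∀ w ∈ U, en Q (z ^ 2) w ∈ U := by
    have h1 : (U.map (en Q z)).map (en Q z) = U := by
      rcases hcases U U' h with h2 | h2
      · rw [h2, h2]
      · rcases hcases U' U h.symm with h3 | h3
        · exfalso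
          have h4 : U = U' := Submodule.map_injective_of_injective hinj (h2.trans h3.symm)
          have h5 := h.inf
          rw [← h4, inf_idem] at h5
          exact hU0 U U' h h5
        · rw [h2, h3]
    intro w hw
    rw [pow_two, map_mul, Module.End.mul_apply, ← h1]
    exact ⟨_, ⟨w, hw, rfl⟩, rfl⟩
  have hk2 : z ^ 2 * y * (z ^ 2)⁻¹ = y ^ (k * k) := by
    have h1 : z ^ 2 * y * (z ^ 2)⁻¹ = z * (z * y * z⁻¹) * z⁻¹ := by
      simp only [pow_two, mul_inv_rev, mul_assoc]
    rw [h1, hk, ← conj_pow, hk, ← pow_mul]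
  have h1 := norm_pow hlF hy hk2 h.le (hU0 U U' h) h.inv (irr_of_lt hd hlF hy' h.le h.inv (by rw [h.dim]; omega)) hzz
  rw [h.dim, ← pow_mul] at h1
  exact h1

end fin

end Cfsg.Agent.H14.PD
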