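import Cfsg.Agent.H14.PD.CentOrd

/-!
# S4246, row of `POmega^+_{2n}(q)`: arithmetic (helper14)
-/

set_option autoImplicit false
set_option linter.unusedSectionVars false

namespace Cfsg.Agent.H14.PD

open QuadraticMap Module Cfsg.Agent.LieClassical.OrthCore Cfsg.Agent.LieClassical.OrthTrans
open Cfsg.Agent.ClassicalGeometry.OrthSemi Cfsg.Agent.ClassicalGeometry.OrthAut1
open Cfsg.Agent.H200.LinFix Cfsg.Agent.H200.RowOrth Cfsg.Agent.H568
open Cfsg.Agent.H160.PD (v v_mono v_eq_zero v_pos Fx mem_Fx NoOdd noOdd_of out)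

/-! ### numbers -/

section arith

variable {q t n d : ℕ}

theorem dvd_iff (hq : 0 < q) (j : ℕ) : t ∣ q ^ j - 1 ↔ orderOf (q : ZMod t) ∣ j := by
  rw [← ZMod.natCast_eq_zero_iff, Nat.cast_sub (Nat.one_le_pow _ _ hq), Nat.cast_pow, Nat.cast_one, sub_eq_zero,
    orderOf_dvd_iff_pow_eq_one]

theorem ordd_iff (hq : 0 < q) {e : ℕ} : Ordd t q e ↔ e ∣ orderOf (q : ZMod t) := by
  constructor
  · intro h
    exact h _ ((dvd_iff hq _).2 dvd_rfl)
  · intro h m hm
    exact h.trans ((dvd_iff hq m).1 hm)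

/-- the order of `q` modulo a prime divisor of the order of the group -/
theorem t_cases (hq : 0 < q) (hn : 4 ≤ n) (hO : Odg n d) (ht : t.Prime)
    (h : t ∣ (q ^ n - 1) * ∏ i ∈ Finset.range (n - 1), (q ^ (2 * (i + 1)) - 1)) :
    (Ordd t q (2 * (n - 1)) ∧ t ∣ q ^ (2 * (n - 1)) - 1) ∨ (Ordd t q d ∧ t ∣ q ^ d - 1) ∨
      ∃ i, 2 ≤ i ∧ i ≤ n - 2 ∧ t ∣ q ^ (2 * i) - 1 := by
  simp only [ordd_iff hq, dvd_iff hq]
  obtain ⟨e, he⟩ : ∃ e, e = orderOf (q : ZMod t) := ⟨_, rfl⟩
  rw [← he]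
  have hod := hO.odd
  have hor := hO.or
  have small : ∀ m, 0 < m → e ∣ m → e ≤ n - 2 → ∃ i, 2 ≤ i ∧ i ≤ n - 2 ∧ e ∣ 2 * i := by
    intro m hm hem hle
    have h0 := Nat.pos_of_dvd_of_pos hem hm
    rcases Nat.lt_or_ge e 2 with h1 | h1
    · have h2 : e = 1 := by omega
      exact ⟨2, le_rfl, by omega, h2 ▸ one_dvd _⟩
    · exact ⟨e, h1, hle, dvd_mul_left _ _⟩
  rcases ht.dvd_mul.1 h with h1 | h1
  · -- `e ∣ n`
    rw [dvd_iff hq, ← he] at h1
    obtain ⟨k, hk⟩ := h1
    rcases Nat.lt_or_ge k 2 with h2 | h2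
    · have h3 : k = 1 := by
        rcases Nat.lt_or_ge k 1 with h | h
        · have : k = 0 := by omega
          subst this
          omega
        · omega
      subst h3
      rw [mul_one] at hk
      rcases Nat.even_or_odd n with hev | hodd
      · obtain ⟨j, hj⟩ := hev
        right; right
        exact ⟨j, by omega, by omega, by rw [← hk, hj]; exact ⟨1, by ring⟩⟩
      · right; left
        have h4 : d = n := by
          rcases hor with h | h
          · exact h
          · rw [Nat.odd_iff] at hod hodd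
            omega
        rw [h4, ← hk]
        exact ⟨dvd_rfl, dvd_rfl⟩
    · right; right
      refine small n (by omega) ⟨k, hk⟩ ?_
      have : e * 2 ≤ e * k := Nat.mul_le_mul_left _ h2
      omega
  · obtain ⟨i, hi, h2⟩ := (Prime.dvd_finsetProd_iff ht.prime _).1 h1
    rw [Finset.mem_range] at hi
    rw [dvd_iff hq, ← he] at h2
    rcases Nat.eq_zero_or_pos i with rfl | hi0
    · right; right
      exact ⟨2, le_rfl, by omega, h2.trans ⟨2, rfl⟩⟩
    rcases Nat.lt_or_ge i (n - 2) with h3 | h3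
    · right; right
      exact ⟨i + 1, by omega, by omega, h2⟩
    have h4 : i + 1 = n - 1 := by omega
    rw [h4] at h2
    obtain ⟨k, hk⟩ := h2
    rcases Nat.lt_or_ge k 3 with h5 | h5
    · have hk0 : k ≠ 0 := by
        rintro rfl
        omega
      rcases (show k = 1 ∨ k = 2 by omega) with h6 | h6
      · subst h6
        rw [mul_one] at hk
        left
        rw [hk]
        exact ⟨dvd_rfl, dvd_rfl⟩
      · subst h6
        have h7 : e = n - 1 := by omega
        rcases Nat.even_or_odd (n - 1) with hev | hodd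
        · obtain ⟨j, hj⟩ := hev
          right; right
          exact ⟨j, by omega, by omega, by rw [h7, hj]; exact ⟨1, by ring⟩⟩
        · right; left
          have h8 : d = n - 1 := by
            rcases hor with h | h
            · rw [Nat.odd_iff] at hod hodd
              omega
            · exact h
          rw [h8, h7]
          exact ⟨dvd_rfl, dvd_rfl⟩
    · right; right
      refine small (2 * (n - 1)) (by omega) ⟨k, hk⟩ ?_
      have : e * 3 ≤ e * k := Nat.mul_le_mul_left _ h5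
      omega

theorem fac_mono {a b t : ℕ} (h : a ∣ b) (hb : b ≠ 0) : a.factorization t ≤ b.factorization t :=
  (Nat.factorization_le_iff_dvd (ne_zero_of_dvd_ne_zero hb h) hb).2 h t

/-- the sum of the `t`-parts -/
theorem sum_ge (q : ℕ) {n i : ℕ} (t : ℕ) (hn : 4 ≤ n) (hi : 2 ≤ i) (hi' : i ≤ n - 2) :
    (q ^ 2 - 1).factorization t + (q ^ (2 * (n - 1)) - 1).factorization t + (q ^ (2 * i) - 1).factorization t ≤
      ∑ j ∈ Finset.range (n - 1), (q ^ (2 * (j + 1)) - 1).factorization t := by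
  have h1 : ({0, n - 2, i - 1} : Finset ℕ) ⊆ Finset.range (n - 1) := by
    intro j hj
    simp only [Finset.mem_insert, Finset.mem_singleton] at hj
    rw [Finset.mem_range]
    omega
  have h2 := Finset.sum_le_sum_of_subset (f := fun j => (q ^ (2 * (j + 1)) - 1).factorization t) h1
  rw [Finset.sum_insert (by simp; omega), Finset.sum_insert (by simp; omega), Finset.sum_singleton,
    show n - 2 + 1 = n - 1 by omega, show i - 1 + 1 = i by omega, zero_add, mul_one] at h2
  omega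

theorem fac_prod (q : ℕ) (hq : 1 < q) (n t : ℕ) : (∏ i ∈ Finset.range (n - 1), (q ^ (2 * (i + 1)) - 1)).factorization t =
    ∑ j ∈ Finset.range (n - 1), (q ^ (2 * (j + 1)) - 1).factorization t := by
  rw [Nat.factorization_prod (fun i _ => by
    have := Nat.one_lt_pow (n := 2 * (i + 1)) (by omega) hq
    omega), Finsupp.finsetSum_apply]

end arith

/-! ### the group -/

variable {F V : Type*} [Field F] [AddCommGroup V] [Module F V] {Q : QuadraticForm F V}

/-- the data with the order of the group and the outer automorphisms -/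
structure PlusC (Q : QuadraticForm F V) (n p f : ℕ) : Prop extends Plus Q n p f where
  hcard : ∃ c, c ∣ 4 ∧ c * Nat.card (P Q) = Nat.card F ^ (n * (n - 1)) * (Nat.card F ^ n - 1) *
    ∏ i ∈ Finset.range (n - 1), (Nat.card F ^ (2 * (i + 1)) - 1)
  hc2 : p = 2 → Nat.card (P Q) = Nat.card F ^ (n * (n - 1)) * (Nat.card F ^ n - 1) *
    ∏ i ∈ Finset.range (n - 1), (Nat.card F ^ (2 * (i + 1)) - 1)
  hout : ∀ t, t.Prime → t ≠ 2 → (out (P Q)).factorization t ≤ f.factorization t + (if t = 3 ∧ n = 4 then 1 else 0)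
  houtp : (out (P Q)).factorization p ≤ f

variable {n p f d : ℕ} [Finite V] [Finite F]

theorem PlusC.v_eq (H : PlusC Q n p f) {t : ℕ} (ht : t.Prime) (ht2 : t ≠ 2 ∨ p = 2) : v t (P Q) =
    (Nat.card F ^ (n * (n - 1))).factorization t + (Nat.card F ^ n - 1).factorization t +
      ∑ j ∈ Finset.range (n - 1), (Nat.card F ^ (2 * (j + 1)) - 1).factorization t := by
  have hn := H.hn
  have hq : 1 < Nat.card F := Finite.one_lt_card
  have hfin : Finite ↥(E Q) := finite_E
  have h1 : Nat.card F ^ (n * (n - 1)) ≠ 0 := by positivity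
  have h2 : Nat.card F ^ n - 1 ≠ 0 := by
    have := Nat.one_lt_pow (n := n) (by omega) hq
    omega
  have h3 : ∏ i ∈ Finset.range (n - 1), (Nat.card F ^ (2 * (i + 1)) - 1) ≠ 0 := by
    rw [Finset.prod_ne_zero_iff]
    intro i _
    have := Nat.one_lt_pow (n := 2 * (i + 1)) (by omega) hq
    omega
  obtain ⟨c, hc, hc', hcc⟩ : ∃ c, c ≠ 0 ∧ c.factorization t = 0 ∧
      c * Nat.card (P Q) = Nat.card F ^ (n * (n - 1)) * (Nat.card F ^ n - 1) *
    ∏ i ∈ Finset.range (n - 1), (Nat.card F ^ (2 * (i + 1)) - 1) := by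
    rcases ht2 with ht2 | hp2
    · obtain ⟨c, hc, hcc⟩ := H.hcard
      refine ⟨c, ?_, ?_, hcc⟩
      · rintro rfl
        exact absurd (Nat.eq_zero_of_zero_dvd hc) (by norm_num)
      · apply Nat.factorization_eq_zero_of_not_dvd
        intro h
        have h5 : t ∣ 2 ^ 2 := h.trans hc
        exact ht2 ((Nat.prime_dvd_prime_iff_eq ht Nat.prime_two).1 (ht.dvd_of_dvd_pow h5))
    · exact ⟨1, one_ne_zero, by rw [Nat.factorization_one]; rfl, by rw [one_mul]; exact H.hc2 hp2⟩
  have h4 : (c * Nat.card (P Q)).factorization t = (Nat.card F ^ (n * (n - 1)) * (Nat.card F ^ n - 1) *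
    ∏ i ∈ Finset.range (n - 1), (Nat.card F ^ (2 * (i + 1)) - 1)).factorization t := by rw [hcc]
  rw [Nat.factorization_mul hc Nat.card_pos.ne', Finsupp.add_apply, hc', zero_add,
    Nat.factorization_mul (mul_ne_zero h1 h2) h3, Nat.factorization_mul h1 h2, Finsupp.add_apply, Finsupp.add_apply,
    fac_prod _ hq] at h4
  exact h4

/-- the `p`-part of the order -/
theorem PlusC.v_p (H : PlusC Q n p f) : v p (P Q) = f * (n * (n - 1)) := by
  have hn := H.hn
  have hp := H.prime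
  have hq : 1 < Nat.card F := Finite.one_lt_card
  rw [H.v_eq hp (by by_cases h : p = 2; exacts [Or.inr h, Or.inl h])]
  have h1 : (Nat.card F ^ n - 1).factorization p = 0 := by
    apply Nat.factorization_eq_zero_of_not_dvd
    rw [H.hF]
    exact Cfsg.Agent.H311.PD.not_dvd_pow_sub_one hp H.hf (by omega)
  have h2 : ∑ j ∈ Finset.range (n - 1), (Nat.card F ^ (2 * (j + 1)) - 1).factorization p = 0 := by
    apply Finset.sum_eq_zero
    intro j _
    apply Nat.factorization_eq_zero_of_not_dvd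
    rw [H.hF]
    exact Cfsg.Agent.H311.PD.not_dvd_pow_sub_one hp H.hf (by omega)
  rw [h1, h2, H.hF, ← pow_mul, hp.factorization_pow, Finsupp.single_eq_same, add_zero, add_zero]

theorem PlusC.t_cases (H : PlusC Q n p f) (hO : Odg n d) {t : ℕ} (ht : t.Prime) (htp : t ≠ p)
    (h : t ∣ Nat.card (P Q)) : (Ordd t (Nat.card F) (2 * (n - 1)) ∧ t ∣ Nat.card F ^ (2 * (n - 1)) - 1) ∨
      (Ordd t (Nat.card F) d ∧ t ∣ Nat.card F ^ d - 1) ∨
      ∃ i, 2 ≤ i ∧ i ≤ n - 2 ∧ t ∣ Nat.card F ^ (2 * i) - 1 := by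
  obtain ⟨c, hc, hcc⟩ := H.hcard
  refine PD.t_cases Nat.card_pos H.hn hO ht ?_
  have h1 : t ∣ Nat.card F ^ (n * (n - 1)) * (Nat.card F ^ n - 1) *
    ∏ i ∈ Finset.range (n - 1), (Nat.card F ^ (2 * (i + 1)) - 1) := hcc ▸ Dvd.dvd.mul_left h c
  rw [mul_assoc] at h1
  rcases ht.dvd_mul.1 h1 with h2 | h2
  · exfalso
    rw [H.hF, ← pow_mul] at h2
    exact htp ((Nat.prime_dvd_prime_iff_eq ht H.prime).1 (ht.dvd_of_dvd_pow h2))
  · exact h2

theorem PlusC.lte (H : PlusC Q n p f) {t e : ℕ} (ht : t.Prime) (he : 1 ≤ e) (h : t ∣ Nat.card F ^ e - 1) :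
    f.factorization t + 1 ≤ (Nat.card F ^ e - 1).factorization t := by
  have hp := H.prime
  have hq : 1 < Nat.card F := Finite.one_lt_card
  have h1 := Nat.one_lt_pow (n := e) (by omega) hq
  rw [H.hF] at h h1 ⊢
  exact Cfsg.Agent.H311.PD.lte ht H.hf hp.one_lt.le h h1

/-- `3` divides `q ^ 2 - 1` -/
theorem three_dvd {q e : ℕ} (hq : ¬ 3 ∣ q) (he : Even e) : 3 ∣ q ^ e - 1 := by
  obtain ⟨k, rfl⟩ := he
  have hq0 : 0 < q := Nat.pos_of_ne_zero (by rintro rfl; exact hq (dvd_zero _))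
  rw [dvd_iff hq0]
  have h1 : orderOf (q : ZMod 3) ∣ 2 := by
    rw [orderOf_dvd_iff_pow_eq_one]
    have h2 : (q : ZMod 3) ≠ 0 := by rwa [ne_eq, ZMod.natCast_eq_zero_iff]
    have : Fact (Nat.Prime 3) := ⟨Nat.prime_three⟩
    exact ZMod.pow_card_sub_one_eq_one h2
  exact h1.trans ⟨k, by ring⟩

/-- **`Good`** -/
theorem PlusC.good_of (H : PlusC Q n p f) {t : ℕ} (ht : t.Prime) (ht2 : t ≠ 2) (htp : t ≠ p)
    (h : t ∣ Nat.card (P Q)) : (out (P Q)).factorization t < v t (P Q) := by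
  have hn := H.hn
  obtain ⟨d, hO⟩ : ∃ d, Odg n d := by
    rcases Nat.even_or_odd n with h | h
    · exact ⟨n - 1, ⟨Nat.Even.sub_odd (by omega) h odd_one, Or.inr rfl⟩⟩
    · exact ⟨n, ⟨h, Or.inl rfl⟩⟩
  have hor := hO.or
  have h1 := H.hout t ht ht2
  have h2 := H.v_eq ht (Or.inl ht2)
  have h3 := sum_ge (Nat.card F) (n := n) (i := 2) t hn le_rfl (by omega)
  have hq : 1 < Nat.card F := Finite.one_lt_card
  have hne : ∀ e, 1 ≤ e → Nat.card F ^ e - 1 ≠ 0 := fun e he => by
    have := Nat.one_lt_pow (n := e) (by omega) hq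
    omega
  by_cases h34 : t = 3 ∧ n = 4
  · obtain ⟨rfl, rfl⟩ := h34
    have h3q : ¬ 3 ∣ Nat.card F := by
      rw [H.hF]
      intro h4
      exact htp ((Nat.prime_dvd_prime_iff_eq ht H.prime).1 (ht.dvd_of_dvd_pow h4))
    have h5 := H.lte ht (by norm_num) (three_dvd h3q (e := 2) (by decide))
    have h6 := H.lte ht (by norm_num) (three_dvd h3q (e := 2 * 2) (by decide))
    rw [if_pos ⟨rfl, rfl⟩] at h1
    omega
  · rw [if_neg h34] at h1
    rcases H.t_cases hO ht htp h with ⟨-, h4⟩ | ⟨-, h4⟩ | ⟨i, hi, hi', h4⟩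
    · have h5 := H.lte ht (by omega) h4
      omega
    · rcases hor with rfl | rfl
      · have h5 := H.lte ht (by omega) h4
        omega
      · have h5 := H.lte ht (by omega) h4
        have h6 : Nat.card F ^ (n - 1) - 1 ∣ Nat.card F ^ (2 * (n - 1)) - 1 := by
          have := Nat.sub_dvd_pow_sub_pow (Nat.card F ^ (n - 1)) 1 2
          rwa [one_pow, ← pow_mul, mul_comm (n - 1) 2] at this
        have h7 := fac_mono (t := t) h6 (hne _ (by omega))
        omega
    · have h5 := H.lte ht (by omega) h4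
      have h6 := sum_ge (Nat.card F) (n := n) (i := i) t hn hi hi'
      omega

/-- **`num`** -/
theorem PlusC.num (H : PlusC Q n p f) (hO : Odg n d) {l₀ l₁ : ℕ} (h₀ : l₀.Prime) (h₀2 : l₀ ≠ 2) (h₀F : (l₀ : F) ≠ 0)
    (hd₀ : Ordd l₀ (Nat.card F) (2 * (n - 1))) (hld₀ : l₀ ∣ Nat.card F ^ (n - 1) + 1)
    (h₁ : l₁.Prime) (h₁2 : l₁ ≠ 2) (h₁F : (l₁ : F) ≠ 0)
    (hd₁ : Ordd l₁ (Nat.card F) d) (hld₁ : l₁ ∣ Nat.card F ^ d - 1) {t : ℕ} (ht : t.Prime) (ht2 : t ≠ 2) (htp : t ≠ p)
    (h : t ∣ Nat.card (P Q)) :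
    ((out (P Q)).factorization t < v t (P Q) ∧ ∀ y : P Q, orderOf y = t →
        v p (Subgroup.centralizer ({y} : Set (P Q))) ≤ 0) ∨
      ∀ x y : P Q, orderOf x = l₀ → orderOf y = l₁ →
        v t (Subgroup.centralizer ({x} : Set (P Q))) + v t (Subgroup.centralizer ({y} : Set (P Q))) +
          (out (P Q)).factorization t < v t (P Q) := by
  have := Fact.mk h₀
  have := Fact.mk h₁
  have hn := H.hn
  have hor := hO.or
  have hod := hO.odd
  rcases H.t_cases hO ht htp h with ⟨h1, h4⟩ | ⟨h1, h4⟩ | ⟨i, hi, hi', h4⟩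
  · left
    refine ⟨H.good_of ht ht2 htp h, fun y hy => ?_⟩
    exact (H.cent_first ht ht2 (H.cast_ne ht (by omega) h4) h1 hy).le
  · left
    refine ⟨H.good_of ht ht2 htp h, fun y hy => ?_⟩
    exact (H.cent_second hO ht ht2 (H.cast_ne ht (by omega) h4) h1 h4 hy).le
  · right
    intro x y hx hy
    obtain ⟨a, ha, ha1, rfl⟩ := H.exists_lift h₀ h₀2 hx
    obtain ⟨b, hb, hb1, rfl⟩ := H.exists_lift h₁ h₁2 hy
    have e1 := (Cfsg.Agent.H311.PD.v_centralizer_mk H.good (h₀.odd_of_ne_two h₀2) ha t).trans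
      (H.v_cent_first h₀2 h₀F hd₀ hld₀ ha ha1 ht ht2)
    have e2 := Cfsg.Agent.H311.PD.v_centralizer_mk H.good (h₁.odd_of_ne_two h₁2) hb t
    have e3 := H.hout t ht ht2
    have e4 := H.v_eq ht (Or.inl ht2)
    have e5 := sum_ge (Nat.card F) (n := n) (i := i) t hn hi hi'
    have e6 := H.lte ht (by omega) h4
    have hq : 1 < Nat.card F := Finite.one_lt_card
    have hne : ∀ e, 1 ≤ e → Nat.card F ^ e - 1 ≠ 0 := fun e he => by
      have := Nat.one_lt_pow (n := e) (by omega) hq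
      omega
    have f1 : Nat.card F ^ 2 - 1 = (Nat.card F + 1) * (Nat.card F - 1) := Nat.sq_sub_sq (Nat.card F) 1
    have f2 : Nat.card F ^ (2 * (n - 1)) - 1 = (Nat.card F ^ (n - 1) + 1) * (Nat.card F ^ (n - 1) - 1) := by
      rw [mul_comm 2, pow_mul]
      exact Nat.sq_sub_sq (Nat.card F ^ (n - 1)) 1
    have f3 : (Nat.card F ^ 2 - 1).factorization t = (Nat.card F + 1).factorization t +
        (Nat.card F - 1).factorization t := by
      rw [f1, Nat.factorization_mul (by omega) (by omega), Finsupp.add_apply]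
    have f4 : (Nat.card F ^ (2 * (n - 1)) - 1).factorization t = (Nat.card F ^ (n - 1) + 1).factorization t +
        (Nat.card F ^ (n - 1) - 1).factorization t := by
      rw [f2, Nat.factorization_mul (by omega) (hne _ (by omega)), Finsupp.add_apply]
    rcases hor with rfl | rfl
    · -- `n` odd
      have e7 := H.v_cent_second_odd hod h₁2 h₁F hd₁ hld₁ hb hb1 t
      have h34 : ¬ (t = 3 ∧ d = 4) := by
        rintro ⟨-, rfl⟩
        exact absurd hod (by decide)
      rw [if_neg h34] at e3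
      omega
    · have e7 := H.v_cent_second_even hod h₁2 h₁F hd₁ hld₁ hb hb1 ht ht2
      by_cases h34 : t = 3 ∧ n = 4
      · obtain ⟨rfl, rfl⟩ := h34
        rw [if_pos ⟨rfl, rfl⟩] at e3
        have h3q : ¬ 3 ∣ Nat.card F := by
          rw [H.hF]
          intro h4
          exact htp ((Nat.prime_dvd_prime_iff_eq ht H.prime).1 (ht.dvd_of_dvd_pow h4))
        have h6 := H.lte ht (by norm_num) (three_dvd h3q (e := 4) (by decide))
        omega
      · rw [if_neg h34] at e3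
        omega

end Cfsg.Agent.H14.PD
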