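import Cfsg.Agent.H14.PD.Fix
import Cfsg.Agent.H14.PD.Num

/-!
# S4246, row of `POmega^+_{2n}(q)`: the subgroups of odd order (helper14)
-/

set_option autoImplicit false
set_option linter.unusedSectionVars false

namespace Cfsg.Agent.H14.PD

open QuadraticMap Module Cfsg.Agent.LieClassical.OrthCore Cfsg.Agent.LieClassical.OrthTrans
open Cfsg.Agent.ClassicalGeometry.OrthSemi Cfsg.Agent.ClassicalGeometry.OrthAut1
open Cfsg.Agent.H200.LinFix Cfsg.Agent.H200.RowOrth Cfsg.Agent.H568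
open Cfsg.Agent.H160.PD (v v_mono v_eq_zero v_pos Fx mem_Fx NoOdd noOdd_of Uniq odd_bound_of_uniq)

variable {F V : Type*} [Field F] [AddCommGroup V] [Module F V] {Q : QuadraticForm F V} [Finite V] [Finite F]

variable {n p f d : ℕ}

/-- the image of a `p`-subgroup in `P Q` -/
theorem card_map_mk {p : ℕ} [hp : Fact p.Prime] (h : ¬ p ∣ Nat.card (Subgroup.center ↥(E Q))) {X : Subgroup ↥(E Q)}
    (hX : IsPGroup p X) : Nat.card ↥(X.map (QuotientGroup.mk' (Subgroup.center ↥(E Q)))) = Nat.card X := by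
  have hfin : Finite ↥(E Q) := finite_E
  have hinj : Function.Injective ((QuotientGroup.mk' (Subgroup.center ↥(E Q))).comp X.subtype) := by
    rw [injective_iff_map_eq_one]
    rintro ⟨g, hg⟩ h1
    have h2 : g ∈ Subgroup.center ↥(E Q) := (QuotientGroup.eq_one_iff g).1 h1
    by_contra hne
    have h3 : g ≠ 1 := fun h0 => hne (Subtype.ext h0)
    obtain ⟨k, hk⟩ := (IsPGroup.iff_orderOf.1 hX) ⟨g, hg⟩
    rw [Subgroup.orderOf_mk] at hk
    have hk0 : k ≠ 0 := by
      rintro rfl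
      rw [pow_zero, orderOf_eq_one_iff] at hk
      exact h3 hk
    apply h
    have h4 : orderOf g ∣ Nat.card (Subgroup.center ↥(E Q)) := by
      have h5 := orderOf_dvd_natCard (⟨g, h2⟩ : Subgroup.center ↥(E Q))
      rwa [Subgroup.orderOf_mk] at h5
    exact (dvd_pow_self p hk0).trans (hk ▸ h4)
  have h2 : Nat.card X = Nat.card ((QuotientGroup.mk' (Subgroup.center ↥(E Q))).comp X.subtype).range :=
    Nat.card_congr (MonoidHom.ofInjective hinj).toEquiv
  rw [h2, MonoidHom.range_comp, Subgroup.range_subtype]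

/-- an element commuting with `y` and trivial on `U` is trivial on `R y` -/
theorem Split.triv (hG : Good Q) {l : ℕ} [hl : Fact l.Prime] (hl2 : l ≠ 2) (hlF : (l : F) ≠ 0)
    {y : ↥(E Q)} (hy : y ^ l = 1) (hd : Ordd l (Nat.card F) d) (hdo : Odd d) {U U' : Submodule F V}
    (h : Split Q y d U U') {s : ↥(E Q)} (hs : s * y = y * s) (h1 : ∀ w ∈ U, en Q s w = w) :
    ∀ w ∈ R (en Q y), en Q s w = w := by
  have hfd : FiniteDimensional F V := inferInstance
  have hy' : en Q y ^ l = 1 := by rw [← map_pow, hy, map_one]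
  have h2 : ∀ u ∈ U', en Q s u = u := by
    intro u hu
    have hcU' : en Q s u ∈ U' := h.symm.comm_inv hG hl2 hlF hy hd hdo hs u hu
    have hmem : en Q s u - u ∈ U' := Submodule.sub_mem _ hcU' hu
    rw [← sub_eq_zero]
    refine nondeg_R (isom_en y) (polar_nondeg hG) hy' hlF (h.le' hmem) fun a ha => ?_
    rw [← h.sup] at ha
    obtain ⟨b, hb, b', hb', rfl⟩ := Submodule.mem_sup.1 ha
    rw [map_add, LinearMap.add_apply, h.ti' b' hb' _ hmem, add_zero, map_sub, sub_eq_zero]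
    conv_lhs => rw [← h1 b hb]
    exact isom_en s b u
  intro w hw
  rw [← h.sup] at hw
  obtain ⟨b, hb, b', hb', rfl⟩ := Submodule.mem_sup.1 hw
  rw [map_add, h1 b hb, h2 b' hb']

/-- reduction of `Uniq` to `E Q` -/
theorem uniq_of (hG : Good Q) {l : ℕ} [hl : Fact l.Prime] (hl2 : l ≠ 2)
    (h : ∀ a b : ↥(E Q), a ^ l = 1 → a ≠ 1 → b ^ l = 1 → b * a = a * b → ∃ i : ℕ, (b * (a ^ i)⁻¹ = 1)) : Uniq (P Q) l := by
  have hlo := hl.out.odd_of_ne_two hl2
  intro x y hx hy hxy
  obtain ⟨a, ha, rfl⟩ := lift_pow hG x hlo (by rw [← hx, pow_orderOf_eq_one])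
  obtain ⟨b, hb, rfl⟩ := lift_pow hG y hlo (by rw [← hy, pow_orderOf_eq_one])
  have ha1 : a ≠ 1 := by
    rintro rfl
    rw [QuotientGroup.mk_one, orderOf_one] at hx
    exact hl.out.one_lt.ne hx
  obtain ⟨i, hi⟩ := h a b ha ha1 hb (comm_of_mk hG hlo ha hxy).symm
  rw [mul_inv_eq_one] at hi
  rw [hi, QuotientGroup.mk_pow]
  exact Subgroup.pow_mem _ (Subgroup.mem_zpowers _) i

theorem pow_mul_inv {a b : ↥(E Q)} {l : ℕ} (ha : a ^ l = 1) (hb : b ^ l = 1) (hba : b * a = a * b) (i : ℕ) :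
    (b * (a ^ i)⁻¹) ^ l = 1 ∧ (b * (a ^ i)⁻¹) * a = a * (b * (a ^ i)⁻¹) := by
  have h1 : Commute b a := hba
  have h2 : Commute b (a ^ i)⁻¹ := (h1.pow_right i).inv_right
  have h3 : Commute (a ^ i)⁻¹ a := ((Commute.refl a).pow_left i).inv_left
  refine ⟨?_, (h1.mul_left h3).eq⟩
  rw [h2.mul_pow, hb, one_mul, inv_pow, ← pow_mul, mul_comm, pow_mul, ha, one_pow, inv_one]

theorem Plus.uniq_first (H : Plus Q n p f) {l : ℕ} [hl : Fact l.Prime] (hl2 : l ≠ 2) (hlF : (l : F) ≠ 0)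
    (hd : Ordd l (Nat.card F) (2 * (n - 1))) : Uniq (P Q) l := by
  have hfd : FiniteDimensional F V := inferInstance
  have hn := H.hn
  refine uniq_of H.good hl2 fun a b ha ha1 hb hba => ?_
  have hR0 : R (en Q a) ≠ ⊥ := by
    intro h
    rw [R_eq_bot] at h
    exact ha1 (en_injective (h.trans (map_one _).symm))
  obtain ⟨i, hi⟩ := mem_powers_on hlF ha (W := R (en Q a)) le_rfl hR0 (fun w hw => R_inv rfl hw) (H.irr_first hlF hd ha)
    (s := b) (fun w hw => R_inv (by rw [← map_mul, hba, map_mul]) hw) hba hb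
  refine ⟨i, ?_⟩
  obtain ⟨h1, h2⟩ := pow_mul_inv ha hb hba i
  have h3 : ∀ w ∈ R (en Q a), en Q (b * (a ^ i)⁻¹) w = w := by
    intro w hw
    have hw' : en Q (a ^ i)⁻¹ w ∈ R (en Q a) :=
      R_inv (by rw [← map_mul, ← map_mul]; exact congrArg (en Q) (((Commute.refl a).pow_left i).inv_left).eq) hw
    rw [map_mul, Module.End.mul_apply, hi _ hw', ← Module.End.mul_apply, ← map_mul, mul_inv_cancel, map_one]
    rfl
  by_contra hne
  have h4 := (H.dim_first hlF hd h1 hne).1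
  have h5 := (H.dim_first hlF hd ha ha1).2
  have h6 := Submodule.finrank_mono (R_le_K hlF ha h2 h3)
  omega

theorem Plus.uniq_second (H : Plus Q n p f) (hO : Odg n d) {l : ℕ} [hl : Fact l.Prime] (hl2 : l ≠ 2)
    (hlF : (l : F) ≠ 0) (hd : Ordd l (Nat.card F) d) (hld : l ∣ Nat.card F ^ d - 1) : Uniq (P Q) l := by
  have hfd : FiniteDimensional F V := inferInstance
  have hn := H.hn
  have hor := hO.or
  have hd0 := hO.odd.pos
  have hG := H.good
  refine uniq_of H.good hl2 fun a b ha ha1 hb hba => ?_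
  have ha' : en Q a ^ l = 1 := by rw [← map_pow, ha, map_one]
  obtain ⟨e1, e2⟩ := H.dim_second hO hl2 hlF hd ha ha1
  obtain ⟨U, U', hU⟩ := exists_split H.good hl2 hlF ha hd hld hO.odd e1
  have hU0 : U ≠ ⊥ := by
    rintro rfl
    have := hU.dim
    rw [finrank_bot] at this
    omega
  have hirr : Irr (en Q a) U := irr_of_lt hd hlF ha' hU.le hU.inv (by rw [hU.dim]; omega)
  obtain ⟨i, hi⟩ := mem_powers_on hlF ha (W := U) hU.le hU0 hU.inv hirr
    (s := b) (hU.comm_inv hG hl2 hlF ha hd hO.odd hba) hba hb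
  refine ⟨i, ?_⟩
  obtain ⟨h1, h2⟩ := pow_mul_inv ha hb hba i
  have h3 : ∀ w ∈ R (en Q a), en Q (b * (a ^ i)⁻¹) w = w := by
    refine hU.triv hG hl2 hlF ha hd hO.odd h2 fun w hw => ?_
    have hw' : en Q (a ^ i)⁻¹ w ∈ U := hU.comm_inv hG hl2 hlF ha hd hO.odd
      (((Commute.refl a).pow_left i).inv_left).eq w hw
    rw [map_mul, Module.End.mul_apply, hi _ hw', ← Module.End.mul_apply, ← map_mul, mul_inv_cancel, map_one]
    rfl
  by_contra hne
  have h4 := (H.dim_second hO hl2 hlF hd h1 hne).1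
  have h6 := Submodule.finrank_mono (R_le_K hlF ha h2 h3)
  have hd3 : 3 ≤ d := by
    have h1 := hO.odd
    rw [Nat.odd_iff] at h1
    omega
  omega

theorem Plus.noNorm_first (H : Plus Q n p f) (hp2 : p ≠ 2) {l : ℕ} [hl : Fact l.Prime] (hl2 : l ≠ 2) (hlF : (l : F) ≠ 0)
    (hd : Ordd l (Nat.card F) (2 * (n - 1))) (hld : l ∣ Nat.card F ^ (n - 1) + 1) {y : ↥(E Q)} (hy : y ^ l = 1)
    (hy1 : y ≠ 1) : NoNorm p (QuotientGroup.mk y : P Q) := by
  have := Fact.mk H.prime
  have hn := H.hn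
  have h2F : (2 : F) ≠ 0 := by
    intro h
    have hc : CharP F p := (CharP.charP_iff_prime_eq_zero H.prime).2 H.hpF
    have h3 : ((2 : ℕ) : F) = 0 := by exact_mod_cast h
    rw [CharP.cast_eq_zero_iff F p] at h3
    exact hp2 ((Nat.prime_dvd_prime_iff_eq H.prime Nat.prime_two).1 h3)
  refine noNorm_of_ti H.good hp2 H.hpF (ti_of_irr H.good hlF hy (H.irr_first hlF hd hy) fun w hw hww => ?_)
  apply no_sing_K H.good (by omega) H.hV H.hsing hl2 hlF hd hld hy hy1 hw
  rw [polarBilin_apply_apply, polar_self'] at hww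
  exact (mul_eq_zero.1 hww).resolve_left h2F

theorem Plus.odd_first (H : Plus Q n p f) (hp2 : p ≠ 2) {l : ℕ} (hl : l.Prime) (hl2 : l ≠ 2) (hlF : (l : F) ≠ 0)
    (hd : Ordd l (Nat.card F) (2 * (n - 1))) (hld : l ∣ Nat.card F ^ (n - 1) + 1) {X : Subgroup (P Q)}
    (hX : Odd (Nat.card X)) (hlX : l ∣ Nat.card X) : v p X ≤ (2 * (n - 1)).factorization p := by
  have := Fact.mk hl
  have := Fact.mk H.prime
  have hn := H.hn
  have hfin : Finite ↥(E Q) := finite_E
  have hpl : p ≠ l := by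
    rintro rfl
    exact hlF H.hpF
  have h1 := odd_bound_of_uniq (a := 0) (b := (2 * (n - 1)).factorization p) H.prime hl hpl (H.uniq_first hl2 hlF hd)
    (fun Y hY x hx hxo => by
      obtain ⟨y, hy, hy1, rfl⟩ := H.exists_lift hl hl2 hxo
      have h2 : Y = ⊥ := by
        obtain h3 := H.noNorm_first hp2 hl2 hlF hd hld hy hy1
        exact h3 Y hY hx
      rw [h2, v, Subgroup.card_bot, Nat.factorization_one]
      rfl) (fun x hxo => by
      have h3 := H.cent_first hl hl2 hlF hd hxo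
      obtain ⟨y, hy, hy1, rfl⟩ := H.exists_lift hl hl2 hxo
      have h2 := v_normalizer_le H.good hl2 hy hy1 (n := 2 * (n - 1)) (by omega) (fun z k hk => by
        have h4 := norm_pow_irr hlF hy hy1 hk (H.irr_first hlF hd hy)
        rwa [(H.dim_first hlF hd hy hy1).1] at h4) p
      rw [h3, zero_add] at h2
      exact h2) X hX hlX
  rwa [zero_add] at h1

theorem Plus.odd_second (H : Plus Q n p f) (hO : Odg n d) (hp2 : p ≠ 2) {l : ℕ} (hl : l.Prime) (hl2 : l ≠ 2)
    (hlF : (l : F) ≠ 0) (hd : Ordd l (Nat.card F) d) (hld : l ∣ Nat.card F ^ d - 1) {X : Subgroup (P Q)}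
    (hX : Odd (Nat.card X)) (hlX : l ∣ Nat.card X) :
    v p X + f * d ≤ v p (P Q) + f + (2 * d).factorization p := by
  have := Fact.mk hl
  have := Fact.mk H.prime
  have hn := H.hn
  have hd0 := hO.odd.pos
  have hfin : Finite ↥(E Q) := finite_E
  have hpl : p ≠ l := by
    rintro rfl
    exact hlF H.hpF
  -- the subgroups normalised by an element of order `l`
  have hN : ∀ Y : Subgroup (P Q), IsPGroup p Y → ∀ x ∈ Subgroup.normalizer (Y : Set (P Q)), orderOf x = l →
      v p Y + f * d ≤ v p (P Q) + f := by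
    intro Y hY x hx hxo
    obtain ⟨y, hy, hy1, rfl⟩ := H.exists_lift hl hl2 hxo
    obtain ⟨Y₁, hY₁, hmap, hnorm⟩ := Cfsg.Agent.SigZeroU5.exists_lift (Subgroup.center ↥(E Q)) le_rfl
      (not_dvd_center H.good hp2) hY
    have h1 := H.v_norm_second hO hp2 hl2 hlF hd hld hy hy1 hY₁ (fun g hg => by
      rw [hnorm y hx]
      have h2 : y * (y⁻¹ * g * y) * y⁻¹ = g := by group
      rwa [h2])
    rw [v_P H.good (Or.inl hp2)]
    have h2 : v p Y = v p Y₁ := by
      rw [v, v, ← hmap, card_map_mk (not_dvd_center H.good hp2) hY₁]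
    rw [h2]
    exact h1
  obtain ⟨x, hxX, hxo⟩ := Cfsg.Agent.H160.PD.Cfg.exists_mem hl hlX
  have h0 := hN ⊥ IsPGroup.of_bot x (by
    rw [Subgroup.mem_normalizer_iff]
    intro w
    simp) hxo
  rw [v, Subgroup.card_bot, Nat.factorization_one, Finsupp.coe_zero, Pi.zero_apply, zero_add] at h0
  have h1 := odd_bound_of_uniq (a := v p (P Q) + f - f * d) (b := (2 * d).factorization p) H.prime hl hpl
    (H.uniq_second hO hl2 hlF hd hld)
    (fun Y hY x hx hxo => by
      have := hN Y hY x hx hxo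
      omega) (fun x hxo => by
      have h3 := H.cent_second hO hl hl2 hlF hd hld hxo
      obtain ⟨y, hy, hy1, rfl⟩ := H.exists_lift hl hl2 hxo
      obtain ⟨U, U', hU⟩ := exists_split H.good hl2 hlF hy hd hld hO.odd (H.dim_second hO hl2 hlF hd hy hy1).1
      have h2 := v_normalizer_le H.good hl2 hy hy1 (n := 2 * d) (by omega) (fun z k hk =>
        norm_pow_split hlF hy hd hd0 hU hk) p
      rw [h3, zero_add] at h2
      exact h2) X hX hlX
  omega

end Cfsg.Agent.H14.PD
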