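import Cfsg.Agent.H14.PD.Siegel

/-!
# S4246, rows of the orthogonal groups: the `p`-parts of the centralisers (helper14)

`pbound` : `s ∈ E Q` of odd prime order not the characteristic `p`, `X` a `p`-subgroup of `C(s)`; then the `p`-part of
`|X|` is at most the `p`-part of `|E Q|` divided by `q ^ 2`.
-/

set_option autoImplicit false
set_option linter.unusedSectionVars false

namespace Cfsg.Agent.H14.PD

open QuadraticMap Module Cfsg.Agent.LieClassical.OrthCore Cfsg.Agent.LieClassical.OrthTrans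
open Cfsg.Agent.H200.LinFix Cfsg.Agent.H200.RowOrth
open Cfsg.Agent.H160.PD (v v_mono v_eq_zero v_pos)

variable {F V : Type*} [Field F] [AddCommGroup V] [Module F V] {Q : QuadraticForm F V}

theorem pow_apply_fix {g : Module.End F V} {w : V} (h : g w = w) (n : ℕ) : (g ^ n) w = w := by
  induction n with
  | zero => rfl
  | succ n ih => rw [pow_succ, Module.End.mul_apply, h, ih]

/-- relation of the Siegel transformations in a centraliser -/
theorem sg_comm {u w : V} (hu : Q u = 0) (hw : w ∈ pp Q u) {s : ↥(E Q)}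
    (hc : sg hu (Multiplicative.ofAdd ⟨w, hw⟩) * s = s * sg hu (Multiplicative.ofAdd ⟨w, hw⟩)) (x : V) :
    polar Q u x • w - polar Q w x • u - (Q w * polar Q u x) • u =
      polar Q ((s : V ≃ₗ[F] V) u) x • (s : V ≃ₗ[F] V) w - polar Q ((s : V ≃ₗ[F] V) w) x • (s : V ≃ₗ[F] V) u -
        (Q w * polar Q ((s : V ≃ₗ[F] V) u) x) • (s : V ≃ₗ[F] V) u := by
  obtain ⟨y, rfl⟩ := (s : V ≃ₗ[F] V).surjective x
  have h1 : ((sg hu (Multiplicative.ofAdd ⟨w, hw⟩) : ↥(E Q)) : V ≃ₗ[F] V) ((s : V ≃ₗ[F] V) y) =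
      (s : V ≃ₗ[F] V) (((sg hu (Multiplicative.ofAdd ⟨w, hw⟩) : ↥(E Q)) : V ≃ₗ[F] V) y) :=
    congrArg (fun g : ↥(E Q) => (g : V ≃ₗ[F] V) y) hc
  rw [sg_apply, sg_apply, map_sub, map_sub, map_add, map_smul, map_smul, map_smul] at h1
  rw [polar_map (E_le_O s.2), polar_map (E_le_O s.2)]
  have h2 : ∀ a b c d b' c' d' : V, a + b - c - d = a + b' - c' - d' → b - c - d = b' - c' - d' := by
    intro a b c d b' c' d' h
    have h3 : a + (b - c - d) = a + (b' - c' - d') := by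
      rw [← add_sub_assoc, ← add_sub_assoc, ← add_sub_assoc, ← add_sub_assoc]
      exact h
    exact add_left_cancel h3
  exact h2 _ _ _ _ _ _ _ h1

theorem exists_sep (hG : Good Q) {u u' : V} (hu0 : u ≠ 0) (hu' : u' ≠ 0) (h : ∀ c : F, u' ≠ c • u) :
    ∃ x, polar Q u x = 1 ∧ polar Q u' x = 0 := by
  by_contra hcon
  push Not at hcon
  obtain ⟨x₀, hx₀⟩ := hG.nondeg.exists_polar_eq hu' 1
  have h1 : ∀ x, polar Q u' x = 0 → polar Q u x = 0 := by
    intro x hx
    by_contra hne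
    refine hcon ((polar Q u x)⁻¹ • x) ?_ ?_
    · rw [polar_smul_right, smul_eq_mul, inv_mul_cancel₀ hne]
    · rw [polar_smul_right, hx, smul_zero]
  have h2 : u - polar Q u x₀ • u' = 0 := by
    apply hG.nondeg
    intro x
    have h3 := h1 (x - polar Q u' x • x₀) (by rw [polar_sub_right, polar_smul_right, hx₀, smul_eq_mul, mul_one, sub_self])
    rw [polar_sub_right, polar_smul_right, smul_eq_mul, sub_eq_zero] at h3
    rw [polar_sub_left, polar_smul_left, h3, smul_eq_mul, mul_comm, sub_self]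
  have h3 : polar Q u x₀ ≠ 0 := by
    intro h0
    rw [h0, zero_smul, sub_zero] at h2
    exact hu0 h2
  refine h (polar Q u x₀)⁻¹ ?_
  rw [sub_eq_zero] at h2
  nth_rewrite 2 [h2]
  rw [smul_smul, inv_mul_cancel₀ h3, one_smul]

/-- if `s u` is not a multiple of `u` -/
theorem mem_span_of_comm (hG : Good Q) {u : V} (hu : Q u = 0) (hu0 : u ≠ 0) {s : ↥(E Q)}
    (h : ∀ c : F, (s : V ≃ₗ[F] V) u ≠ c • u) {w : V} (hw : w ∈ pp Q u)
    (hc : sg hu (Multiplicative.ofAdd ⟨w, hw⟩) * s = s * sg hu (Multiplicative.ofAdd ⟨w, hw⟩)) :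
    w ∈ Submodule.span F {u, (s : V ≃ₗ[F] V) u} := by
  have hsu : (s : V ≃ₗ[F] V) u ≠ 0 := fun h0 => hu0 ((s : V ≃ₗ[F] V).map_eq_zero_iff.1 h0)
  obtain ⟨x, hx1, hx2⟩ := exists_sep hG hu0 hsu h
  have h1 := sg_comm hu hw hc x
  rw [hx1, hx2, one_smul, mul_one, mul_zero, zero_smul, zero_smul, sub_zero, zero_sub] at h1
  rw [Submodule.mem_span_pair]
  refine ⟨polar Q w x + Q w, -polar Q ((s : V ≃ₗ[F] V) w) x, ?_⟩
  rw [neg_smul, ← h1, add_smul]
  abel

/-- if `s u = c u` -/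
theorem sub_mem_of_comm (hG : Good Q) {u : V} (hu : Q u = 0) (hu0 : u ≠ 0) {s : ↥(E Q)} {c : F}
    (h : (s : V ≃ₗ[F] V) u = c • u) {w : V} (hw : w ∈ pp Q u)
    (hc : sg hu (Multiplicative.ofAdd ⟨w, hw⟩) * s = s * sg hu (Multiplicative.ofAdd ⟨w, hw⟩)) :
    ∃ d : F, c • (s : V ≃ₗ[F] V) w - w = d • u := by
  obtain ⟨x, hx⟩ := hG.nondeg.exists_polar_eq hu0 1
  have h1 := sg_comm hu hw hc x
  rw [h, polar_smul_left, hx, one_smul, mul_one, smul_eq_mul, mul_one] at h1
  refine ⟨polar Q ((s : V ≃ₗ[F] V) w) x * c + Q w * c * c - polar Q w x - Q w, ?_⟩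
  have h2 : c • (s : V ≃ₗ[F] V) w = (w - polar Q w x • u - Q w • u) + polar Q ((s : V ≃ₗ[F] V) w) x • c • u +
      (Q w * c) • c • u := by
    rw [h1]
    abel
  rw [h2, smul_smul, smul_smul, sub_smul, sub_smul, add_smul]
  abel

section fin

variable [Finite V]

/-- a `p`-subgroup fixes a nonzero singular vector -/
theorem exists_fix_sing {p : ℕ} [hp : Fact p.Prime] (hsing : p ∣ Nat.card {w : V // Q w = 0}) {X : Subgroup ↥(E Q)}
    (hX : IsPGroup p X) : ∃ u : V, u ≠ 0 ∧ Q u = 0 ∧ ∀ g ∈ X, (g : V ≃ₗ[F] V) u = u := by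
  classical
  let act : MulAction ↥X {w : V // Q w = 0} :=
    { smul := fun g w => ⟨(g : ↥(E Q)) |>.1 w, by rw [E_le_O (g : ↥(E Q)).2]; exact w.2⟩
      one_smul := fun w => Subtype.ext rfl
      mul_smul := fun g h w => Subtype.ext rfl }
  have h1 := hX.card_modEq_card_fixedPoints {w : V // Q w = 0}
  have h2 : p ∣ Nat.card (MulAction.fixedPoints ↥X {w : V // Q w = 0}) :=
    Nat.modEq_zero_iff_dvd.1 (h1.symm.trans (Nat.modEq_zero_iff_dvd.2 hsing))
  have h0 : (⟨0, QuadraticMap.map_zero Q⟩ : {w : V // Q w = 0}) ∈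
      MulAction.fixedPoints ↥X {w : V // Q w = 0} := fun g => Subtype.ext (map_zero ((g : ↥(E Q)) : V ≃ₗ[F] V))
  have h3 : 0 < Nat.card (MulAction.fixedPoints ↥X {w : V // Q w = 0}) :=
    Nat.card_pos_iff.2 ⟨⟨⟨_, h0⟩⟩, inferInstance⟩
  have h4 : 1 < Nat.card (MulAction.fixedPoints ↥X {w : V // Q w = 0}) :=
    lt_of_lt_of_le hp.out.one_lt (Nat.le_of_dvd h3 h2)
  have h5 : Nontrivial (MulAction.fixedPoints ↥X {w : V // Q w = 0}) := Finite.one_lt_card_iff_nontrivial.1 h4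
  obtain ⟨⟨⟨u, hu⟩, hfix⟩, hne⟩ := _root_.exists_ne (⟨_, h0⟩ : MulAction.fixedPoints ↥X {w : V // Q w = 0})
  refine ⟨u, fun h => hne (Subtype.ext (Subtype.ext h)), hu, fun g hg => ?_⟩
  exact congrArg Subtype.val (hfix ⟨g, hg⟩)

theorem finrank_R_two [Finite F] (hG : Good Q) {t : ℕ} [ht : Fact t.Prime] (ht2 : t ≠ 2) (htF : (t : F) ≠ 0)
    {s : ↥(E Q)} (hs : s ^ t = 1) (hs1 : s ≠ 1) : 2 ≤ finrank F (R (en Q s)) := by
  have h1 := finrank_R_ne_one hG ht2 htF hs
  have h2 : finrank F (R (en Q s)) ≠ 0 := by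
    intro h
    have hfd : FiniteDimensional F V := inferInstance
    rw [Submodule.finrank_eq_zero, R_eq_bot] at h
    exact hs1 (en_injective (h.trans (map_one _).symm))
  omega

/-- **The `p`-part of the centraliser of an element of odd prime order, not the characteristic.** -/
theorem pbound [Finite F] (hG : Good Q) {p f : ℕ} [hp : Fact p.Prime] (hF : Nat.card F = p ^ f) (hpF : (p : F) = 0)
    (hsing : p ∣ Nat.card {w : V // Q w = 0}) (hN : 6 ≤ finrank F V) {t : ℕ} [ht : Fact t.Prime] (ht2 : t ≠ 2)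
    (htF : (t : F) ≠ 0) {s : ↥(E Q)} (hs : s ^ t = 1) (hs1 : s ≠ 1) {X : Subgroup ↥(E Q)} (hX : IsPGroup p X)
    (hXs : ∀ g ∈ X, g * s = s * g) : v p X + 2 * f ≤ v p ↥(E Q) := by
  have hfd : FiniteDimensional F V := inferInstance
  obtain ⟨u, hu0, hu, hfix⟩ := exists_fix_sing hsing hX
  by_cases h : ∀ c : F, (s : V ≃ₗ[F] V) u ≠ c • u
  · have h1 := enlarge hG hF hpF hX hu hu0 hfix (C := Submodule.span F {u, (s : V ≃ₗ[F] V) u})
      fun w hw hwX => mem_span_of_comm hG hu hu0 h hw (hXs _ hwX)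
    have h2 : finrank F (Submodule.span F {u, (s : V ≃ₗ[F] V) u}) ≤ 2 := by
      classical
      have h3 := finrank_span_finset_le_card (R := F) ({u, (s : V ≃ₗ[F] V) u} : Finset V)
      rw [Finset.coe_pair] at h3
      exact h3.trans Finset.card_le_two
    have h3 : f * finrank F (Submodule.span F {u, (s : V ≃ₗ[F] V) u}) ≤ f * 2 := Nat.mul_le_mul_left _ h2
    have h4 : f * 6 ≤ f * finrank F V := Nat.mul_le_mul_left _ hN
    omega
  push Not at h
  obtain ⟨c, hc⟩ := h
  have hst : ((s : V ≃ₗ[F] V) ^ t) u = u := by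
    have h1 := congrArg Subtype.val hs
    rw [Subgroup.coe_pow] at h1
    rw [h1]
    rfl
  have hpow : ∀ n : ℕ, ((s : V ≃ₗ[F] V) ^ n) u = c ^ n • u := by
    intro n
    induction n with
    | zero => rw [pow_zero, pow_zero, one_smul]; rfl
    | succ n ih =>
      rw [pow_succ']
      change (s : V ≃ₗ[F] V) (((s : V ≃ₗ[F] V) ^ n) u) = _
      rw [ih, map_smul, hc, smul_smul, pow_succ]
  have hct : c ^ t = 1 := by
    have h1 : (c ^ t - 1) • u = 0 := by rw [sub_smul, ← hpow, hst, one_smul, sub_self]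
    exact sub_eq_zero.1 ((smul_eq_zero.1 h1).resolve_right hu0)
  by_cases hc1 : c = 1
  · -- `u ∈ K s`
    subst hc1
    rw [one_smul] at hc
    have huK : u ∈ K (en Q s) := mem_K.2 hc
    have hs' : en Q s ^ t = 1 := by rw [← map_pow, hs, map_one]
    have h1 := enlarge hG hF hpF hX hu hu0 hfix (C := K (en Q s) ⊓ pp Q u) fun w hw hwX => by
      refine ⟨?_, hw⟩
      obtain ⟨d, hd⟩ := sub_mem_of_comm hG hu hu0 (c := 1) (by rw [one_smul]; exact hc) hw (hXs _ hwX)
      rw [one_smul] at hd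
      have h2 : (s : V ≃ₗ[F] V) w - w = 0 := by
        refine eq_zero_of_mem hs' htF ?_ (sub_mem_R (en Q s) w)
        change (s : V ≃ₗ[F] V) ((s : V ≃ₗ[F] V) w - w) = (s : V ≃ₗ[F] V) w - w
        rw [hd, map_smul, hc]
      exact mem_K.2 (sub_eq_zero.1 h2)
    have h2 : finrank F ↥(K (en Q s) ⊓ pp Q u) < finrank F (K (en Q s)) := by
      apply Submodule.finrank_lt_finrank_of_lt
      refine lt_of_le_of_ne inf_le_left fun heq => hu0 ?_
      refine nondeg_K (isom_en s) (polar_nondeg hG) hs' htF huK fun k hk => ?_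
      rw [← heq] at hk
      rw [polarBilin_apply_apply, polar_comm]
      exact hk.2
    have h3 := finrank_add (en Q s)
    have h4 := finrank_R_two hG ht2 htF hs hs1
    have h5 : finrank F ↥(K (en Q s) ⊓ pp Q u) + 3 ≤ finrank F V := by omega
    have h6 : f * (finrank F ↥(K (en Q s) ⊓ pp Q u) + 3) ≤ f * finrank F V := Nat.mul_le_mul_left _ h5
    rw [mul_add] at h6
    omega
  · -- `s u = c u`, `c ≠ 1`
    have hc2 : c * c ≠ 1 := by
      intro h2
      apply hc1
      have hodd : Odd t := ht.out.odd_of_ne_two ht2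
      obtain ⟨k, hk⟩ := hodd
      rw [hk, pow_succ, pow_mul, pow_two, h2, one_pow, one_mul] at hct
      exact hct
    let C : Submodule F V :=
      { carrier := {w | w ∈ pp Q u ∧ ∃ d : F, c • (s : V ≃ₗ[F] V) w - w = d • u}
        add_mem' := by
          rintro a b ⟨ha, d, hd⟩ ⟨hb, e, he⟩
          refine ⟨(pp Q u).add_mem ha hb, d + e, ?_⟩
          rw [map_add, smul_add, add_smul, ← hd, ← he]
          abel
        zero_mem' := ⟨(pp Q u).zero_mem, 0, by rw [map_zero, smul_zero, sub_zero, zero_smul]⟩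
        smul_mem' := by
          rintro a w ⟨hw, d, hd⟩
          refine ⟨(pp Q u).smul_mem a hw, a * d, ?_⟩
          rw [map_smul, smul_comm, ← smul_sub, hd, smul_smul] }
    have hti : ∀ w ∈ C, ∀ w' ∈ C, polarBilin Q w w' = 0 := by
      rintro w ⟨hw, d, hd⟩ w' ⟨hw', d', hd'⟩
      rw [polarBilin_apply_apply]
      have h1 : c • (s : V ≃ₗ[F] V) w = w + d • u := by rw [← hd]; abel
      have h2 : c • (s : V ≃ₗ[F] V) w' = w' + d' • u := by rw [← hd']; abel
      have h3 : polar Q (c • (s : V ≃ₗ[F] V) w) (c • (s : V ≃ₗ[F] V) w') = c * c * polar Q w w' := by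
        rw [polar_smul_left, polar_smul_right, polar_map (E_le_O s.2), smul_eq_mul, smul_eq_mul, mul_assoc]
      have h4 : polar Q w u = 0 := by rw [polar_comm]; exact hw
      have h5 : polar Q u w' = 0 := hw'
      rw [h1, h2, polar_add_left, polar_add_right, polar_add_right, polar_smul_right, polar_smul_left,
        polar_smul_left, polar_smul_right, h4, h5, polar_self_of_sing hu] at h3
      simp only [smul_zero, add_zero] at h3
      have h6 : (c * c - 1) * polar Q w w' = 0 := by rw [sub_mul, one_mul, ← h3, sub_self]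
      exact (mul_eq_zero.1 h6).resolve_left (sub_ne_zero.2 hc2)
    have h1 := enlarge hG hF hpF hX hu hu0 hfix (C := C) fun w hw hwX =>
      ⟨hw, sub_mem_of_comm hG hu hu0 hc hw (hXs _ hwX)⟩
    have h2 : 2 * finrank F C ≤ finrank F (⊤ : Submodule F V) :=
      finrank_ti_le (Q := Q) (fun w _ hw => polar_nondeg hG w fun x => hw x Submodule.mem_top) le_top hti
    rw [finrank_top] at h2
    obtain ⟨N, hN'⟩ : ∃ N, N = finrank F V := ⟨_, rfl⟩
    rw [← hN'] at h1 h2 hN
    have h3 : finrank F C + 3 ≤ N := by omega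
    have h6 : f * (finrank F C + 3) ≤ f * N := Nat.mul_le_mul_left _ h3
    rw [mul_add] at h6
    omega

end fin

end Cfsg.Agent.H14.PD
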