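import Cfsg.Agent.H14.PD.Norm
import Cfsg.Agent.H311.PD.Trans
import Cfsg.Agent.H311.PD.Num
import Cfsg.Agent.H200.RowOrthG

/-!
# S4246, row of `POmega^+_{2n}(q)`: the elements of order `r₀` and `r₁` (helper14)

`Plus Q n p f` : a nondegenerate quadratic form of dimension `2 n ≥ 8` and plus type over the field with `p ^ f`
elements. `Odg n d` : `d` is the odd one of `n`, `n - 1`.
-/

set_option autoImplicit false
set_option linter.unusedSectionVars false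

namespace Cfsg.Agent.H14.PD

open QuadraticMap Module Cfsg.Agent.LieClassical.OrthCore Cfsg.Agent.LieClassical.OrthTrans
open Cfsg.Agent.ClassicalGeometry.OrthSemi Cfsg.Agent.ClassicalGeometry.OrthAut1
open Cfsg.Agent.H200.LinFix Cfsg.Agent.H200.RowOrth Cfsg.Agent.H568
open Cfsg.Agent.H160.PD (v v_mono v_eq_zero v_pos Fx mem_Fx NoOdd noOdd_of)

variable {F V : Type*} [Field F] [AddCommGroup V] [Module F V] {Q : QuadraticForm F V}

/-- the data of the plus type -/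
structure Plus (Q : QuadraticForm F V) (n p f : ℕ) : Prop where
  good : Good Q
  hn : 4 ≤ n
  hV : finrank F V = 2 * n
  hsing : Nat.card {v : V // Q v = 0} = (Nat.card F ^ n - 1) * (Nat.card F ^ (n - 1) + 1) + 1
  hpar : ∀ g : ↥(E Q), Even (finrank F (R (en Q g)))
  prime : p.Prime
  hf : 1 ≤ f
  hF : Nat.card F = p ^ f
  hpF : (p : F) = 0

/-- `d` is odd and `n` or `n - 1` -/
structure Odg (n d : ℕ) : Prop where
  odd : Odd d
  or : d = n ∨ d = n - 1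

variable {n p f d : ℕ}

theorem Plus.dvd_sing (H : Plus Q n p f) : p ∣ Nat.card {w : V // Q w = 0} := by
  have hq : p ∣ Nat.card F := H.hF ▸ dvd_pow_self p (by have := H.hf; omega)
  have hq1 : 1 ≤ Nat.card F := by rw [H.hF]; exact Nat.one_le_pow _ _ H.prime.pos
  have h1 : 1 ≤ Nat.card F ^ n := Nat.one_le_pow _ _ hq1
  have h2 : (Nat.card F ^ n - 1) * (Nat.card F ^ (n - 1) + 1) + 1 + Nat.card F ^ (n - 1) =
      Nat.card F ^ n * (Nat.card F ^ (n - 1) + 1) := by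
    obtain ⟨a, ha⟩ : ∃ a, Nat.card F ^ n = a + 1 := ⟨_, (Nat.sub_add_cancel h1).symm⟩
    rw [ha, Nat.add_sub_cancel]
    ring
  have hn := H.hn
  have h3 : p ∣ Nat.card F ^ (n - 1) := dvd_pow hq (by omega)
  rw [H.hsing]
  refine (Nat.dvd_add_left h3).1 ?_
  rw [h2]
  exact Dvd.dvd.mul_right (dvd_pow hq (by omega)) _

theorem Plus.cast_ne (H : Plus Q n p f) {l e : ℕ} (hl : l.Prime) (he : 1 ≤ e) (h : l ∣ Nat.card F ^ e - 1) : (l : F) ≠ 0 := by
  have := Fact.mk H.prime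
  have := Fact.mk hl
  have hc : CharP F p := (CharP.charP_iff_prime_eq_zero H.prime).2 H.hpF
  refine natCast_ne_of_not_dvd H.prime fun h1 => ?_
  have h2 : l = p := (Nat.prime_dvd_prime_iff_eq hl H.prime).1 h1
  subst h2
  rw [H.hF] at h
  exact Cfsg.Agent.H311.PD.not_dvd_pow_sub_one hl H.hf he h

section fin

variable [Finite V] [Finite F]

/-- an element of order `r₀`: `dim R y` -/
theorem Plus.dim_first (H : Plus Q n p f) {l : ℕ} [hl : Fact l.Prime] (hlF : (l : F) ≠ 0)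
    (hd : Ordd l (Nat.card F) (2 * (n - 1))) {y : ↥(E Q)} (hy : y ^ l = 1) (hy1 : y ≠ 1) :
    finrank F (R (en Q y)) = 2 * (n - 1) ∧ finrank F (K (en Q y)) = 2 := by
  have hfd : FiniteDimensional F V := inferInstance
  have hn := H.hn
  have h1 := finrank_R_eq hd hlF (by rw [H.hV]; omega) hy hy1
  have h2 := finrank_add (en Q y)
  rw [h1, H.hV] at h2
  exact ⟨h1, by omega⟩

theorem Plus.irr_first (H : Plus Q n p f) {l : ℕ} [hl : Fact l.Prime] (hlF : (l : F) ≠ 0)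
    (hd : Ordd l (Nat.card F) (2 * (n - 1))) {y : ↥(E Q)} (hy : y ^ l = 1) : Irr (en Q y) (R (en Q y)) := by
  have hn := H.hn
  exact irr_R hd hlF (by rw [H.hV]; omega) hy

theorem Plus.dim_second (H : Plus Q n p f) (hO : Odg n d) {l : ℕ} [hl : Fact l.Prime] (hl2 : l ≠ 2) (hlF : (l : F) ≠ 0)
    (hd : Ordd l (Nat.card F) d) {y : ↥(E Q)} (hy : y ^ l = 1) (hy1 : y ≠ 1) :
    finrank F (R (en Q y)) = 2 * d ∧ finrank F (K (en Q y)) ≤ 2 := by
  have hfd : FiniteDimensional F V := inferInstance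
  have hn := H.hn
  have ho := hO.or
  have h1 := finrank_R_odd H.good hl2 hlF hd hO.odd (by rw [H.hV]; omega) hy hy1
  have h2 := finrank_add (en Q y)
  rw [h1, H.hV] at h2
  exact ⟨h1, by omega⟩

/-- elements of `p`-power order commuting with an element of order `r₀` -/
theorem Plus.comm_first (H : Plus Q n p f) {l : ℕ} [hl : Fact l.Prime] (hlF : (l : F) ≠ 0)
    (hd : Ordd l (Nat.card F) (2 * (n - 1))) {y : ↥(E Q)} (hy : y ^ l = 1) (hy1 : y ≠ 1) {s : ↥(E Q)} {k : ℕ}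
    (hs : s ^ p ^ k = 1) (hsy : s * y = y * s) : s = 1 := by
  have := Fact.mk H.prime
  exact eq_one_of_triv H.hpar hlF hy (H.dim_first hlF hd hy hy1).2.le H.hpF hs hsy
    (triv_irr (H.irr_first hlF hd hy) H.hpF hs hsy)

/-- elements of `p`-power order commuting with an element of order `r₁` -/
theorem Plus.comm_second (H : Plus Q n p f) (hO : Odg n d) {l : ℕ} [hl : Fact l.Prime] (hl2 : l ≠ 2) (hlF : (l : F) ≠ 0)
    (hd : Ordd l (Nat.card F) d) (hld : l ∣ Nat.card F ^ d - 1) {y : ↥(E Q)} (hy : y ^ l = 1) (hy1 : y ≠ 1)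
    {s : ↥(E Q)} {k : ℕ} (hs : s ^ p ^ k = 1) (hsy : s * y = y * s) : s = 1 := by
  have := Fact.mk H.prime
  obtain ⟨h1, h2⟩ := H.dim_second hO hl2 hlF hd hy hy1
  obtain ⟨U, U', hU⟩ := exists_split H.good hl2 hlF hy hd hld hO.odd h1
  exact eq_one_of_triv H.hpar hlF hy h2 H.hpF hs hsy (triv_split H.good hl2 hlF hy hd hO.odd hU H.hpF hs hsy)

theorem Plus.exists_lift (H : Plus Q n p f) {l : ℕ} (hl : l.Prime) (hl2 : l ≠ 2) {x : P Q} (hx : orderOf x = l) :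
    ∃ y : ↥(E Q), y ^ l = 1 ∧ y ≠ 1 ∧ (QuotientGroup.mk y : P Q) = x := by
  obtain ⟨y, hy, rfl⟩ := lift_pow H.good x (hl.odd_of_ne_two hl2) (by rw [← hx, pow_orderOf_eq_one])
  refine ⟨y, hy, ?_, rfl⟩
  rintro rfl
  rw [QuotientGroup.mk_one, orderOf_one] at hx
  exact hl.one_lt.ne hx

theorem Plus.cent_first (H : Plus Q n p f) {l : ℕ} (hl : l.Prime) (hl2 : l ≠ 2) (hlF : (l : F) ≠ 0)
    (hd : Ordd l (Nat.card F) (2 * (n - 1))) {x : P Q} (hx : orderOf x = l) :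
    v p (Subgroup.centralizer ({x} : Set (P Q))) = 0 := by
  have := Fact.mk hl
  have := Fact.mk H.prime
  obtain ⟨y, hy, hy1, rfl⟩ := H.exists_lift hl hl2 hx
  exact v_centralizer_zero H.good hl2 hy H.hpF fun s hs hsy =>
    H.comm_first hlF hd hy hy1 (k := 1) (by rwa [pow_one]) hsy

theorem Plus.cent_second (H : Plus Q n p f) (hO : Odg n d) {l : ℕ} (hl : l.Prime) (hl2 : l ≠ 2) (hlF : (l : F) ≠ 0)
    (hd : Ordd l (Nat.card F) d) (hld : l ∣ Nat.card F ^ d - 1) {x : P Q} (hx : orderOf x = l) :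
    v p (Subgroup.centralizer ({x} : Set (P Q))) = 0 := by
  have := Fact.mk hl
  have := Fact.mk H.prime
  obtain ⟨y, hy, hy1, rfl⟩ := H.exists_lift hl hl2 hx
  exact v_centralizer_zero H.good hl2 hy H.hpF fun s hs hsy =>
    H.comm_second hO hl2 hlF hd hld hy hy1 (k := 1) (by rwa [pow_one]) hsy

/-- **`NoOdd`** -/
theorem Plus.noOdd (H : Plus Q n p f) (hO : Odg n d) {l₀ l₁ : ℕ} (h₀ : l₀.Prime) (h₀2 : l₀ ≠ 2) (h₀F : (l₀ : F) ≠ 0)
    (hd₀ : Ordd l₀ (Nat.card F) (2 * (n - 1))) (hld₀ : l₀ ∣ Nat.card F ^ (n - 1) + 1) (hle₀ : finrank F V < 2 * l₀)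
    (h₁ : l₁.Prime) (h₁2 : l₁ ≠ 2) (h₁F : (l₁ : F) ≠ 0)
    (hd₁ : Ordd l₁ (Nat.card F) d) (hld₁ : l₁ ∣ Nat.card F ^ d - 1) (hle₁ : finrank F V < 2 * l₁) :
    NoOdd (P Q) l₀ l₁ := by
  have := Fact.mk h₀
  have := Fact.mk h₁
  have hn := H.hn
  have ho := hO.or
  have hne : l₀ ≠ l₁ := by
    rintro rfl
    exact arith_plus h₀2 (by omega) Nat.card_pos hO.odd hO.or hld₀ hld₁
  refine noOdd_of_comm H.good h₀2 h₁2 hne h₀F h₁F hle₀ hle₁ fun y z hy hy1 hz hz1 hzy => ?_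
  rcases plus_first H.good h₁2 h₁F hn H.hV h₀2 h₀F hd₀ hy hy1 hz hz1 hzy with ⟨-, h1⟩ | ⟨-, h1⟩
  · have h2 := (H.dim_second hO h₁2 h₁F hd₁ hz hz1).1
    omega
  · exact arith_plus h₁2 (by omega) Nat.card_pos hO.odd hO.or h1 hld₁

/-- **`Inc`** for inner automorphisms -/
theorem Plus.inc_inner (H : Plus Q n p f) (hO : Odg n d) {l₀ l₁ : ℕ} [h₀ : Fact l₀.Prime] (h₀2 : l₀ ≠ 2)
    (h₀F : (l₀ : F) ≠ 0)
    (hd₀ : Ordd l₀ (Nat.card F) (2 * (n - 1))) (hld₀ : l₀ ∣ Nat.card F ^ (n - 1) + 1)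
    [h₁ : Fact l₁.Prime] (h₁2 : l₁ ≠ 2) (h₁F : (l₁ : F) ≠ 0)
    (hd₁ : Ordd l₁ (Nat.card F) d) (hld₁ : l₁ ∣ Nat.card F ^ d - 1) {y z s : ↥(E Q)} (hy : y ^ l₀ = 1) (hy1 : y ≠ 1)
    (hz : z ^ l₁ = 1) (hz1 : z ≠ 1) {t : ℕ} (ht : t.Prime) (ht2 : t ≠ 2) (hs : s ^ t = 1) (hs1 : s ≠ 1)
    (hsy : s * y = y * s) (hsz : s * z = z * s) : False := by
  have htF := Fact.mk ht
  have hn := H.hn
  have ho := hO.or
  by_cases htc : (t : F) = 0
  · have := Fact.mk H.prime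
    have hc : CharP F p := (CharP.charP_iff_prime_eq_zero H.prime).2 H.hpF
    have htp : t = p := by
      rw [CharP.cast_eq_zero_iff F p] at htc
      exact ((Nat.prime_dvd_prime_iff_eq H.prime ht).1 htc).symm
    subst htp
    exact hs1 (H.comm_first h₀F hd₀ hy hy1 (k := 1) (by rwa [pow_one]) hsy)
  rcases plus_first H.good ht2 htc hn H.hV h₀2 h₀F hd₀ hy hy1 hs hs1 hsy with ⟨e1, e2⟩ | ⟨e1, e2⟩ <;>
  rcases plus_second H.good ht2 htc hn H.hV hO.odd hO.or h₁2 h₁F hd₁ hld₁ hz hz1 hs hs1 hsz with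
    ⟨g1, g2, g3⟩ | ⟨g1, g2⟩
  · subst g3
    obtain ⟨w, hw, hw0, hQw⟩ := sing_K (by omega) H.hsing h₁2 hd₁ hld₁ hz
    rw [← g1, e1] at hw
    exact hw0 (no_sing_K H.good (by omega) H.hV H.hsing h₀2 h₀F hd₀ hld₀ hy hy1 hw hQw)
  · have h3 : 3 ≤ d := by omega
    omega
  · omega
  · exact arith_plus ht2 (by omega) Nat.card_pos hO.odd hO.or e2 g2

end fin

end Cfsg.Agent.H14.PD
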