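import Cfsg.Agent.H14.PD.Inst
import Cfsg.Agent.H14.PD.FourRow
import Cfsg.Agent.H14.PD.Trial
import Cfsg.Agent.H898.PDThree
import Cfsg.Agent.H311.PD.Four

/-!
# S4246, row of `POmega^+_{2n}(q)` (helper14, with helper311 and helper898)
-/

set_option autoImplicit false
set_option linter.unusedSectionVars false

namespace Cfsg.Agent.H14.PD

open QuadraticMap Module Cfsg Cfsg.Agent.LieClassical.OrthCore Cfsg.Agent.LieClassical.OrthTrans
open Cfsg.Agent.ClassicalGeometry.OrthSemi Cfsg.Agent.ClassicalGeometry.OrthAut1 Cfsg.Agent.AutOrth.Main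
open Cfsg.Agent.H200.LinFix Cfsg.Agent.H568 Cfsg.Agent.LieClassical.QuadForms Cfsg.Agent.H208.Dict
open Cfsg.Agent.H200.RowOrth hiding row_oplus
open Cfsg.Agent.H160.PD (v v_mono v_eq_zero v_pos Fx mem_Fx out Row)

section

variable {F V : Type*} [Field F] [AddCommGroup V] [Module F V] {Q : QuadraticForm F V} [Finite V] [Finite F] {p f : ℕ}

theorem PlusC.triHyp (H : PlusC Q 4 p f) : TriHyp Q H.good p f where
  h9 := fun _ hb => H.toPlus.v_Fx_triality hb
  norm := fun l h4 T X hT hTv hX hTX => by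
    have hl := Fact.mk h4.prime
    refine Cfsg.Agent.H311.PD.no_norm_four H.toPlus h4.prime h4.ne h4.ord h4.dvd ?_ hT hTv hX hTX
    rw [← v_P H.good (Or.inl h4.ne), H.v_four h4]
  three := fun hp3 l h4 y hy hy1 =>
    Cfsg.Agent.H898.PDThree.v_three_cent H.toPlus hp3 h4.prime h4.ne h4.ord h4.dvd hy hy1

end

universe u

variable {K : Type u} [Group K] [Finite K] [IsSimpleGroup K]

/-- **Row of `POmega^+_{2n}(q)`.** -/
theorem row_oplus (h : IsPOmegaPlus K) : Row K := by
  obtain ⟨F, _, _, m, hm, ⟨e⟩⟩ := h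
  have hs : IsSimpleGroup (POmega F (quadFormPlus m F)) := (e.isSimpleGroup_congr).1 inferInstance
  refine Cfsg.Agent.H160.PD.Row.congr e ?_
  rw [← coe_plusForm] at hs ⊢
  have hG : Good (plusForm m F) := good_plus (by omega)
  have hsP := isSimple_P hG hs
  refine Cfsg.Agent.H160.PD.Row.congr (pe hG) ?_
  have hfinE : Finite ↥(E (plusForm m F)) := finite_E
  have hfinP : Finite (P (plusForm m F)) := inferInstance
  have hZ : Subgroup.center (P (plusForm m F)) = ⊥ := Cfsg.Agent.H160.PD.center_eq_bot (not_comm_P hG)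
  obtain ⟨p, hp⟩ := CharP.exists F
  obtain ⟨⟨f, hf⟩, hprime, hcard⟩ := FiniteField.card F p
  have H : PlusC (plusForm m F) m p f := plusC hm hprime hf hcard (CharP.cast_eq_zero F p)
  rcases Nat.lt_or_ge 4 m with hm5 | hm4
  · have hall := all_plus (F := F) (m := m) (by omega)
    rw [← coe_plusForm] at hall
    exact H.row hZ (by omega) (exists_gam' hG hall)
  obtain rfl : m = 4 := le_antisymm hm4 hm
  obtain ⟨Γ, hΓ, hind⟩ := Cfsg.Agent.ClassicalGeometry.TrialityFinal.exists_index_three hG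
    fun α x hx hx0 => by
      rcases Cfsg.Agent.ClassicalGeometry.OrthAut3.dichotomy hG (by simp) α hx hx0 with h | h
      · exact Or.inl h
      · exact Or.inr h.2
  refine H.row_four hZ H.triHyp hΓ hind fun b hb => exists_gam_one hG ?_
  rw [ind_iff_pt hG (by simp)]
  have h1 : tr hG ((trE hG).symm b) = b := by rw [← trE_apply, MulEquiv.apply_symm_apply]
  rw [h1]
  exact (hΓ b).1 hb

end Cfsg.Agent.H14.PD
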