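import Cfsg.Agent.H200.RowOrthJ
import Cfsg.Agent.H160.PD.Tools

/-!
# S4246, rows of the orthogonal groups: the groups of Siegel transformations (helper14)

`AA hu = {siegel u w | w ∈ u^⊥}` for a singular vector `u`; a `p`-subgroup `X` (`p` the characteristic) of `E Q` fixing
`u` is enlarged by `AA hu`: `enlarge`.
-/

set_option autoImplicit false
set_option linter.unusedSectionVars false

namespace Cfsg.Agent.H14.PD

open QuadraticMap Module Cfsg.Agent.LieClassical.OrthCore Cfsg.Agent.LieClassical.OrthTrans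
open Cfsg.Agent.H200.LinFix Cfsg.Agent.H200.RowOrth
open Cfsg.Agent.H160.PD (v v_mono v_eq_zero v_pos)

/-! ### orders -/

section grp

variable {G H : Type*} [Group G] [Group H]

theorem card_map_mul_ker (f : G →* H) {K : Subgroup G} (h : f.ker ≤ K) :
    Nat.card (K.map f) * Nat.card f.ker = Nat.card K := by
  rw [← Subgroup.relIndex_ker, ← Subgroup.relIndex_bot_left f.ker, ← Subgroup.relIndex_bot_left K, mul_comm]
  exact Subgroup.relIndex_mul_relIndex ⊥ f.ker K bot_le h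

theorem card_inf_range_mul_ker (f : G →* H) (K : Subgroup H) :
    Nat.card ↥(K ⊓ f.range) * Nat.card f.ker = Nat.card (K.comap f) := by
  have h1 : (K.comap f).map f = K ⊓ f.range := by rw [Subgroup.map_comap_eq, inf_comm]
  rw [← h1]
  exact card_map_mul_ker f (fun x hx => by
    rw [Subgroup.mem_comap, (MonoidHom.mem_ker).1 hx]
    exact one_mem _)

theorem card_mul_card_le [Finite G] {A B S : Subgroup G} (hA : A ≤ S) (hB : B ≤ S) :
    Nat.card A * Nat.card B ≤ Nat.card S * Nat.card ↥(A ⊓ B) := by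
  rw [inf_comm]
  have h1 : Nat.card ↥(B ⊓ A) * B.relIndex A = Nat.card A := by
    rw [← Subgroup.inf_relIndex_right]
    have := Subgroup.card_mul_index ((B ⊓ A).subgroupOf A)
    rwa [show Nat.card ↥((B ⊓ A).subgroupOf A) = Nat.card ↥(B ⊓ A) from
      Nat.card_congr (Subgroup.subgroupOfEquivOfLe inf_le_right).toEquiv] at this
  have h2 : Nat.card B * B.relIndex S = Nat.card S := by
    have := Subgroup.card_mul_index (B.subgroupOf S)
    rwa [show Nat.card ↥(B.subgroupOf S) = Nat.card B from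
      Nat.card_congr (Subgroup.subgroupOfEquivOfLe hB).toEquiv] at this
  have h3 : B.relIndex A ≤ B.relIndex S :=
    Subgroup.relIndex_le_of_le_right hA (B.subgroupOf S).index_ne_zero_of_finite
  calc Nat.card A * Nat.card B = Nat.card ↥(B ⊓ A) * B.relIndex A * Nat.card B := by rw [h1]
    _ ≤ Nat.card ↥(B ⊓ A) * B.relIndex S * Nat.card B := by gcongr
    _ = Nat.card S * Nat.card ↥(B ⊓ A) := by rw [← h2]; ring

/-- the order of a `p`-subgroup -/
theorem card_pgroup [Finite G] {p : ℕ} [hp : Fact p.Prime] {X : Subgroup G} (hX : IsPGroup p X) :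
    Nat.card X = p ^ v p X := by
  obtain ⟨k, hk⟩ := IsPGroup.iff_card.1 hX
  rw [v, hk, hp.out.factorization_pow, Finsupp.single_eq_same]

theorem v_le_group [Finite G] (X : Subgroup G) (p : ℕ) : v p X ≤ v p G :=
  (Nat.factorization_le_iff_dvd Nat.card_pos.ne' Nat.card_pos.ne').2 (Subgroup.card_subgroup_dvd_card X) p

end grp

variable {F V : Type*} [Field F] [AddCommGroup V] [Module F V] {Q : QuadraticForm F V}

/-! ### the Siegel group -/

/-- `u^⊥` -/
def pp (Q : QuadraticForm F V) (u : V) : Submodule F V := LinearMap.ker (polarBilin Q u)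

theorem mem_pp {u w : V} : w ∈ pp Q u ↔ polar Q u w = 0 := Iff.rfl

theorem self_mem_pp {u : V} (hu : Q u = 0) : u ∈ pp Q u := polar_self_of_sing hu

theorem finrank_pp [FiniteDimensional F V] (hG : Good Q) {u : V} (hu : u ≠ 0) :
    finrank F (pp Q u) + 1 = finrank F V := by
  have h1 := LinearMap.finrank_range_add_finrank_ker (polarBilin Q u)
  have h2 : LinearMap.range (polarBilin Q u) = ⊤ := by
    rw [LinearMap.range_eq_top]
    intro c
    obtain ⟨y, hy⟩ := hG.nondeg.exists_polar_eq hu c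
    exact ⟨y, hy⟩
  rw [h2, finrank_top, finrank_self, add_comm] at h1
  exact h1

/-- the homomorphism `w ↦ siegel u w` -/
noncomputable def sg {u : V} (hu : Q u = 0) : Multiplicative ↥(pp Q u) →* ↥(E Q) where
  toFun w := ⟨siegel Q u (w.toAdd : V) hu w.toAdd.2, siegel_mem_E hu w.toAdd.2⟩
  map_one' := by
    apply Subtype.ext
    ext x
    have h0 : polar Q u (0 : V) = 0 := polar_zero_right Q u
    change siegel Q u (0 : V) hu h0 x = x
    rw [siegel_apply, QuadraticMap.map_zero, polar_zero_left, smul_zero, zero_smul, zero_mul, zero_smul]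
    simp
  map_mul' w w' := by
    apply Subtype.ext
    exact (siegel_mul (w := (w.toAdd : V)) (w' := (w'.toAdd : V)) hu w.toAdd.2 w'.toAdd.2
      ((pp Q u).add_mem w.toAdd.2 w'.toAdd.2)).symm

theorem sg_coe {u w : V} (hu : Q u = 0) (hw : w ∈ pp Q u) :
    ((sg hu (Multiplicative.ofAdd ⟨w, hw⟩) : ↥(E Q)) : V ≃ₗ[F] V) = siegel Q u w hu hw := rfl

theorem sg_apply {u w : V} (hu : Q u = 0) (hw : w ∈ pp Q u) (x : V) :
    ((sg hu (Multiplicative.ofAdd ⟨w, hw⟩) : ↥(E Q)) : V ≃ₗ[F] V) x =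
      x + polar Q u x • w - polar Q w x • u - (Q w * polar Q u x) • u := siegel_apply hu hw x

theorem sg_eq_one_iff (hG : Good Q) {u w : V} (hu : Q u = 0) (hu0 : u ≠ 0) (hw : w ∈ pp Q u) :
    sg hu (Multiplicative.ofAdd ⟨w, hw⟩) = 1 ↔ ∃ c : F, w = c • u := by
  constructor
  · intro h
    obtain ⟨y, hy⟩ := hG.nondeg.exists_polar_eq hu0 1
    have h1 := sg_apply hu hw y
    rw [h, hy, one_smul, mul_one] at h1
    change y = _ at h1
    refine ⟨polar Q w y + Q w, ?_⟩
    have h2 : y = y + (w - (polar Q w y + Q w) • u) := by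
      nth_rewrite 1 [h1]
      rw [add_smul]
      abel
    have h3 : w - (polar Q w y + Q w) • u = 0 := by
      exact left_eq_add.1 h2
    exact sub_eq_zero.1 h3
  · rintro ⟨c, rfl⟩
    apply Subtype.ext
    ext x
    rw [sg_apply, QuadraticMap.map_smul, hu, smul_zero, zero_mul, zero_smul, sub_zero, polar_smul_left, smul_smul,
      smul_eq_mul, mul_comm (polar Q u x) c, add_sub_cancel_right]
    rfl

theorem card_ker_sg (hG : Good Q) {u : V} (hu : Q u = 0) (hu0 : u ≠ 0) : Nat.card (sg hu).ker = Nat.card F := by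
  refine (Nat.card_congr (Equiv.ofBijective (fun c : F => (⟨Multiplicative.ofAdd ⟨c • u, ?_⟩, ?_⟩ : (sg hu).ker))
    ⟨?_, ?_⟩)).symm
  · exact (pp Q u).smul_mem c (self_mem_pp hu)
  · rw [MonoidHom.mem_ker]
    exact (sg_eq_one_iff hG hu hu0 _).2 ⟨c, rfl⟩
  · intro c d h
    have h1 : c • u = d • u := congrArg (fun z : (sg hu).ker => ((z : Multiplicative ↥(pp Q u)).toAdd : V)) h
    have h2 : (c - d) • u = 0 := by rw [sub_smul, h1, sub_self]
    exact sub_eq_zero.1 ((smul_eq_zero.1 h2).resolve_right hu0)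
  · rintro ⟨w, hw⟩
    rw [MonoidHom.mem_ker] at hw
    obtain ⟨c, hc⟩ := (sg_eq_one_iff hG hu hu0 w.toAdd.2).1 hw
    exact ⟨c, Subtype.ext (congrArg Multiplicative.ofAdd (Subtype.ext hc.symm))⟩

/-- the group of the Siegel transformations at `u` -/
noncomputable def AA {u : V} (hu : Q u = 0) : Subgroup ↥(E Q) := (sg hu).range

section fin

variable [Finite V]

theorem card_AA (hG : Good Q) {u : V} (hu : Q u = 0) (hu0 : u ≠ 0) :
    Nat.card (AA hu) * Nat.card F ^ 2 = Nat.card F ^ finrank F V := by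
  have hfd : FiniteDimensional F V := inferInstance
  have h1 := card_map_mul_ker (sg hu) (K := ⊤) le_top
  rw [← MonoidHom.range_eq_map, card_ker_sg hG hu hu0, Subgroup.card_top] at h1
  have h2 : Nat.card (Multiplicative ↥(pp Q u)) = Nat.card F ^ finrank F (pp Q u) := by
    rw [← Module.natCard_eq_pow_finrank (K := F)]
    exact Nat.card_congr Multiplicative.toAdd
  rw [h2] at h1
  rw [pow_two, ← mul_assoc]
  change Nat.card (sg hu).range * Nat.card F * Nat.card F = _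
  rw [h1, ← pow_succ, finrank_pp hG hu0]

/-- the intersection with the Siegel group -/
theorem card_inf_AA (hG : Good Q) {u : V} (hu : Q u = 0) (hu0 : u ≠ 0) {X : Subgroup ↥(E Q)} {C : Submodule F V}
    (hC : ∀ (w : V) (hw : w ∈ pp Q u), sg hu (Multiplicative.ofAdd ⟨w, hw⟩) ∈ X → w ∈ C) :
    Nat.card ↥(X ⊓ AA hu) * Nat.card F ≤ Nat.card F ^ finrank F C := by
  have h1 := card_inf_range_mul_ker (sg hu) X
  rw [card_ker_sg hG hu hu0] at h1
  change Nat.card ↥(X ⊓ AA hu) * Nat.card F = _ at h1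
  rw [h1, ← Module.natCard_eq_pow_finrank (K := F)]
  refine Nat.card_le_card_of_injective
    (fun z : X.comap (sg hu) => (⟨((z : Multiplicative ↥(pp Q u)).toAdd : V), ?_⟩ : C)) ?_
  · exact hC _ _ z.2
  · intro z z' h
    exact Subtype.ext (congrArg Multiplicative.ofAdd (Subtype.ext (congrArg (fun t : C => (t : V)) h)))

theorem isPGroup_AA {p : ℕ} [Fact p.Prime] (hpF : (p : F) = 0) {u : V} (hu : Q u = 0) : IsPGroup p (AA hu) := by
  rintro ⟨_, w, rfl⟩
  refine ⟨1, Subtype.ext ?_⟩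
  change (sg hu w) ^ p ^ 1 = 1
  rw [pow_one, ← map_pow]
  have h1 : w ^ p = 1 := by
    apply Multiplicative.toAdd.injective
    change p • w.toAdd = 0
    rw [← Nat.cast_smul_eq_nsmul F, hpF, zero_smul]
  rw [h1, map_one]

theorem conj_sg {u w : V} (hu : Q u = 0) (hw : w ∈ pp Q u) {g : ↥(E Q)} (hg : (g : V ≃ₗ[F] V) u = u)
    (hgw : (g : V ≃ₗ[F] V) w ∈ pp Q u) :
    g * sg hu (Multiplicative.ofAdd ⟨w, hw⟩) * g⁻¹ = sg hu (Multiplicative.ofAdd ⟨(g : V ≃ₗ[F] V) w, hgw⟩) := by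
  apply Subtype.ext
  have h1 := siegel_conj (E_le_O g.2) hu hw (by rw [hg]; exact hu) (by rw [hg]; exact hgw)
  change (g : V ≃ₗ[F] V) * siegel Q u w hu hw * (g : V ≃ₗ[F] V)⁻¹ = siegel Q u ((g : V ≃ₗ[F] V) w) hu hgw
  rw [h1]
  congr 1

theorem map_pp {u w : V} {g : ↥(E Q)} (hg : (g : V ≃ₗ[F] V) u = u) (hw : w ∈ pp Q u) : (g : V ≃ₗ[F] V) w ∈ pp Q u := by
  rw [mem_pp] at hw ⊢
  rw [← hg, polar_map (E_le_O g.2), hw]

theorem le_normalizer_AA {u : V} (hu : Q u = 0) {X : Subgroup ↥(E Q)} (hX : ∀ g ∈ X, (g : V ≃ₗ[F] V) u = u) :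
    X ≤ Subgroup.normalizer ((AA hu : Subgroup ↥(E Q)) : Set ↥(E Q)) := by
  have key : ∀ g ∈ X, ∀ a ∈ AA hu, g * a * g⁻¹ ∈ AA hu := by
    rintro g hg _ ⟨w, rfl⟩
    exact ⟨_, (conj_sg hu w.toAdd.2 (hX g hg) (map_pp (hX g hg) w.toAdd.2)).symm⟩
  intro g hg
  rw [Subgroup.mem_normalizer_iff]
  intro a
  refine ⟨fun ha => key g hg a ha, fun ha => ?_⟩
  have h1 := key g⁻¹ (X.inv_mem hg) _ ha
  have h2 : g⁻¹ * (g * a * g⁻¹) * g⁻¹⁻¹ = a := by group
  rwa [h2] at h1

/-- **Enlargement of a `p`-subgroup fixing a singular vector.** -/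
theorem enlarge (hG : Good Q) {p f : ℕ} [hp : Fact p.Prime] (hF : Nat.card F = p ^ f) (hpF : (p : F) = 0)
    {X : Subgroup ↥(E Q)} (hX : IsPGroup p X) {u : V} (hu : Q u = 0) (hu0 : u ≠ 0)
    (hfix : ∀ g ∈ X, (g : V ≃ₗ[F] V) u = u) {C : Submodule F V}
    (hC : ∀ (w : V) (hw : w ∈ pp Q u), sg hu (Multiplicative.ofAdd ⟨w, hw⟩) ∈ X → w ∈ C) :
    v p X + f * finrank F V ≤ v p ↥(E Q) + f * finrank F C + f := by
  have hfin : Finite ↥(E Q) := finite_E
  have hS : IsPGroup p ↥(X ⊔ AA hu) := hX.to_sup_of_normal_right' (isPGroup_AA hpF hu) (le_normalizer_AA hu hfix)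
  have h1 := card_mul_card_le (le_sup_left : X ≤ X ⊔ AA hu) (le_sup_right : AA hu ≤ X ⊔ AA hu)
  rw [card_pgroup hX, card_pgroup hS] at h1
  have h2 := card_AA hG hu hu0
  have h3 := card_inf_AA hG hu hu0 hC
  have h4 : v p ↥(X ⊔ AA hu) ≤ v p ↥(E Q) := v_le_group _ _
  have hq : 0 < Nat.card F := by rw [hF]; exact pow_pos hp.out.pos _
  have h5 : p ^ (v p X + f * finrank F V) ≤ p ^ (v p ↥(E Q) + f * finrank F C + f) := by
    calc p ^ (v p X + f * finrank F V) = p ^ v p X * (Nat.card (AA hu) * Nat.card F ^ 2) := by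
          rw [h2, hF, ← pow_mul, ← pow_add]
      _ = (p ^ v p X * Nat.card (AA hu)) * Nat.card F ^ 2 := by ring
      _ ≤ (p ^ v p ↥(X ⊔ AA hu) * Nat.card ↥(X ⊓ AA hu)) * Nat.card F ^ 2 := Nat.mul_le_mul_right _ h1
      _ = p ^ v p ↥(X ⊔ AA hu) * (Nat.card ↥(X ⊓ AA hu) * Nat.card F) * Nat.card F := by ring
      _ ≤ p ^ v p ↥(E Q) * (Nat.card F ^ finrank F C) * Nat.card F := by
          gcongr
          exact hp.out.one_le
      _ = p ^ (v p ↥(E Q) + f * finrank F C + f) := by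
          rw [hF, ← pow_mul, ← pow_add, ← pow_add]
  exact (Nat.pow_le_pow_iff_right hp.out.one_lt).1 h5

end fin

end Cfsg.Agent.H14.PD
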