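import Cfsg.Agent.H14.PD.PBound
import Cfsg.Agent.GpLn.Rank

/-!
# S4246, rows of the orthogonal groups: elements of prime order (helper14)

* `triv_of_irr` : a `p`-element (`p` the characteristic) commuting with an irreducible element is trivial;
* `exists_split` : `y` of prime order `l`, `q` of odd order `d` modulo `l`, `dim R y = 2 d`: the invariant subspaces of
  `R y` are `0, U, U', R y` with `U, U'` totally isotropic of dimension `d`.
-/

set_option autoImplicit false
set_option linter.unusedSectionVars false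

namespace Cfsg.Agent.H14.PD

open QuadraticMap Module Cfsg.Agent.LieClassical.OrthCore Cfsg.Agent.LieClassical.OrthTrans
open Cfsg.Agent.H200.LinFix Cfsg.Agent.H200.RowOrth
open Cfsg.Agent.H160.PD (v v_mono v_eq_zero v_pos)

variable {F V : Type*} [Field F] [AddCommGroup V] [Module F V] {Q : QuadraticForm F V}

theorem dvd_card_F [Finite F] {p : ℕ} [hp : Fact p.Prime] (hpF : (p : F) = 0) : p ∣ Nat.card F := by
  have h5 : addOrderOf (1 : F) = p := by
    apply addOrderOf_eq_prime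
    · rw [nsmul_one]; exact hpF
    · exact one_ne_zero
  rw [← h5]
  exact addOrderOf_dvd_natCard 1

section fin

variable [Finite V]

theorem triv_of_irr [Finite F] {y s : Module.End F V} {W : Submodule F V} (hyW : ∀ w ∈ W, y w ∈ W) (hirr : Irr y W)
    (hsW : ∀ w ∈ W, s w ∈ W) (hc : ∀ w ∈ W, s (y w) = y (s w)) {p k : ℕ} [hp : Fact p.Prime] (hpF : (p : F) = 0)
    (hs : ∀ w ∈ W, (s ^ p ^ k) w = w) : ∀ w ∈ W, s w = w := by
  have hfd : FiniteDimensional F V := inferInstance
  by_cases hW : W = ⊥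
  · subst hW
    intro w hw
    rw [Submodule.mem_bot] at hw
    rw [hw, map_zero]
  have hn : Nontrivial W := Submodule.nontrivial_iff_ne_bot.2 hW
  have hnt : Nontrivial (Module.End F W) := Module.End.instNontrivial
  have h3 : ∀ (n : ℕ) (w : W), ((((s.restrict hsW) ^ n) w : W) : V) = (s ^ n) w := by
    intro n
    induction n with
    | zero => intro w; rfl
    | succ n ih => intro w; rw [pow_succ, pow_succ, Module.End.mul_apply, Module.End.mul_apply, ih]; rfl
  have h0 : s.restrict hsW ≠ 0 := by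
    intro h0
    obtain ⟨w, hw, hw0⟩ := Submodule.exists_mem_ne_zero_of_ne_bot hW
    apply hw0
    rw [← hs w hw]
    have h1 := h3 (p ^ k) ⟨w, hw⟩
    rw [h0, zero_pow (pow_ne_zero _ hp.out.ne_zero)] at h1
    exact h1.symm
  have h1 := pow_card_sub_one (g := y.restrict hyW) (hirr.restrict hyW) (s := s.restrict hsW)
    (by ext ⟨v, hv⟩; exact hc v hv) h0
  intro w hw
  refine fix_of_coprime (m := Nat.card W - 1) (n := p ^ k) ?_ (hs w hw) ?_
  · have h4 := congrArg Subtype.val (LinearMap.congr_fun h1 ⟨w, hw⟩)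
    rw [h3] at h4
    exact h4
  · apply Nat.Coprime.pow_right
    rw [Nat.coprime_comm, Nat.Prime.coprime_iff_not_dvd hp.out]
    intro h
    have h4 : p ∣ Nat.card W := by
      rw [Module.natCard_eq_pow_finrank (K := F)]
      exact dvd_pow (dvd_card_F hpF) (Module.finrank_pos.ne')
    have h5 : p ∣ Nat.card W - (Nat.card W - 1) := Nat.dvd_sub h4 h
    have h6 : 0 < Nat.card W := Nat.card_pos
    have h7 : Nat.card W - (Nat.card W - 1) = 1 := by omega
    rw [h7] at h5
    exact hp.out.one_lt.ne' (Nat.dvd_one.1 h5)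

/-- an invariant complement -/
theorem exists_compl_inv {l : ℕ} (hlF : (l : F) ≠ 0) {y : ↥(E Q)} (hy : y ^ l = 1) {U : Submodule F V}
    (hU : ∀ w ∈ U, en Q y w ∈ U) :
    ∃ W : Submodule F V, (∀ w ∈ W, en Q y w ∈ W) ∧ IsCompl U W := by
  have hfin : Finite ↥(E Q) := finite_E
  have h1 : (Nat.card ↥(Subgroup.zpowers y) : F) ≠ 0 := by
    rw [Nat.card_zpowers]
    intro h0
    apply hlF
    obtain ⟨m, hm⟩ := orderOf_dvd_of_pow_eq_one hy
    rw [hm, Nat.cast_mul, h0, zero_mul]
  have hyi : ∀ k : ℕ, ∀ w ∈ U, (en Q y ^ k) w ∈ U := fun k => pow_inv_mem hU k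
  obtain ⟨W, hW, hUW⟩ := GpLn.Rank.exists_compl (A := ↥(Subgroup.zpowers y)) ((en Q).comp (Subgroup.zpowers y).subtype) h1 U
    (by
      rintro ⟨g, hg⟩ w hw
      obtain ⟨k, rfl⟩ := (mem_powers_iff_mem_zpowers (x := y)).2 hg
      change en Q (y ^ k) w ∈ U
      rw [map_pow]
      exact hyi k w hw)
  exact ⟨W, fun w hw => hW ⟨y, Subgroup.mem_zpowers y⟩ w hw, hUW⟩

/-- the structure of `R y` -/
structure Split (Q : QuadraticForm F V) (y : ↥(E Q)) (d : ℕ) (U U' : Submodule F V) : Prop where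
  le : U ≤ R (en Q y)
  le' : U' ≤ R (en Q y)
  inv : ∀ w ∈ U, en Q y w ∈ U
  inv' : ∀ w ∈ U', en Q y w ∈ U'
  dim : finrank F U = d
  dim' : finrank F U' = d
  ti : ∀ u ∈ U, ∀ w ∈ U, polarBilin Q u w = 0
  ti' : ∀ u ∈ U', ∀ w ∈ U', polarBilin Q u w = 0
  inf : U ⊓ U' = ⊥
  sup : U ⊔ U' = R (en Q y)
  all : ∀ X : Submodule F V, X ≤ R (en Q y) → (∀ w ∈ X, en Q y w ∈ X) → X = ⊥ ∨ X = U ∨ X = U' ∨ X = R (en Q y)

theorem Split.symm {y : ↥(E Q)} {d : ℕ} {U U' : Submodule F V} (h : Split Q y d U U') : Split Q y d U' U where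
  le := h.le'
  le' := h.le
  inv := h.inv'
  inv' := h.inv
  dim := h.dim'
  dim' := h.dim
  ti := h.ti'
  ti' := h.ti
  inf := by rw [inf_comm]; exact h.inf
  sup := by rw [sup_comm]; exact h.sup
  all := fun X h1 h2 => by
    rcases h.all X h1 h2 with h3 | h3 | h3 | h3
    · exact Or.inl h3
    · exact Or.inr (Or.inr (Or.inl h3))
    · exact Or.inr (Or.inl h3)
    · exact Or.inr (Or.inr (Or.inr h3))

theorem exists_split [Finite F] (hG : Good Q) {l d : ℕ} [hl : Fact l.Prime] (hl2 : l ≠ 2) (hlF : (l : F) ≠ 0)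
    {y : ↥(E Q)} (hy : y ^ l = 1) (hd : Ordd l (Nat.card F) d) (hld : l ∣ Nat.card F ^ d - 1)
    (hdo : Odd d) (hfr : finrank F (R (en Q y)) = 2 * d) : ∃ U U', Split Q y d U U' := by
  classical
  have hfd : FiniteDimensional F V := inferInstance
  have hd0 : 0 < d := hdo.pos
  have hy' : en Q y ^ l = 1 := by rw [← map_pow, hy, map_one]
  have hyb := isom_en y
  have hb := polar_nondeg hG
  have hyW : ∀ w ∈ R (en Q y), en Q y w ∈ R (en Q y) := fun w hw => R_inv rfl hw
  have hW : R (en Q y) ≠ ⊥ := by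
    intro h
    rw [h, finrank_bot] at hfr
    omega
  have hq1 : 1 ≤ Nat.card F ^ d := Nat.one_le_pow _ _ Nat.card_pos
  -- a proper invariant subspace
  obtain ⟨U, hUW, hyU, hU0, hUne⟩ : ∃ U : Submodule F V, U ≤ R (en Q y) ∧ (∀ w ∈ U, en Q y w ∈ U) ∧ U ≠ ⊥ ∧
      U ≠ R (en Q y) := by
    by_contra hcon
    push Not at hcon
    have hirr : Irr (en Q y) (R (en Q y)) := fun U hU hyU => by
      by_cases h : U = ⊥
      · exact Or.inl h
      · exact Or.inr (hcon U hU hyU h)
    obtain ⟨w, hw, hw0⟩ := Submodule.exists_mem_ne_zero_of_ne_bot hW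
    obtain ⟨m, hm, hU⟩ := unitary_on (l := l - 1) hW hyW hirr (polarBilin Q) (fun u _ v _ => hyb u v)
      (fun v hv hv' => nondeg_R hyb hb hy' hlF hv hv')
      (by rw [Nat.sub_add_cancel hl.out.one_le, hy'])
      ⟨w, hw, fun h1 => hw0 (eq_zero_of_mem hy' hlF (fix_of_sq hl2 hy' h1) hw)⟩
    have hmd : m = d := by omega
    subst hmd
    apply hw0
    refine eq_zero_of_mem hy' hlF ?_ hw
    refine fix_of_coprime (hU (en Q y) hyW (fun w _ => rfl) (fun u _ v _ => hyb u v) w hw)
      (by rw [hy']; rfl) ?_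
    refine ((Nat.Prime.coprime_iff_not_dvd hl.out).2 fun h => ?_).symm
    apply hl2
    have h3 : l ∣ 2 := by
      have h4 : Nat.card F ^ m + 1 - (Nat.card F ^ m - 1) = 2 := by omega
      rw [← h4]
      exact Nat.dvd_sub h hld
    exact (Nat.prime_dvd_prime_iff_eq hl.out Nat.prime_two).1 h3
  have hdim : ∀ X : Submodule F V, X ≤ R (en Q y) → (∀ w ∈ X, en Q y w ∈ X) → X ≠ ⊥ → X ≠ R (en Q y) →
      finrank F X = d := by
    intro X hXW hyX hX0 hXne
    obtain ⟨c, hc⟩ := dvd_finrank_le hd hlF hy' hXW hyX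
    have h1 : finrank F X < finrank F (R (en Q y)) := Submodule.finrank_lt_finrank_of_lt (lt_of_le_of_ne hXW hXne)
    have h2 : finrank F X ≠ 0 := fun h => hX0 (Submodule.finrank_eq_zero.1 h)
    have h3 : c < 2 := by
      by_contra h
      push Not at h
      nlinarith
    interval_cases c <;> omega
  have hirrX : ∀ X : Submodule F V, X ≤ R (en Q y) → (∀ w ∈ X, en Q y w ∈ X) → finrank F X = d → Irr (en Q y) X :=
    fun X hXW hyX hXd => irr_of_lt hd hlF hy' hXW hyX (by omega)
  have hX0 : ∀ X : Submodule F V, finrank F X = d → X ≠ ⊥ := by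
    rintro X hXd rfl
    rw [finrank_bot] at hXd
    omega
  have hne : ∀ X : Submodule F V, finrank F X = d → ¬ Even (finrank F X) := fun X hXd => by
    rw [hXd]; exact Nat.not_even_iff_odd.2 hdo
  have hti : ∀ X : Submodule F V, X ≤ R (en Q y) → (∀ w ∈ X, en Q y w ∈ X) → finrank F X = d →
      ∀ v ∈ X, ∀ u ∈ X, polarBilin Q u v = 0 := by
    intro X hXW hyX hXd
    rcases rad_of_irr hy' hyb hyX (hirrX X hXW hyX hXd) with h | h
    · exact absurd (even_of_irr hl2 hlF hy' hXW hyX (hirrX X hXW hyX hXd) (hX0 X hXd) (polarBilin Q)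
        (fun u _ v _ => hyb u v) h) (hne X hXd)
    · exact h
  have hUd := hdim U hUW hyU hU0 hUne
  obtain ⟨W, hyWc, hUWc⟩ := exists_compl_inv hlF hy hyU
  set U' := W ⊓ R (en Q y) with hU'
  have hyU' : ∀ w ∈ U', en Q y w ∈ U' := fun w hw => ⟨hyWc w hw.1, hyW w hw.2⟩
  have hinf : U ⊓ U' = ⊥ := by
    rw [eq_bot_iff]
    rintro x ⟨hx, hx'⟩
    rw [← hUWc.inf_eq_bot]
    exact ⟨hx, hx'.1⟩
  have hsup : U ⊔ U' = R (en Q y) := by
    apply le_antisymm (sup_le hUW inf_le_right)
    intro x hx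
    have h1 : x ∈ U ⊔ W := by rw [hUWc.sup_eq_top]; exact Submodule.mem_top
    obtain ⟨a, ha, c, hc, rfl⟩ := Submodule.mem_sup.1 h1
    refine Submodule.add_mem_sup ha ⟨hc, ?_⟩
    have h2 : c = (a + c) - a := by abel
    rw [h2]
    exact Submodule.sub_mem _ hx (hUW ha)
  have hU'd : finrank F U' = d := by
    have h1 := Submodule.finrank_sup_add_finrank_inf_eq U U'
    rw [hsup, hinf, finrank_bot, hfr, hUd] at h1
    omega
  refine ⟨U, U', hUW, inf_le_right, hyU, hyU', hUd, hU'd, fun u hu w hw => hti U hUW hyU hUd w hw u hu,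
    fun u hu w hw => hti U' inf_le_right hyU' hU'd w hw u hu, hinf, hsup, fun X hXW hyX => ?_⟩
  by_contra hcon
  push Not at hcon
  obtain ⟨c1, c2, c3, c4⟩ := hcon
  have hXd := hdim X hXW hyX c1 c4
  have hirr := hirrX X hXW hyX hXd
  -- `X ∩ U = 0 = X ∩ U'`
  have hcap : ∀ Y : Submodule F V, (∀ w ∈ Y, en Q y w ∈ Y) → finrank F Y = d → X ≠ Y → X ⊓ Y = ⊥ := by
    intro Y hyY hYd hXY
    rcases hirr (X ⊓ Y) inf_le_left (fun u hu => ⟨hyX u hu.1, hyY u hu.2⟩) with h | h
    · exact h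
    · exfalso
      apply hXY
      apply Submodule.eq_of_le_of_finrank_eq (inf_eq_left.1 h) (by rw [hXd, hYd])
  have hXU := hcap U hyU hUd c2
  have hXU' := hcap U' hyU' hU'd c3
  -- the projection
  let π : V →ₗ[F] V := U.subtype ∘ₗ U.projectionOnto W hUWc
  have hπU : ∀ v, π v ∈ U := fun v => (U.projectionOnto W hUWc v).2
  have hπ1 : ∀ u ∈ U, π u = u := by
    intro u hu
    change ((U.projectionOnto W hUWc u : U) : V) = u
    rw [Submodule.projectionOnto_apply_left hUWc ⟨u, hu⟩]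
  have hπ0 : ∀ w ∈ W, π w = 0 := by
    intro w hw
    change ((U.projectionOnto W hUWc w : U) : V) = 0
    rw [Submodule.projectionOnto_apply_eq_zero_iff hUWc |>.2 hw]
    rfl
  have hdec : ∀ v, v - π v ∈ W := by
    intro v
    have h1 : v ∈ U ⊔ W := by rw [hUWc.sup_eq_top]; exact Submodule.mem_top
    obtain ⟨a, ha, c, hc, rfl⟩ := Submodule.mem_sup.1 h1
    rw [map_add, hπ1 a ha, hπ0 c hc, add_zero, add_sub_cancel_left]
    exact hc
  have hπy : ∀ v, π (en Q y v) = en Q y (π v) := by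
    intro v
    have h1 : en Q y v = en Q y (π v) + en Q y (v - π v) := by rw [← map_add]; congr 1; abel
    rw [h1, map_add, hπ1 _ (hyU _ (hπU v)), hπ0 _ (hyWc _ (hdec v)), add_zero]
  apply hne X hXd
  refine even_of_irr hl2 hlF hy' hXW hyX hirr c1 (LinearMap.BilinForm.compLeft (polarBilin Q) π) (fun u _ v _ => ?_) fun v hv hv' => ?_
  · rw [LinearMap.BilinForm.compLeft_apply, LinearMap.BilinForm.compLeft_apply, hπy, hyb]
  · -- `π` maps `X` onto `U`
    have hXπ : ∀ u ∈ U, ∃ x ∈ X, π x = u := by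
      have h1 : Function.Injective (π.domRestrict X) := by
        rw [← LinearMap.ker_eq_bot, LinearMap.ker_eq_bot']
        rintro ⟨x, hx⟩ h0
        apply Subtype.ext
        change x = 0
        have h2 : x ∈ X ⊓ U' := by
          refine ⟨hx, ?_, hXW hx⟩
          have h3 := hdec x
          rw [show π x = 0 from h0, sub_zero] at h3
          exact h3
        rw [hXU'] at h2
        exact h2
      have h2 : LinearMap.range (π.domRestrict X) = U := by
        apply Submodule.eq_of_le_of_finrank_eq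
        · rintro _ ⟨x, rfl⟩
          exact hπU _
        · rw [LinearMap.finrank_range_of_inj h1, hXd, hUd]
      intro u hu
      rw [← h2] at hu
      obtain ⟨x, hx⟩ := hu
      exact ⟨x, x.2, hx⟩
    have h1 : ∀ u ∈ U, polarBilin Q u v = 0 := by
      intro u hu
      obtain ⟨x, hx, rfl⟩ := hXπ u hu
      exact hv' x hx
    have h2 : v - π v = 0 := by
      have hmem : v - π v ∈ R (en Q y) := Submodule.sub_mem _ (hXW hv) (hUW (hπU v))
      refine nondeg_R hyb hb hy' hlF hmem fun u hu => ?_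
      rw [← hsup] at hu
      obtain ⟨a, ha, c, hc, rfl⟩ := Submodule.mem_sup.1 hu
      rw [map_add, LinearMap.add_apply, map_sub, h1 a ha, hti U hUW hyU hUd _ (hπU v) a ha, sub_zero,
        hti U' inf_le_right hyU' hU'd _ ⟨hdec v, hmem⟩ c hc, add_zero]
    have h3 : v ∈ X ⊓ U := ⟨hv, by rw [sub_eq_zero.1 h2]; exact hπU v⟩
    rw [hXU] at h3
    exact h3

/-- the centraliser of `y` preserves `U` -/
theorem Split.comm_inv [Finite F] (hG : Good Q) {l d : ℕ} [hl : Fact l.Prime] (hl2 : l ≠ 2) (hlF : (l : F) ≠ 0)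
    {y : ↥(E Q)} (hy : y ^ l = 1) (hd : Ordd l (Nat.card F) d) (hdo : Odd d) {U U' : Submodule F V}
    (h : Split Q y d U U') {s : ↥(E Q)} (hs : s * y = y * s) : ∀ w ∈ U, en Q s w ∈ U := by
  have hfd : FiniteDimensional F V := inferInstance
  have hd0 : 0 < d := hdo.pos
  have hy' : en Q y ^ l = 1 := by rw [← map_pow, hy, map_one]
  have hsy : ∀ w, en Q s (en Q y w) = en Q y (en Q s w) := fun w => by
    rw [← Module.End.mul_apply, ← Module.End.mul_apply, ← map_mul, ← map_mul, hs]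
  have hinj : Function.Injective (en Q s) := (s : V ≃ₗ[F] V).injective
  have hfr : finrank F (R (en Q y)) = 2 * d := by
    have h1 := Submodule.finrank_sup_add_finrank_inf_eq U U'
    rw [h.sup, h.inf, finrank_bot, h.dim, h.dim'] at h1
    omega
  have h1 : (U.map (en Q s)) ≤ R (en Q y) := by
    rintro _ ⟨w, hw, rfl⟩
    exact R_inv (by rw [← map_mul, hs, map_mul]) (h.le hw)
  have h2 : ∀ w ∈ U.map (en Q s), en Q y w ∈ U.map (en Q s) := by
    rintro _ ⟨w, hw, rfl⟩
    exact ⟨en Q y w, h.inv w hw, hsy w⟩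
  have h3 : finrank F (U.map (en Q s)) = d := by
    rw [← h.dim]
    exact (Submodule.equivMapOfInjective (en Q s) hinj U).symm.finrank_eq
  rcases h.all _ h1 h2 with h4 | h4 | h4 | h4
  · rw [h4, finrank_bot] at h3
    omega
  · intro w hw
    rw [← h4]
    exact ⟨w, hw, rfl⟩
  · exfalso
    have hirr : Irr (en Q y) U := irr_of_lt hd hlF hy' h.le h.inv (by rw [h.dim]; omega)
    have hU0 : U ≠ ⊥ := by
      intro h0
      have h5 := h.dim
      rw [h0, finrank_bot] at h5
      omega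
    have h5 := even_of_irr hl2 hlF hy' h.le h.inv hirr hU0 (LinearMap.BilinForm.compRight (polarBilin Q) (en Q s)) (fun u _ v _ => by
      rw [LinearMap.BilinForm.compRight_apply, LinearMap.BilinForm.compRight_apply, hsy, isom_en]) (fun v hv hv' => by
        apply hinj
        rw [map_zero]
        have h6 : en Q s v ∈ U' := by rw [← h4]; exact ⟨v, hv, rfl⟩
        refine nondeg_R (isom_en y) (polar_nondeg hG) hy' hlF (h.le' h6) fun u hu => ?_
        rw [← h.sup] at hu
        obtain ⟨a, ha, c, hc, rfl⟩ := Submodule.mem_sup.1 hu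
        rw [map_add, LinearMap.add_apply, h.ti' c hc _ h6, add_zero]
        exact hv' a ha)
    rw [h.dim] at h5
    exact (Nat.not_even_iff_odd.2 hdo) h5
  · rw [h4, hfr] at h3
    omega

end fin

end Cfsg.Agent.H14.PD
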